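import Mathlib.FieldTheory.IsAlgClosed.Basic
import Mathlib.FieldTheory.Separable
import Mathlib.LinearAlgebra.Dimension.Finite
import Mathlib.LinearAlgebra.Basis.VectorSpace
import Mathlib.LinearAlgebra.FiniteDimensional.Basic
import Mathlib.Algebra.CharP.Frobenius
import Mathlib.RingTheory.Polynomial.Basic
import Mathlib.Tactic.LinearCombination

set_option autoImplicit false

namespace Groth.Agent.CAlg8.SemilinearLang

universe u v

theorem exists_fixed (k : Type u) [Field k] [IsAlgClosed k] (q : ℕ) (hq : 1 < q) (hqk : (q : k) = 0)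
    (V : Type v) [AddCommGroup V] [Module k V] [FiniteDimensional k V] [Nontrivial V]
    (φ : V →+ V) (hφ : ∀ (a : k) (v : V), φ (a • v) = a ^ q • φ v) (hbij : Function.Bijective φ) :
    ∃ w : V, w ≠ 0 ∧ φ w = w := by
  classical
  obtain ⟨v, hv⟩ := exists_ne (0 : V)
  let e : ℕ → V := fun i => (⇑φ)^[i] v
  have he : ∀ i, φ (e i) = e (i + 1) := fun i => (Function.iterate_succ_apply' (⇑φ) i v).symm
  have hex : ∃ r, e r ∈ Submodule.span k (e '' (Finset.range r : Set ℕ)) := by
    by_contra h
    push Not at h
    have : ∀ r, LinearIndepOn k e (Finset.range r : Set ℕ) := by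
      intro r
      induction r with
      | zero => simp
      | succ r ih =>
        rw [Finset.range_add_one, Finset.coe_insert]
        exact ih.insert (h r)
    have := (this (Module.finrank k V + 1)).linearIndependent.fintype_card_le_finrank
    simp at this
  obtain ⟨r, hr, hmin⟩ : ∃ r, e r ∈ Submodule.span k (e '' (Finset.range r : Set ℕ)) ∧
      ∀ s < r, e s ∉ Submodule.span k (e '' (Finset.range s : Set ℕ)) :=
    ⟨Nat.find hex, Nat.find_spec hex, fun s hs => Nat.find_min hex hs⟩
  obtain ⟨a, ha⟩ := (Submodule.mem_span_image_finset_iff_exists_fun' (R := k)).mp hr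
  have hli : ∀ s ≤ r, LinearIndepOn k e (Finset.range s : Set ℕ) := by
    intro s
    induction s with
    | zero => simp
    | succ s ih =>
      intro hs
      rw [Finset.range_add_one, Finset.coe_insert]
      exact (ih (by omega)).insert (hmin s (by omega))
  obtain ⟨m, rfl⟩ : ∃ m, r = m + 1 := by
    refine Nat.exists_eq_succ_of_ne_zero ?_
    rintro rfl
    simp [e] at ha
    exact hv ha.symm
  rw [Finset.sum_range_succ'] at ha
  have ha0 : a 0 ≠ 0 := by
    intro h0
    choose b hb using fun i => IsAlgClosed.exists_pow_nat_eq (a (i + 1)) (by omega : 0 < q)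
    have : e (m+1) = φ (∑ i ∈ Finset.range m, b i • e i) := by
      rw [← ha, h0, zero_smul, add_zero, map_sum]
      exact Finset.sum_congr rfl fun i _ => by rw [hφ, hb, he]
    refine hmin m (Nat.lt_succ_self m) ?_
    rw [hbij.1 ((he m).trans this)]
    exact Submodule.sum_mem _ fun i hi =>
      Submodule.smul_mem _ _ (Submodule.subset_span ⟨i, hi, rfl⟩)
  let P : ℕ → Polynomial k := fun i => Nat.rec (Polynomial.C (a 0) * Polynomial.X ^ q)
    (fun j pj => pj ^ q + Polynomial.C (a (j + 1)) * Polynomial.X ^ q) i
  have hP : ∀ i, (P i).natDegree = q ^ (i + 1) ∧ (P i).derivative = 0 := by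
    intro i
    induction i with
    | zero =>
      exact ⟨by simp [P, Polynomial.natDegree_C_mul_X_pow q (a 0) ha0],
        by simp [P, Polynomial.derivative_X_pow, hqk]⟩
    | succ i ih =>
      show (P i ^ q + Polynomial.C (a (i + 1)) * Polynomial.X ^ q).natDegree = _ ∧
        (P i ^ q + Polynomial.C (a (i + 1)) * Polynomial.X ^ q).derivative = 0
      refine ⟨?_, by simp [Polynomial.derivative_pow, Polynomial.derivative_X_pow, hqk]⟩
      have hlt : (Polynomial.C (a (i + 1)) * Polynomial.X ^ q).natDegree < (P i ^ q).natDegree := by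
        refine lt_of_le_of_lt (Polynomial.natDegree_C_mul_X_pow_le _ _) ?_
        rw [Polynomial.natDegree_pow, ih.1, ← pow_succ']
        exact lt_self_pow₀ hq (by omega)
      rw [Polynomial.natDegree_add_eq_left_of_natDegree_lt hlt, Polynomial.natDegree_pow, ih.1, ← pow_succ']
  let Q := P m - Polynomial.X
  have hQd : Q.natDegree = q ^ (m + 1) := by
    rw [Polynomial.natDegree_sub_eq_left_of_natDegree_lt, (hP m).1]
    rw [(hP m).1, Polynomial.natDegree_X]
    exact Nat.one_lt_pow (by omega) hq
  have hQs : Q.Separable := by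
    rw [Polynomial.separable_def, show Q.derivative = -1 by simp [Q, (hP m).2]]
    exact isCoprime_one_right.neg_right
  obtain ⟨x, hxQ, hx0⟩ : ∃ x ∈ Q.roots, x ≠ 0 := by
    by_contra h
    push Not at h
    have h1 : Q.roots = Multiset.replicate (Multiset.card Q.roots) 0 := Multiset.eq_replicate_card.mpr h
    have h2 : Multiset.card Q.roots = q ^ (m + 1) := hQd ▸ (IsAlgClosed.splits Q).natDegree_eq_card_roots.symm
    have h3 := Multiset.nodup_iff_count_le_one.mp (Polynomial.nodup_roots hQs) 0
    rw [h1, Multiset.count_replicate_self, h2] at h3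
    exact absurd h3 (not_le.mpr (Nat.one_lt_pow (by omega) hq))
  have hxm : (P m).eval x = x := by
    have := (Polynomial.mem_roots'.mp hxQ).2
    simpa [Q, sub_eq_zero] using this
  refine ⟨∑ i ∈ Finset.range (m + 1), (P i).eval x • e i, fun h0 => hx0 ?_, ?_⟩
  · rw [← hxm]
    have := linearIndepOn_iff''.mp (hli _ le_rfl) (Finset.range (m+1))
      (fun i => if i ∈ Finset.range (m+1) then (P i).eval x else 0) subset_rfl
      (fun i hi => if_neg hi)
      (by rw [← h0]; exact Finset.sum_congr rfl fun i hi => by rw [if_pos hi]) m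
    simpa using this
  · calc φ (∑ i ∈ Finset.range (m + 1), (P i).eval x • e i)
        = (∑ i ∈ Finset.range m, (P i).eval x ^ q • e (i + 1)) + x ^ q • e (m + 1) := by
          rw [map_sum, Finset.sum_range_succ]
          simp only [hφ, he, hxm]
      _ = ∑ i ∈ Finset.range m, (P (i + 1)).eval x • e (i + 1) + (P 0).eval x • e 0 := by
          rw [← ha, smul_add, ← add_assoc, Finset.smul_sum, ← Finset.sum_add_distrib]
          congr 1
          · refine Finset.sum_congr rfl fun i _ => ?_
            rw [smul_smul, ← add_smul]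
            congr 1
            show _ = (P i ^ q + Polynomial.C (a (i + 1)) * Polynomial.X ^ q).eval x
            rw [Polynomial.eval_add, Polynomial.eval_pow, Polynomial.eval_mul, Polynomial.eval_C, Polynomial.eval_pow, Polynomial.eval_X]; ring
          · rw [smul_smul]
            show _ = (Polynomial.C (a 0) * Polynomial.X ^ q).eval x • e 0
            rw [Polynomial.eval_mul, Polynomial.eval_C, Polynomial.eval_pow, Polynomial.eval_X, mul_comm]
      _ = ∑ i ∈ Finset.range (m + 1), (P i).eval x • e i := by rw [Finset.sum_range_succ']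

theorem span_fixed_eq_top (k : Type u) [Field k] [IsAlgClosed k]
    (p : ℕ) [Fact p.Prime] [CharP k p] (ν : ℕ) (hν : 1 ≤ ν)
    (n : ℕ) : ∀ (V : Type v) [AddCommGroup V] [Module k V] [FiniteDimensional k V]
    (φ : V →ₛₗ[iterateFrobenius k p ν] V), Function.Bijective φ → Module.finrank k V = n →
    Submodule.span k {v : V | φ v = v} = ⊤ := by
  induction n with
  | zero =>
    intro V _ _ _ φ _ hn
    have := Module.finrank_zero_iff (R := k) (M := V) |>.mp hn
    exact Subsingleton.elim _ _
  | succ n ih =>
    intro V _ _ _ φ hφ hn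
    have : Nontrivial V := Module.nontrivial_of_finrank_eq_succ hn
    have hq : 1 < p ^ ν := Nat.one_lt_pow (by omega) (Fact.out : p.Prime).one_lt
    obtain ⟨w, hw0, hw⟩ := exists_fixed k (p ^ ν) hq (by simp [show ν ≠ 0 by omega]) V φ.toAddMonoidHom
      (fun a v => by simpa [iterateFrobenius_def] using φ.map_smulₛₗ a v) hφ
    replace hw : φ w = w := hw
    set U : Submodule k V := k ∙ w
    have hU : U ≤ U.comap φ := by
      rw [Submodule.span_le]
      simp [hw, U]
    let φb : (V ⧸ U) →ₛₗ[iterateFrobenius k p ν] (V ⧸ U) := U.mapQ U φ hU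
    have hb : Function.Bijective φb := by
      refine ⟨?_, fun y => ?_⟩
      · rw [injective_iff_map_eq_zero]
        intro y hy
        obtain ⟨y, rfl⟩ := U.mkQ_surjective y
        have : φ y ∈ U := (Submodule.Quotient.mk_eq_zero U).mp hy
        obtain ⟨c, hc⟩ := Submodule.mem_span_singleton.mp this
        obtain ⟨d, rfl⟩ := IsAlgClosed.exists_pow_nat_eq c (zero_lt_one.trans hq)
        have : φ (d • w) = φ y := by rw [φ.map_smulₛₗ, hw, iterateFrobenius_def, hc]
        rw [← hφ.1 this]
        exact (Submodule.Quotient.mk_eq_zero U).mpr (Submodule.smul_mem _ _ (Submodule.mem_span_singleton_self w))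
      · obtain ⟨y, rfl⟩ := U.mkQ_surjective y
        obtain ⟨x, rfl⟩ := hφ.2 y
        exact ⟨U.mkQ x, rfl⟩
    have hdim : Module.finrank k (V ⧸ U) = n := by
      have := U.finrank_quotient_add_finrank
      rw [finrank_span_singleton hw0, hn] at this
      omega
    have hbar := ih (V ⧸ U) φb hb hdim
    set S := Submodule.span k {v : V | φ v = v}
    have hwS : U ≤ S := by
      rw [Submodule.span_le, Set.singleton_subset_iff]
      exact Submodule.subset_span hw
    have hsub : {v : V ⧸ U | φb v = v} ⊆ (S.map U.mkQ : Set (V ⧸ U)) := by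
      intro y hy
      obtain ⟨y, rfl⟩ := U.mkQ_surjective y
      have : φ y - y ∈ U := (Submodule.Quotient.eq U).mp hy
      obtain ⟨c, hc⟩ := Submodule.mem_span_singleton.mp this
      obtain ⟨t, ht⟩ := IsAlgClosed.exists_root (Polynomial.X ^ (p ^ ν) - Polynomial.X + Polynomial.C c) (by
        have h1 : (Polynomial.X : Polynomial k).degree < (Polynomial.X ^ (p ^ ν) : Polynomial k).degree := by
          rw [Polynomial.degree_X, Polynomial.degree_X_pow]; exact_mod_cast hq
        have h2 : (Polynomial.X ^ (p ^ ν) - Polynomial.X : Polynomial k).degree = (p ^ ν : ℕ) := by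
          rw [Polynomial.degree_sub_eq_left_of_degree_lt h1, Polynomial.degree_X_pow]
        rw [Polynomial.degree_add_C (by rw [h2]; exact_mod_cast zero_lt_one.trans hq), h2]
        exact_mod_cast (pow_pos (Fact.out : p.Prime).pos ν).ne')
      simp at ht
      refine ⟨y + t • w, Submodule.subset_span ?_, ?_⟩
      · show φ (y + t • w) = y + t • w
        rw [map_add, φ.map_smulₛₗ, hw, iterateFrobenius_def, ← sub_eq_zero]
        have e : t ^ p ^ ν = t - c := by linear_combination ht
        rw [e, sub_smul, hc]; abel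
      · simp [(Submodule.Quotient.mk_eq_zero U).mpr (Submodule.smul_mem _ t (Submodule.mem_span_singleton_self w))]
    have htop : S.map U.mkQ = ⊤ := top_le_iff.mp (hbar ▸ Submodule.span_le.mpr hsub)
    have := congrArg (Submodule.comap U.mkQ) htop
    rw [Submodule.comap_map_eq, Submodule.comap_top, Submodule.ker_mkQ, sup_eq_left.mpr hwS] at this
    exact this

theorem surjective_sub_id (k : Type u) [Field k] [IsAlgClosed k]
    (p : ℕ) [Fact p.Prime] [CharP k p] (ν : ℕ) (hν : 1 ≤ ν)
    (V : Type v) [AddCommGroup V] [Module k V] [FiniteDimensional k V]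
    (φ : V →ₛₗ[iterateFrobenius k p ν] V) (hφ : Function.Bijective φ) :
    Function.Surjective fun v : V => φ v - v := by
  intro y
  have hy : y ∈ Submodule.span k {v : V | φ v = v} :=
    (span_fixed_eq_top k p ν hν _ V φ hφ rfl).symm ▸ Submodule.mem_top
  induction hy using Submodule.closure_induction with
  | zero => exact ⟨0, by simp⟩
  | add x z _ _ hx hz =>
    obtain ⟨a, rfl⟩ := hx
    obtain ⟨b, rfl⟩ := hz
    exact ⟨a + b, by simp only [map_add]; abel⟩
  | smul_mem c x hx =>
    have hq : 1 < p ^ ν := Nat.one_lt_pow (by omega) (Fact.out : p.Prime).one_lt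
    obtain ⟨t, ht⟩ := IsAlgClosed.exists_root (Polynomial.X ^ (p ^ ν) + (-Polynomial.X - Polynomial.C c)) (by
      rw [Polynomial.degree_add_eq_left_of_degree_lt, Polynomial.degree_X_pow]
      · exact_mod_cast (zero_lt_one.trans hq).ne'
      · rw [Polynomial.degree_X_pow, ← Polynomial.degree_neg]
        refine lt_of_le_of_lt ((Polynomial.degree_le_natDegree).trans (WithBot.coe_le_coe.mpr (le_of_eq ?_))) (WithBot.coe_lt_coe.mpr hq)
        simp)
    simp at ht
    refine ⟨t • x, ?_⟩
    show φ (t • x) - t • x = c • x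
    rw [φ.map_smulₛₗ, show φ x = x from hx, iterateFrobenius_def, ← sub_smul]
    congr 1
    linear_combination ht

end Groth.Agent.CAlg8.SemilinearLang
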