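import Mathlib.RingTheory.Flat.Equalizer
import Mathlib.RingTheory.Flat.Tensor
import Mathlib.RingTheory.Artinian.Ring
import Mathlib.RingTheory.LocalRing.ResidueField.Basic
import Mathlib.LinearAlgebra.TensorProduct.Quotient
import Mathlib.LinearAlgebra.TensorProduct.Tower
import Mathlib.LinearAlgebra.TensorProduct.RightExactness
import Mathlib.LinearAlgebra.FreeModule.Basic
import Mathlib.LinearAlgebra.Basis.VectorSpace
import Mathlib.Algebra.Module.Torsion.Basic

namespace Groth.Agent.CAlg8.NilFlat

universe u v w

open TensorProduct LinearMap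

variable {A : Type u} [CommRing A]

theorem eq_top_of_sup_smul_eq_top {I : Ideal A} (hI : IsNilpotent I) {M : Type v} [AddCommGroup M] [Module A M]
    {N : Submodule A M} (h : N ⊔ I • (⊤ : Submodule A M) = ⊤) : N = ⊤ := by
  have hk : ∀ k : ℕ, N ⊔ I ^ k • (⊤ : Submodule A M) = ⊤ := by
    intro k
    induction k with
    | zero => simp
    | succ k ih =>
      refine le_antisymm le_top ?_
      calc (⊤ : Submodule A M) = N ⊔ I • (⊤ : Submodule A M) := h.symm
        _ = N ⊔ I • (N ⊔ I ^ k • (⊤ : Submodule A M)) := by rw [ih]
        _ ≤ N ⊔ I ^ (k + 1) • (⊤ : Submodule A M) := by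
          rw [Submodule.smul_sup, ← mul_smul, ← pow_succ']
          exact sup_le le_sup_left (sup_le (le_sup_of_le_left Submodule.smul_le_right) le_sup_right)
  obtain ⟨n, hn⟩ := hI
  have := hk n
  simpa [hn] using this

theorem subsingleton_of_quotient_tensor {I : Ideal A} (hI : IsNilpotent I) {M : Type v} [AddCommGroup M]
    [Module A M] (h : Subsingleton ((A ⧸ I) ⊗[A] M)) : Subsingleton M := by
  have h2 : Subsingleton (M ⧸ (I • (⊤ : Submodule A M))) :=
    (TensorProduct.quotTensorEquivQuotSMul M I).symm.injective.subsingleton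
  have h3 : (⊥ : Submodule A M) ⊔ I • (⊤ : Submodule A M) = ⊤ := by
    rw [bot_sup_eq]; exact Submodule.Quotient.subsingleton_iff.mp h2
  exact (Submodule.subsingleton_iff A).mp (subsingleton_of_bot_eq_top (eq_top_of_sup_smul_eq_top hI h3))

theorem surjective_of_lTensor_quotient {I : Ideal A} (hI : IsNilpotent I) {M : Type v} {N : Type w}
    [AddCommGroup M] [Module A M] [AddCommGroup N] [Module A N] (f : M →ₗ[A] N)
    (hf : Function.Surjective (f.lTensor (A ⧸ I))) : Function.Surjective f := by
  have hex := lTensor_exact (A ⧸ I) (LinearMap.exact_map_mkQ_range f) (Submodule.mkQ_surjective _)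
  have : Subsingleton ((A ⧸ I) ⊗[A] (N ⧸ LinearMap.range f)) := by
    refine subsingleton_of_forall_eq 0 fun z => ?_
    obtain ⟨y, rfl⟩ := LinearMap.lTensor_surjective (A ⧸ I) (Submodule.mkQ_surjective _) z
    exact (hex y).mpr (hf y)
  have := subsingleton_of_quotient_tensor hI this
  exact LinearMap.range_eq_top.mp (Submodule.Quotient.subsingleton_iff.mp this)

/-- An ideal which is maximal: modules killed by it are vector spaces over the quotient. -/
theorem lTensor_injective_of_torsion {m : Ideal A} [m.IsMaximal] {P : Type v} {L : Type w}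
    [AddCommGroup P] [Module A P] [AddCommGroup L] [Module A L] (h : P →ₗ[A] L)
    (hk : Function.Injective (h.lTensor (A ⧸ m))) (X : Type u) [AddCommGroup X] [Module A X]
    (hX : Module.IsTorsionBySet A X (m : Set A)) : Function.Injective (h.lTensor X) := by
  let _ : Field (A ⧸ m) := Ideal.Quotient.field m
  let _ : Module (A ⧸ m) X := hX.module
  have : IsScalarTower A (A ⧸ m) X := hX.isScalarTower
  let e₁ := AlgebraTensorModule.cancelBaseChange A (A ⧸ m) (A ⧸ m) X P
  let e₂ := AlgebraTensorModule.cancelBaseChange A (A ⧸ m) (A ⧸ m) X L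
  have hinj : Function.Injective ((h.baseChange (A ⧸ m)).lTensor X) :=
    Module.Flat.lTensor_preserves_injective_linearMap _ (by simpa [LinearMap.baseChange_eq_ltensor] using hk)
  have hcomm : ∀ z, e₂ ((h.baseChange (A ⧸ m)).lTensor X z) = h.lTensor X (e₁ z) := by
    intro z
    induction z using TensorProduct.induction_on with
    | zero => simp
    | tmul x y =>
      induction y using TensorProduct.induction_on with
      | zero => simp
      | tmul a b => simp [e₁, e₂]
      | add y z hy hz => rw [tmul_add]; simp only [map_add] at hy hz ⊢; rw [hy, hz]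
    | add y z hy hz => simp only [map_add] at hy hz ⊢; rw [hy, hz]
  intro a b hab
  obtain ⟨a, rfl⟩ := e₁.surjective a
  obtain ⟨b, rfl⟩ := e₁.surjective b
  rw [← hcomm, ← hcomm] at hab
  rw [hinj (e₂.injective hab)]

/-- A map into a flat module which is injective modulo a nilpotent maximal ideal is universally
injective. -/
theorem lTensor_injective_of_flat {m : Ideal A} [m.IsMaximal] (hm : IsNilpotent m) {P : Type v} {L : Type w}
    [AddCommGroup P] [Module A P] [AddCommGroup L] [Module A L] [Module.Flat A L] (h : P →ₗ[A] L)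
    (hk : Function.Injective (h.lTensor (A ⧸ m))) (X : Type u) [AddCommGroup X] [Module A X] :
    Function.Injective (h.lTensor X) := by
  suffices ∀ (n : ℕ) (X : Type u) [AddCommGroup X] [Module A X],
      m ^ n • (⊤ : Submodule A X) = ⊥ → Function.Injective (h.lTensor X) by
    obtain ⟨n, hn⟩ := hm
    exact this n X (by rw [hn, Submodule.zero_eq_bot, Submodule.bot_smul])
  intro n
  induction n with
  | zero =>
    intro X _ _ hX
    have : Subsingleton X := (Submodule.subsingleton_iff A).mp
      (subsingleton_of_bot_eq_top (by simpa using hX.symm))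
    exact fun a b _ => Subsingleton.elim _ _
  | succ n ih =>
    intro X _ _ hX
    let S : Submodule A X := m • ⊤
    have hS : m ^ n • (⊤ : Submodule A S) = ⊥ := by
      refine Submodule.map_injective_of_injective S.subtype_injective ?_
      rw [Submodule.map_smul'', Submodule.map_top, Submodule.range_subtype, Submodule.map_bot,
        ← mul_smul, ← pow_succ, hX]
    have hQ : Module.IsTorsionBySet A (X ⧸ S) (m : Set A) := by
      intro x ⟨a, ha⟩
      obtain ⟨x, rfl⟩ := Submodule.Quotient.mk_surjective S x
      rw [← Submodule.Quotient.mk_smul, Submodule.Quotient.mk_eq_zero]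
      exact Submodule.smul_mem_smul ha Submodule.mem_top
    rw [injective_iff_map_eq_zero]
    intro z hz
    have h1 : S.mkQ.rTensor P z = 0 := by
      apply lTensor_injective_of_torsion h hk (X ⧸ S) hQ
      rw [map_zero, ← LinearMap.comp_apply, LinearMap.lTensor_comp_rTensor,
        ← LinearMap.rTensor_comp_lTensor, LinearMap.comp_apply, hz, map_zero]
    obtain ⟨y, rfl⟩ := (rTensor_exact P (LinearMap.exact_subtype_mkQ S) (Submodule.mkQ_surjective _) z).mp h1
    have h2 : h.lTensor S y = 0 := by
      apply Module.Flat.rTensor_preserves_injective_linearMap (M := L) S.subtype S.subtype_injective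
      rw [map_zero, ← LinearMap.comp_apply, LinearMap.rTensor_comp_lTensor,
        ← LinearMap.lTensor_comp_rTensor, LinearMap.comp_apply, hz]
    rw [ih S hS (h2.trans (map_zero _).symm), map_zero]

theorem injective_of_lTensor_quotient {m : Ideal A} [m.IsMaximal] (hm : IsNilpotent m) {P : Type v} {L : Type w}
    [AddCommGroup P] [Module A P] [AddCommGroup L] [Module A L] [Module.Flat A L] (h : P →ₗ[A] L)
    (hk : Function.Injective (h.lTensor (A ⧸ m))) : Function.Injective h := by
  intro a b hab
  apply (TensorProduct.lid A P).symm.injective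
  apply lTensor_injective_of_flat hm h hk A
  simp [hab]

theorem flat_cokernel {m : Ideal A} [m.IsMaximal] (hm : IsNilpotent m)
    {M N P : Type*} [AddCommGroup M] [Module A M] [AddCommGroup N] [Module A N]
    [AddCommGroup P] [Module A P] [Module.Flat A N] (f : M →ₗ[A] N) (g : N →ₗ[A] P)
    (hg : Function.Surjective g) (hfg : Function.Exact f g)
    (hk : Function.Injective (f.lTensor (A ⧸ m))) : Module.Flat A P := by
  rw [Module.Flat.iff_rTensor_injective']
  intro J
  rw [injective_iff_map_eq_zero]
  intro z hz
  obtain ⟨y, rfl⟩ := LinearMap.lTensor_surjective J hg z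
  have h1 : g.lTensor A (J.subtype.rTensor N y) = 0 := by
    rw [← LinearMap.comp_apply, LinearMap.lTensor_comp_rTensor, ← LinearMap.rTensor_comp_lTensor,
      LinearMap.comp_apply, hz]
  obtain ⟨x, hx⟩ := (lTensor_exact A hfg hg _).mp h1
  have h2 : (Submodule.mkQ J).rTensor M x = 0 := by
    apply lTensor_injective_of_flat hm f hk (A ⧸ J)
    rw [map_zero, ← LinearMap.comp_apply, LinearMap.lTensor_comp_rTensor,
      ← LinearMap.rTensor_comp_lTensor, LinearMap.comp_apply, hx, ← LinearMap.comp_apply,
      ← LinearMap.rTensor_comp]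
    have : (Submodule.mkQ J) ∘ₗ J.subtype = 0 := by
      ext a; simpa using (Submodule.Quotient.mk_eq_zero J).mpr a.2
    rw [this, LinearMap.rTensor_zero, LinearMap.zero_apply]
  obtain ⟨w, rfl⟩ := (rTensor_exact M (LinearMap.exact_subtype_mkQ J) (Submodule.mkQ_surjective _) x).mp h2
  have h3 : y = f.lTensor J w := by
    apply Module.Flat.rTensor_preserves_injective_linearMap (M := N) J.subtype J.subtype_injective
    rw [← hx, ← LinearMap.comp_apply, LinearMap.lTensor_comp_rTensor,
      ← LinearMap.rTensor_comp_lTensor, LinearMap.comp_apply]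
  rw [h3, ← LinearMap.comp_apply, ← LinearMap.lTensor_comp, hfg.linearMap_comp_eq_zero,
    LinearMap.lTensor_zero, LinearMap.zero_apply]

theorem flat_kernel {M N P : Type*} [AddCommGroup M] [Module A M] [AddCommGroup N] [Module A N]
    [AddCommGroup P] [Module A P] [Module.Flat A N] [Module.Flat A P] (f : M →ₗ[A] N) (g : N →ₗ[A] P)
    (hf : Function.Injective f) (hg : Function.Surjective g) (hfg : Function.Exact f g) :
    Module.Flat A M := by
  rw [Module.Flat.iff_rTensor_injective']
  intro J a b hab
  apply LinearMap.lTensor_injective_of_exact_of_flat g hg f hf hfg J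
  apply Module.Flat.rTensor_preserves_injective_linearMap (M := N) J.subtype J.subtype_injective
  rw [← LinearMap.comp_apply, ← LinearMap.comp_apply, LinearMap.rTensor_comp_lTensor,
    ← LinearMap.lTensor_comp_rTensor, LinearMap.comp_apply, LinearMap.comp_apply, hab]

theorem isNilpotent_maximalIdeal [IsLocalRing A] [IsArtinianRing A] :
    IsNilpotent (IsLocalRing.maximalIdeal A) := by
  rw [← IsLocalRing.jacobson_eq_maximalIdeal ⊥ bot_ne_top]
  exact IsArtinianRing.isNilpotent_jacobson_bot

theorem bijective_of_bijective_lTensor_quotient {I : Ideal A} (hI : IsNilpotent I) {M N : Type*}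
    [AddCommGroup M] [Module A M] [AddCommGroup N] [Module A N] [Module.Flat A N] (f : M →ₗ[A] N)
    (hf : Function.Bijective (f.lTensor (A ⧸ I))) : Function.Bijective f := by
  have hs := surjective_of_lTensor_quotient hI f hf.2
  refine ⟨?_, hs⟩
  have hinj := LinearMap.lTensor_injective_of_exact_of_flat f hs _ (LinearMap.ker f).subtype_injective
    (LinearMap.exact_subtype_ker_map f) (A ⧸ I)
  have : Subsingleton ((A ⧸ I) ⊗[A] LinearMap.ker f) := by
    refine subsingleton_of_forall_eq 0 fun z => hinj (hf.1 ?_)
    rw [map_zero, map_zero, ← LinearMap.comp_apply, ← LinearMap.lTensor_comp, LinearMap.comp_ker_subtype,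
      LinearMap.lTensor_zero, LinearMap.zero_apply]
  have := subsingleton_of_quotient_tensor hI this
  exact LinearMap.ker_eq_bot.mp ((Submodule.subsingleton_iff_eq_bot).mp this)

end Groth.Agent.CAlg8.NilFlat
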