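import Mathlib
import Groth.Prelude.Def_WittGrp
import Groth.Prelude.Def_Dieu

/-! Equalizer exactness for (truncated) Witt vectors along faithfully flat maps, tensored with flat modules. -/

universe u v w

namespace Groth.Agent.CAlg8

open TensorProduct

/-- An element of `B` with `b ⊗ 1 = 1 ⊗ b` comes from `A` if `A → B` is faithfully flat. -/
theorem exists_algebraMap_of_tmul_one_eq {A B : Type*} [CommRing A] [CommRing B] [Algebra A B]
    [Module.FaithfullyFlat A B] {b : B} (h : b ⊗ₜ[A] (1 : B) = (1 : B) ⊗ₜ[A] b) :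
    ∃ a, algebraMap A B a = b :=
  ((Algebra.IsEffective.of_faithfullyFlat A B) b).mp (by simp [h])

theorem truncMap_coeff {p : ℕ} [Fact p.Prime] {n : ℕ} {R R' : Type u} [CommRing R] [CommRing R']
    (f : R →+* R') (x : TruncatedWittVector p n R) (i : Fin n) :
    (WittGrp.truncMap p n f x).coeff i = f (x.coeff i) := by
  change (WittGrp.truncMapFun p n f x).coeff i = _
  simp [WittGrp.truncMapFun]

theorem truncMap_injective {p : ℕ} [Fact p.Prime] {n : ℕ} {R R' : Type u} [CommRing R] [CommRing R']
    {f : R →+* R'} (hf : Function.Injective f) : Function.Injective (WittGrp.truncMap p n f) := by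
  intro x y h
  ext i
  exact hf (by rw [← truncMap_coeff, ← truncMap_coeff, h])

theorem wittMap_injective {p : ℕ} [Fact p.Prime] {R R' : Type*} [CommRing R] [CommRing R']
    {f : R →+* R'} (hf : Function.Injective f) :
    Function.Injective (WittVector.map f : WittVector p R →+* WittVector p R') := by
  intro x y h
  refine WittVector.ext fun i => hf ?_
  rw [← WittVector.map_coeff, ← WittVector.map_coeff, h]

/-- componentwise equalizer for truncated Witt vectors -/
theorem truncMap_exists_of_eq {p : ℕ} [Fact p.Prime] {n : ℕ} {R R' : Type u} [CommRing R] [CommRing R']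
    [Algebra R R'] [Module.FaithfullyFlat R R'] (x : TruncatedWittVector p n R')
    (h : WittGrp.truncMap p n (Algebra.TensorProduct.includeLeftRingHom : R' →+* R' ⊗[R] R') x =
      WittGrp.truncMap p n ((Algebra.TensorProduct.includeRight : R' →ₐ[R] R' ⊗[R] R') : R' →+* R' ⊗[R] R') x) :
    ∃ y, WittGrp.truncMap p n (algebraMap R R') y = x := by
  have key : ∀ i, ∃ a, algebraMap R R' a = x.coeff i := fun i => by
    apply exists_algebraMap_of_tmul_one_eq
    have := congrArg (fun z => TruncatedWittVector.coeff i z) h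
    simpa [truncMap_coeff] using this
  choose a ha using key
  refine ⟨TruncatedWittVector.mk p a, ?_⟩
  ext i
  simp [ha, truncMap_coeff]

/-- componentwise equalizer for Witt vectors -/
theorem wittMap_exists_of_eq {p : ℕ} [Fact p.Prime] {R R' : Type u} [CommRing R] [CommRing R']
    [Algebra R R'] [Module.FaithfullyFlat R R'] (x : WittVector p R')
    (h : WittVector.map (Algebra.TensorProduct.includeLeftRingHom : R' →+* R' ⊗[R] R') x =
      WittVector.map ((Algebra.TensorProduct.includeRight : R' →ₐ[R] R' ⊗[R] R') : R' →+* R' ⊗[R] R') x) :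
    ∃ y : WittVector p R, WittVector.map (algebraMap R R') y = x := by
  have key : ∀ i, ∃ a, algebraMap R R' a = x.coeff i := fun i => by
    apply exists_algebraMap_of_tmul_one_eq
    have := congrArg (fun z => WittVector.coeff z i) h
    simpa [WittVector.map_coeff] using this
  choose a ha using key
  refine ⟨WittVector.mk p a, ?_⟩
  refine WittVector.ext fun i => ?_
  simp [WittVector.map_coeff, ha]

/-- flat modules preserve equalizers: left tensor version -/
theorem flat_lTensor_equalizer {A : Type*} [CommRing A] (M : Type*) [AddCommGroup M] [Module A M]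
    [Module.Flat A M] {P Q N : Type*} [AddCommGroup P] [Module A P] [AddCommGroup Q] [Module A Q]
    [AddCommGroup N] [Module A N] (f : P →ₗ[A] Q) (g₁ g₂ : Q →ₗ[A] N)
    (hf : Function.Injective f) (hg : ∀ q, g₁ q = g₂ q → q ∈ Set.range f)
    (hfg : ∀ q, g₁ (f q) = g₂ (f q)) :
    Function.Injective (f.lTensor M) ∧
      ∀ x, g₁.lTensor M x = g₂.lTensor M x ↔ x ∈ Set.range (f.lTensor M) := by
  refine ⟨Module.Flat.lTensor_preserves_injective_linearMap f hf, fun x => ?_⟩
  have ex : Function.Exact f (g₁ - g₂) := by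
    intro q
    rw [LinearMap.sub_apply, sub_eq_zero]
    refine ⟨hg q, ?_⟩
    rintro ⟨a, rfl⟩; exact hfg a
  have := Module.Flat.lTensor_exact M ex x
  rwa [LinearMap.lTensor_sub, LinearMap.sub_apply, sub_eq_zero] at this

/-- flat modules preserve equalizers: right tensor version -/
theorem flat_rTensor_equalizer {A : Type*} [CommRing A] (M : Type*) [AddCommGroup M] [Module A M]
    [Module.Flat A M] {P Q N : Type*} [AddCommGroup P] [Module A P] [AddCommGroup Q] [Module A Q]
    [AddCommGroup N] [Module A N] (f : P →ₗ[A] Q) (g₁ g₂ : Q →ₗ[A] N)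
    (hf : Function.Injective f) (hg : ∀ q, g₁ q = g₂ q → q ∈ Set.range f)
    (hfg : ∀ q, g₁ (f q) = g₂ (f q)) :
    Function.Injective (f.rTensor M) ∧
      ∀ x, g₁.rTensor M x = g₂.rTensor M x ↔ x ∈ Set.range (f.rTensor M) := by
  refine ⟨Module.Flat.rTensor_preserves_injective_linearMap f hf, fun x => ?_⟩
  have ex : Function.Exact f (g₁ - g₂) := by
    intro q
    rw [LinearMap.sub_apply, sub_eq_zero]
    refine ⟨hg q, ?_⟩
    rintro ⟨a, rfl⟩; exact hfg a
  have := Module.Flat.rTensor_exact M ex x
  rwa [LinearMap.rTensor_sub, LinearMap.sub_apply, sub_eq_zero] at this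

/-- equalizer for `BC` along ring maps -/
theorem bc_equalizer {A : Type u} {B : Type v} {C : Type v} [CommRing A] [CommRing B] [CommRing C]
    (g : A →+* B) (h₁ h₂ : B →+* C) (e : h₁.comp g = h₂.comp g)
    (hg : Function.Injective g) (heq : ∀ b, h₁ b = h₂ b → b ∈ Set.range g)
    (M : Type w) [AddCommGroup M] [Module A M] [Module.Flat A M] :
    Function.Injective (Dieu.BC.ι g M) ∧
      ∀ z : Dieu.BC g M, (Dieu.BC.castHom e (Dieu.BC.push g h₁ z) = Dieu.BC.push g h₂ z ↔
        z ∈ Set.range (Dieu.BC.ι g M)) := by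
  let f : A →ₗ[A] Dieu.Res g :=
    { toFun := fun a => Dieu.Res.mk g (g a)
      map_add' := fun a b => by rw [map_add]; rfl
      map_smul' := fun a b => by rw [smul_eq_mul, map_mul]; rfl }
  let g₁ : Dieu.Res g →ₗ[A] Dieu.Res (h₂.comp g) :=
    { toFun := fun t => Dieu.Res.mk _ (h₁ t.val)
      map_add' := fun a b => by rw [Dieu.Res.val_add, map_add]; rfl
      map_smul' := fun a t => by
        rw [Dieu.Res.val_smul, map_mul, ← e]; rfl }
  let g₂ : Dieu.Res g →ₗ[A] Dieu.Res (h₂.comp g) :=
    { toFun := fun t => Dieu.Res.mk _ (h₂ t.val)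
      map_add' := fun a b => by rw [Dieu.Res.val_add, map_add]; rfl
      map_smul' := fun a t => by
        rw [Dieu.Res.val_smul, map_mul]; rfl }
  obtain ⟨hinj, hex⟩ := flat_rTensor_equalizer M f g₁ g₂ (fun a b hab => hg hab)
    (fun q hq => by
      obtain ⟨a, ha⟩ := heq q.val hq
      exact ⟨a, ha⟩)
    (fun a => RingHom.congr_fun e a)
  have hι : ∀ m : M, Dieu.BC.ι g M m = (f.rTensor M) ((TensorProduct.lid A M).symm m) := fun m => by
    rw [TensorProduct.lid_symm_apply, LinearMap.rTensor_tmul]
    change _ = Dieu.BC.tmul g (g 1) m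
    rw [map_one]; rfl
  refine ⟨fun a b hab => ?_, fun z => ?_⟩
  · rw [hι, hι] at hab
    exact (TensorProduct.lid A M).symm.injective (hinj hab)
  · have k1 : ∀ z, Dieu.BC.castHom e (Dieu.BC.push g h₁ z) = g₁.rTensor M z := fun z => by
      induction z using Dieu.BC.induction_on g with
      | zero => rw [map_zero, map_zero]; exact (map_zero _).symm
      | tmul b x => rw [Dieu.BC.push_tmul, Dieu.BC.castHom_tmul]; rfl
      | add a b ha hb => rw [map_add, map_add, ha, hb]; exact (map_add _ _ _).symm
    have k2 : ∀ z, Dieu.BC.push g h₂ z = g₂.rTensor M z := fun z => by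
      induction z using Dieu.BC.induction_on g with
      | zero => rw [map_zero]; exact (map_zero _).symm
      | tmul b x => rw [Dieu.BC.push_tmul]; rfl
      | add a b ha hb => rw [map_add, ha, hb]; exact (map_add _ _ _).symm
    rw [k1, k2]
    refine (hex z).trans ⟨?_, ?_⟩
    · rintro ⟨t, rfl⟩
      exact ⟨TensorProduct.lid A M t, by rw [hι, LinearEquiv.symm_apply_apply]⟩
    · rintro ⟨m, rfl⟩
      exact ⟨_, (hι m).symm⟩

end Groth.Agent.CAlg8
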