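import Mathlib
import Groth.Prelude.Def_W4c3truncdispsmoothDesc
import Groth.Agent.CAlg8.WittEqualizer
/-! Element formulas for the pseudofunctor of modules with extension of scalars. -/
universe u v w
open CategoryTheory Opposite TensorProduct
open scoped ChangeOfRings

namespace Groth.Agent.CAlg8.ExtPF

variable {C : Type v} [Category.{w} C] (K : C ⥤ CommRingCat.{u})

noncomputable abbrev one' {R S : Type u} [CommRing R] [CommRing S] (f : R →+* S) {M : ModuleCat.{u} R} (m : M) :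
    (ModuleCat.extendScalars f).obj M := (1 : S) ⊗ₜ[R, f] m

noncomputable def P : Pseudofunctor (LocallyDiscrete C) Cat.{u, u+1} :=
  K.toPseudofunctor.comp CommRingCat.moduleCatExtendScalarsPseudofunctor.{u}

noncomputable def m2 {a b : LocallyDiscrete CommRingCat.{u}} {f g : a ⟶ b} (e : f = g)
    (M : ModuleCat.{u} a.as) :
    (ModuleCat.extendScalars f.as.hom).obj M ⟶ (ModuleCat.extendScalars g.as.hom).obj M :=
  (CommRingCat.moduleCatExtendScalarsPseudofunctor.map₂ (eqToHom e)).toNatTrans.app M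

theorem m2_one {a b : LocallyDiscrete CommRingCat.{u}} {f g : a ⟶ b} (e : f = g)
    (M : ModuleCat.{u} a.as) (m : M) : m2 e M (one' f.as.hom m) = one' g.as.hom m := by
  subst e
  simp [m2]
  rfl

noncomputable def mc {a b c : C} (f : a ⟶ b) (g : b ⟶ c) (fg : a ⟶ c)
    (h : f.toLoc ≫ g.toLoc = fg.toLoc) (M : ModuleCat.{u} (K.obj a)) :
    (ModuleCat.extendScalars (K.map fg).hom).obj M ⟶
      (ModuleCat.extendScalars (K.map g).hom).obj ((ModuleCat.extendScalars (K.map f).hom).obj M) :=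
  ((P K).mapComp' f.toLoc g.toLoc fg.toLoc h).hom.toNatTrans.app M

theorem comp_apply_of {R : Type u} [CommRing R] {X Y Z : ModuleCat.{u} R} (a : X ⟶ Y) (b : Y ⟶ Z) {x : X}
    {y : Y} {z : Z} (ha : a x = y) (hb : b y = z) : (a ≫ b) x = z := by
  subst ha hb; rfl

theorem apply_apply_of_comp_eq_id {R : Type u} [CommRing R] {X Y : ModuleCat.{u} R} (a : X ⟶ Y) (b : Y ⟶ X)
    (h : a ≫ b = 𝟙 _) (x : X) : b (a x) = x := by
  change (a ≫ b) x = x
  rw [h]; rfl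

theorem apply_of_eq {R : Type u} [CommRing R] {X Y : ModuleCat.{u} R} {a b : X ⟶ Y} (h : a = b) {x : X} {y : Y}
    (hb : b x = y) : a x = y := h ▸ hb

theorem comp_mapComp_app {B : Type*} [Bicategory B] {E : Type*} [Bicategory E] (F : Pseudofunctor B E)
    (G : Pseudofunctor E Cat.{u, u+1}) {a b c : B} (f : a ⟶ b) (g : b ⟶ c) (M : G.obj (F.obj a)) :
    ((F.comp G).mapComp f g).hom.toNatTrans.app M =
      (G.map₂ (F.mapComp f g).hom).toNatTrans.app M ≫ (G.mapComp (F.map f) (F.map g)).hom.toNatTrans.app M := rfl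

theorem ext_mapComp_app {a b c : LocallyDiscrete CommRingCat.{u}} (f : a ⟶ b) (g : b ⟶ c) (M : ModuleCat.{u} a.as) :
    (CommRingCat.moduleCatExtendScalarsPseudofunctor.mapComp f g).hom.toNatTrans.app M =
      (ModuleCat.extendScalarsComp f.as.hom g.as.hom).hom.app M := rfl

theorem mc_key_a {a b c : C} (f : a ⟶ b) (g : b ⟶ c)
    (h : f.toLoc ≫ g.toLoc = (f ≫ g).toLoc) (M : ModuleCat.{u} (K.obj a)) :
    mc K f g (f ≫ g) h M = ((P K).mapComp f.toLoc g.toLoc).hom.toNatTrans.app M := by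
  change ((P K).mapComp' f.toLoc g.toLoc (f.toLoc ≫ g.toLoc) rfl).hom.toNatTrans.app M = _
  rw [Pseudofunctor.mapComp'_eq_mapComp]

theorem mc_key_b {a b c : C} (f : a ⟶ b) (g : b ⟶ c) (M : ModuleCat.{u} (K.obj a)) :
    ((P K).mapComp f.toLoc g.toLoc).hom.toNatTrans.app M =
      (CommRingCat.moduleCatExtendScalarsPseudofunctor.{u}.map₂ (K.toPseudofunctor.mapComp f.toLoc g.toLoc).hom).toNatTrans.app M ≫
      (CommRingCat.moduleCatExtendScalarsPseudofunctor.{u}.mapComp (K.toPseudofunctor.map f.toLoc) (K.toPseudofunctor.map g.toLoc)).hom.toNatTrans.app M :=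
  comp_mapComp_app K.toPseudofunctor CommRingCat.moduleCatExtendScalarsPseudofunctor.{u} f.toLoc g.toLoc M

theorem mc_key_c {a b c : C} (f : a ⟶ b) (g : b ⟶ c) :
    (K.toPseudofunctor.mapComp f.toLoc g.toLoc).hom = eqToHom (congrArg Quiver.Hom.toLoc (K.map_comp f g)) := rfl

theorem mc_key_d {a b c : LocallyDiscrete CommRingCat.{u}} (x : a ⟶ b) (y : b ⟶ c) (z : a ⟶ c) (e : z = x ≫ y)
    (M : ModuleCat.{u} a.as) :
    (CommRingCat.moduleCatExtendScalarsPseudofunctor.{u}.map₂ (eqToHom e)).toNatTrans.app M ≫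
      (CommRingCat.moduleCatExtendScalarsPseudofunctor.{u}.mapComp x y).hom.toNatTrans.app M =
    m2 e M ≫ (ModuleCat.extendScalarsComp x.as.hom y.as.hom).hom.app M :=
  congrArg (fun t => m2 e M ≫ t) (ext_mapComp_app x y M)

theorem mc_key {a b c : C} (f : a ⟶ b) (g : b ⟶ c)
    (h : f.toLoc ≫ g.toLoc = (f ≫ g).toLoc) (M : ModuleCat.{u} (K.obj a)) :
    mc K f g (f ≫ g) h M =
      m2 (a := ⟨K.obj a⟩) (b := ⟨K.obj c⟩) (f := (K.map (f ≫ g)).toLoc)
        (g := (K.map f).toLoc ≫ (K.map g).toLoc) (congrArg Quiver.Hom.toLoc (K.map_comp f g)) M ≫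
      (ModuleCat.extendScalarsComp (K.map f).hom (K.map g).hom).hom.app M := by
  rw [mc_key_a K f g h M, mc_key_b K f g M, mc_key_c K f g]
  exact mc_key_d (a := ⟨K.obj a⟩) (b := ⟨K.obj b⟩) (c := ⟨K.obj c⟩) (K.map f).toLoc (K.map g).toLoc
    (K.map (f ≫ g)).toLoc (congrArg Quiver.Hom.toLoc (K.map_comp f g)) M

set_option maxHeartbeats 1000000 in
theorem mc_one {a b c : C} (f : a ⟶ b) (g : b ⟶ c) (fg : a ⟶ c)
    (h : f.toLoc ≫ g.toLoc = fg.toLoc) (M : ModuleCat.{u} (K.obj a)) (m : M) :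
    mc K f g fg h M (one' (K.map fg).hom m) = one' (K.map g).hom (one' (K.map f).hom m) := by
  have h' : f ≫ g = fg := congrArg Discrete.as h
  subst h'
  exact apply_of_eq (mc_key K f g h M) (comp_apply_of _ _
    (m2_one (a := ⟨K.obj a⟩) (b := ⟨K.obj c⟩) (f := (K.map (f ≫ g)).toLoc)
      (g := (K.map f).toLoc ≫ (K.map g).toLoc) (congrArg Quiver.Hom.toLoc (K.map_comp f g)) M m)
    (ModuleCat.extendScalarsComp_hom_app_one_tmul (K.map f).hom (K.map g).hom M m))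

/-- `b ⊗ x ↦ ψ b ⊗ x` -/
noncomputable def pushR {A B D : Type u} [CommRing A] [CommRing B] [CommRing D] (φ : A →+* B) (ψ : B →+* D)
    (χ : A →+* D) (h : ∀ a, χ a = ψ (φ a)) :
    ((ModuleCat.restrictScalars φ).obj (ModuleCat.of B B)) →ₗ[A]
      ((ModuleCat.restrictScalars χ).obj (ModuleCat.of D D)) where
  toFun b := ψ b
  map_add' x y := map_add ψ _ _
  map_smul' r x := by
    change ψ (φ r * (show B from x)) = χ r * ψ x
    rw [map_mul, h]

noncomputable def push {A B D : Type u} [CommRing A] [CommRing B] [CommRing D] (φ : A →+* B) (ψ : B →+* D)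
    (χ : A →+* D) (h : ∀ a, χ a = ψ (φ a)) (N : ModuleCat.{u} A) (z : (ModuleCat.extendScalars φ).obj N) :
    (ModuleCat.extendScalars χ).obj N :=
  (pushR φ ψ χ h).rTensor N z

noncomputable def ringLin {A B : Type u} [CommRing A] [CommRing B] (φ : A →+* B) :
    A →ₗ[A] ((ModuleCat.restrictScalars φ).obj (ModuleCat.of B B)) where
  toFun a := φ a
  map_add' := map_add φ
  map_smul' r x := by
    change φ (r * x) = φ r * φ x
    rw [map_mul]

theorem ext_equalizer {A B D : Type u} [CommRing A] [CommRing B] [CommRing D] (φ : A →+* B) (ψ₁ ψ₂ : B →+* D)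
    (χ : A →+* D) (h₁ : ∀ a, χ a = ψ₁ (φ a)) (h₂ : ∀ a, χ a = ψ₂ (φ a))
    (hφ : Function.Injective φ) (heq : ∀ b, ψ₁ b = ψ₂ b → b ∈ Set.range φ)
    (N : ModuleCat.{u} A) [Module.Flat A N] :
    Function.Injective (fun m : N => one' φ m) ∧
      ∀ z, push φ ψ₁ χ h₁ N z = push φ ψ₂ χ h₂ N z → ∃ m, one' φ m = z := by
  obtain ⟨i1, i2⟩ := Groth.Agent.CAlg8.flat_rTensor_equalizer N (ringLin φ)
    (pushR φ ψ₁ χ h₁) (pushR φ ψ₂ χ h₂) hφ
    (fun q hq => by
      obtain ⟨a, ha⟩ := heq q hq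
      exact ⟨a, ha⟩)
    (fun a => (h₁ a).symm.trans (h₂ a))
  have hι : ∀ m : N, one' φ m = (ringLin φ).rTensor N ((TensorProduct.lid A N).symm m) := fun m => by
    rw [TensorProduct.lid_symm_apply, LinearMap.rTensor_tmul]
    change _ = (φ 1) ⊗ₜ[A, φ] m
    rw [map_one]
    rfl
  refine ⟨fun a b hab => ?_, fun z hz => ?_⟩
  · simp only [hι] at hab
    exact (TensorProduct.lid A N).symm.injective (i1 hab)
  · obtain ⟨t, ht⟩ := (i2 z).mp hz
    refine ⟨TensorProduct.lid A N t, (hι _).trans ?_⟩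
    rw [LinearEquiv.symm_apply_apply]
    exact ht

theorem one'_zero {B D : Type u} [CommRing B] [CommRing D] (ψ : B →+* D) {N : ModuleCat.{u} B} :
    one' ψ (0 : N) = 0 := TensorProduct.tmul_zero _ _

theorem one'_add {B D : Type u} [CommRing B] [CommRing D] (ψ : B →+* D) {N : ModuleCat.{u} B} (x y : N) :
    one' ψ (x + y) = one' ψ x + one' ψ y := TensorProduct.tmul_add _ _ _

theorem smul_one' {B D : Type u} [CommRing B] [CommRing D] (ψ : B →+* D) {N : ModuleCat.{u} B} (d : D) (y : N) :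
    d • one' ψ y = d ⊗ₜ[B, ψ] y :=
  (ModuleCat.ExtendScalars.smul_tmul ψ d 1 y).trans (by rw [mul_one])

theorem smul_tmul_aux {B : Type u} [CommRing B] (Q : Type u) [AddCommGroup Q] [Module B Q] {N : Type u}
    [AddCommGroup N] [Module B N] (x : B) (a : Q) (y : N) : (x • a) ⊗ₜ[B] y = a ⊗ₜ (x • y) :=
  TensorProduct.smul_tmul x a y

theorem one'_smul {B D : Type u} [CommRing B] [CommRing D] (ψ : B →+* D) {N : ModuleCat.{u} B} (x : B) (y : N) :
    one' ψ (x • y) = ψ x • one' ψ y := by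
  rw [smul_one']
  refine (smul_tmul_aux ((ModuleCat.restrictScalars ψ).obj (ModuleCat.of D D)) x (1 : D) y).symm.trans ?_
  change (ψ x * 1) ⊗ₜ[B, ψ] y = _
  rw [mul_one]

@[elab_as_elim]
theorem extend_induction {B D : Type u} [CommRing B] [CommRing D] {ψ : B →+* D} {N : ModuleCat.{u} B}
    {motive : (ModuleCat.extendScalars ψ).obj N → Prop} (z : (ModuleCat.extendScalars ψ).obj N)
    (zero : motive 0) (smul : ∀ (d : D) (y : N), motive (d • one' ψ y))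
    (add : ∀ z w, motive z → motive w → motive (z + w)) : motive z := by
  induction z using TensorProduct.induction_on with
  | zero => exact zero
  | tmul d y => exact (smul_one' ψ d y) ▸ smul d y
  | add z w hz hw => exact add _ _ hz hw

theorem push_zero {A B D : Type u} [CommRing A] [CommRing B] [CommRing D] (φ : A →+* B) (ψ : B →+* D)
    (χ : A →+* D) (h : ∀ a, χ a = ψ (φ a)) (N : ModuleCat.{u} A) : push φ ψ χ h N 0 = 0 :=
  map_zero ((pushR φ ψ χ h).rTensor N)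

theorem push_add {A B D : Type u} [CommRing A] [CommRing B] [CommRing D] (φ : A →+* B) (ψ : B →+* D)
    (χ : A →+* D) (h : ∀ a, χ a = ψ (φ a)) (N : ModuleCat.{u} A) (z w : (ModuleCat.extendScalars φ).obj N) :
    push φ ψ χ h N (z + w) = push φ ψ χ h N z + push φ ψ χ h N w :=
  map_add ((pushR φ ψ χ h).rTensor N) z w

theorem push_smul_one {A B D : Type u} [CommRing A] [CommRing B] [CommRing D] (φ : A →+* B) (ψ : B →+* D)
    (χ : A →+* D) (h : ∀ a, χ a = ψ (φ a)) (N : ModuleCat.{u} A) (x : B) (m : N) :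
    push φ ψ χ h N (x • one' φ m) = ψ x • one' χ m := by
  rw [smul_one', smul_one']
  rfl

theorem mc_push {a b c : C} (f : a ⟶ b) (g : b ⟶ c) (fg : a ⟶ c)
    (h : f.toLoc ≫ g.toLoc = fg.toLoc) (hh : ∀ x, (K.map fg).hom x = (K.map g).hom ((K.map f).hom x))
    (M : ModuleCat.{u} (K.obj a)) (z : (ModuleCat.extendScalars (K.map f).hom).obj M) :
    mc K f g fg h M (push (K.map f).hom (K.map g).hom (K.map fg).hom hh M z) = one' (K.map g).hom z := by
  induction z using extend_induction with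
  | zero =>
    rw [push_zero, map_zero, one'_zero]
  | smul x m =>
    rw [push_smul_one, map_smul, mc_one, one'_smul]
  | add z w hz hw =>
    rw [push_add, map_add, hz, hw, one'_add]

noncomputable def mci {a b c : C} (f : a ⟶ b) (g : b ⟶ c) (fg : a ⟶ c)
    (h : f.toLoc ≫ g.toLoc = fg.toLoc) (M : ModuleCat.{u} (K.obj a)) :
    (ModuleCat.extendScalars (K.map g).hom).obj ((ModuleCat.extendScalars (K.map f).hom).obj M) ⟶
      (ModuleCat.extendScalars (K.map fg).hom).obj M :=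
  ((P K).mapComp' f.toLoc g.toLoc fg.toLoc h).inv.toNatTrans.app M

theorem mci_mc {a b c : C} (f : a ⟶ b) (g : b ⟶ c) (fg : a ⟶ c)
    (h : f.toLoc ≫ g.toLoc = fg.toLoc) (M : ModuleCat.{u} (K.obj a)) :
    mc K f g fg h M ≫ mci K f g fg h M = 𝟙 _ :=
  Cat.Hom.hom_inv_id_toNatTrans_app ((P K).mapComp' f.toLoc g.toLoc fg.toLoc h) M

theorem mci_mc_apply {a b c : C} (f : a ⟶ b) (g : b ⟶ c) (fg : a ⟶ c)
    (h : f.toLoc ≫ g.toLoc = fg.toLoc) (M : ModuleCat.{u} (K.obj a))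
    (x : (ModuleCat.extendScalars (K.map fg).hom).obj M) : mci K f g fg h M (mc K f g fg h M x) = x :=
  apply_apply_of_comp_eq_id _ _ (mci_mc K f g fg h M) x

theorem comm_core {R : Type u} [CommRing R] {A₁ A₂ X B₁ B₂ Y : ModuleCat.{u} R}
    (α₁ : A₁ ⟶ B₁) (α₂ : A₂ ⟶ B₂) (cM₁ : X ⟶ A₁) (iM₁ : A₁ ⟶ X) (cM₂ : X ⟶ A₂)
    (cN₁ : Y ⟶ B₁) (iN₁ : B₁ ⟶ Y) (cN₂ : Y ⟶ B₂) (iN₂ : B₂ ⟶ Y)
    (hM₁ : ∀ x, iM₁ (cM₁ x) = x) (hN₁ : ∀ y, iN₁ (cN₁ y) = y) (hN₂ : ∀ y, iN₂ (cN₂ y) = y)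
    (hc : α₁ ≫ (iN₁ ≫ cN₂) = (iM₁ ≫ cM₂) ≫ α₂)
    {x : X} {u₁ : A₁} {u₂ : A₂} (hx₁ : cM₁ x = u₁) (hx₂ : cM₂ x = u₂) {v₁ : B₁} {v₂ : B₂}
    (hv₁ : α₁ u₁ = v₁) (hv₂ : α₂ u₂ = v₂) {y₁ y₂ : Y} (hy₁ : cN₁ y₁ = v₁) (hy₂ : cN₂ y₂ = v₂) : y₁ = y₂ := by
  have key : cN₂ (iN₁ (α₁ u₁)) = α₂ (cM₂ (iM₁ u₁)) := congrArg (fun t => t.hom u₁) hc
  rw [hv₁, ← hx₁, hM₁, ← hy₁, hN₁, hx₂, hv₂, ← hy₂] at key
  exact Function.LeftInverse.injective hN₂ key

theorem push_eq_of_comm {a b c : C} (f : a ⟶ b) (g₁ g₂ : b ⟶ c) (q : a ⟶ c)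
    (e₁ : f.toLoc ≫ g₁.toLoc = q.toLoc) (e₂ : f.toLoc ≫ g₂.toLoc = q.toLoc)
    (h₁ : ∀ x, (K.map q).hom x = (K.map g₁).hom ((K.map f).hom x))
    (h₂ : ∀ x, (K.map q).hom x = (K.map g₂).hom ((K.map f).hom x))
    (M N : ModuleCat.{u} (K.obj a))
    (h : (ModuleCat.extendScalars (K.map f).hom).obj M ⟶ (ModuleCat.extendScalars (K.map f).hom).obj N)
    (hc : (ModuleCat.extendScalars (K.map g₁).hom).map h ≫ (mci K f g₁ q e₁ N ≫ mc K f g₂ q e₂ N) =
      (mci K f g₁ q e₁ M ≫ mc K f g₂ q e₂ M) ≫ (ModuleCat.extendScalars (K.map g₂).hom).map h)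
    (m : M) :
    push (K.map f).hom (K.map g₁).hom (K.map q).hom h₁ N (h (one' (K.map f).hom m)) =
      push (K.map f).hom (K.map g₂).hom (K.map q).hom h₂ N (h (one' (K.map f).hom m)) := by
  exact comm_core ((ModuleCat.extendScalars (K.map g₁).hom).map h)
    ((ModuleCat.extendScalars (K.map g₂).hom).map h) (mc K f g₁ q e₁ M) (mci K f g₁ q e₁ M)
    (mc K f g₂ q e₂ M) (mc K f g₁ q e₁ N) (mci K f g₁ q e₁ N) (mc K f g₂ q e₂ N) (mci K f g₂ q e₂ N)
    (mci_mc_apply K f g₁ q e₁ M) (mci_mc_apply K f g₁ q e₁ N) (mci_mc_apply K f g₂ q e₂ N)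
    hc (mc_one K f g₁ q e₁ M m) (mc_one K f g₂ q e₂ M m) rfl rfl
    (mc_push K f g₁ q e₁ h₁ N _) (mc_push K f g₂ q e₂ h₂ N _)

/-- The compatibility condition of a morphism between canonical descent data, for one pair of maps. -/
def CommForm {C : Type v} [Category.{w} C] (F : Pseudofunctor (LocallyDiscrete C) Cat.{u, u+1}) {a b c : C}
    (f : a ⟶ b) (g g' : b ⟶ c) (q : a ⟶ c) (e₁ : f.toLoc ≫ g.toLoc = q.toLoc) (e₂ : f.toLoc ≫ g'.toLoc = q.toLoc)
    (M N : F.obj ⟨a⟩) (h : (F.map f.toLoc).toFunctor.obj M ⟶ (F.map f.toLoc).toFunctor.obj N) : Prop :=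
  (F.map g.toLoc).toFunctor.map h ≫
      ((F.mapComp' f.toLoc g.toLoc q.toLoc e₁).inv.toNatTrans.app N ≫
        (F.mapComp' f.toLoc g'.toLoc q.toLoc e₂).hom.toNatTrans.app N) =
    ((F.mapComp' f.toLoc g.toLoc q.toLoc e₁).inv.toNatTrans.app M ≫
        (F.mapComp' f.toLoc g'.toLoc q.toLoc e₂).hom.toNatTrans.app M) ≫
      (F.map g'.toLoc).toFunctor.map h

theorem eT1 {a b c : C} (f : a ⟶ b) (g g' : b ⟶ c) (fg : a ⟶ c) (e : f.toLoc ≫ g.toLoc = fg.toLoc) (e' : f.toLoc ≫ g'.toLoc = fg.toLoc) (M N : ModuleCat.{u} (K.obj a))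
    (h : (ModuleCat.extendScalars (K.map f).hom).obj M ⟶ (ModuleCat.extendScalars (K.map f).hom).obj N) :
    ((P K).map g.toLoc).toFunctor.map h ≫ (((P K).mapComp' f.toLoc g.toLoc fg.toLoc e).inv.toNatTrans.app N ≫
      ((P K).mapComp' f.toLoc g'.toLoc fg.toLoc e').hom.toNatTrans.app N) = (ModuleCat.extendScalars (K.map g).hom).map h ≫ (mci K f g fg e N ≫ mc K f g' fg e' N) := rfl

theorem eT3 {a b c : C} (f : a ⟶ b) (g g' : b ⟶ c) (fg : a ⟶ c) (e : f.toLoc ≫ g.toLoc = fg.toLoc) (e' : f.toLoc ≫ g'.toLoc = fg.toLoc) (M N : ModuleCat.{u} (K.obj a))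
    (h : (ModuleCat.extendScalars (K.map f).hom).obj M ⟶ (ModuleCat.extendScalars (K.map f).hom).obj N) :
    (((P K).mapComp' f.toLoc g.toLoc fg.toLoc e).inv.toNatTrans.app M ≫
      ((P K).mapComp' f.toLoc g'.toLoc fg.toLoc e').hom.toNatTrans.app M) ≫ ((P K).map g'.toLoc).toFunctor.map h = (mci K f g fg e M ≫ mc K f g' fg e' M) ≫ (ModuleCat.extendScalars (K.map g').hom).map h := rfl

theorem push_eq_of_commForm {a b c : C} (f : a ⟶ b) (g₁ g₂ : b ⟶ c) (q : a ⟶ c)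
    (e₁ : f.toLoc ≫ g₁.toLoc = q.toLoc) (e₂ : f.toLoc ≫ g₂.toLoc = q.toLoc)
    (h₁ : ∀ x, (K.map q).hom x = (K.map g₁).hom ((K.map f).hom x))
    (h₂ : ∀ x, (K.map q).hom x = (K.map g₂).hom ((K.map f).hom x))
    (M N : ModuleCat.{u} (K.obj a))
    (h : (ModuleCat.extendScalars (K.map f).hom).obj M ⟶ (ModuleCat.extendScalars (K.map f).hom).obj N)
    (hc : CommForm (P K) f g₁ g₂ q e₁ e₂ M N h) (m : M) :
    push (K.map f).hom (K.map g₁).hom (K.map q).hom h₁ N (h (one' (K.map f).hom m)) =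
      push (K.map f).hom (K.map g₂).hom (K.map q).hom h₂ N (h (one' (K.map f).hom m)) :=
  push_eq_of_comm K f g₁ g₂ q e₁ e₂ h₁ h₂ M N h
    ((eT1 K f g₁ g₂ q e₁ e₂ M N h).symm.trans (hc.trans (eT3 K f g₁ g₂ q e₁ e₂ M N h))) m

end Groth.Agent.CAlg8.ExtPF
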