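import Mathlib
import Groth.Agent.CAlg8.ExtPF

/-! Full faithfulness criterion for `toDescentData` of the module pseudofunctor. -/

universe u v w t
open CategoryTheory Groth.Agent.CAlg8.ExtPF Opposite

namespace Groth.Agent.CAlg8.ExtPF
variable {D : Type v} [Category.{w} D] (K : Dᵒᵖ ⥤ CommRingCat.{u})

noncomputable def homU {S X : D} (f : X ⟶ S) (M N : ModuleCat.{u} (K.obj (op S)))
    (Φ : ((P K).toDescentData (fun _ : PUnit.{t + 1} => f)).obj M ⟶
      ((P K).toDescentData (fun _ : PUnit.{t + 1} => f)).obj N) :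
    (ModuleCat.extendScalars (K.map f.op).hom).obj M ⟶ (ModuleCat.extendScalars (K.map f.op).hom).obj N :=
  Φ.hom PUnit.unit

theorem comm_unfold {D : Type v} [Category.{w} D] (F : Pseudofunctor (LocallyDiscrete Dᵒᵖ) Cat.{u, u+1})
    {S X Y : D} (f : X ⟶ S) (g₁ g₂ : Y ⟶ X) (q : Y ⟶ S) (w₁ : g₁ ≫ f = q) (w₂ : g₂ ≫ f = q)
    (M N : F.obj (.mk (op S))) (Φ : (F.toDescentData (fun _ : PUnit.{t + 1} => f)).obj M ⟶
      (F.toDescentData (fun _ : PUnit.{t + 1} => f)).obj N)
    (e₁ : f.op.toLoc ≫ g₁.op.toLoc = q.op.toLoc) (e₂ : f.op.toLoc ≫ g₂.op.toLoc = q.op.toLoc) :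
    CommForm F f.op g₁.op g₂.op q.op e₁ e₂ M N (Φ.hom PUnit.unit) :=
  Φ.comm (i₁ := PUnit.unit) (i₂ := PUnit.unit) q g₁ g₂ w₁ w₂

theorem descent_push_eq {S X Y : D} (f : X ⟶ S) (g₁ g₂ : Y ⟶ X) (q : Y ⟶ S) (w₁ : g₁ ≫ f = q) (w₂ : g₂ ≫ f = q)
    (h₁ : ∀ x, (K.map q.op).hom x = (K.map g₁.op).hom ((K.map f.op).hom x))
    (h₂ : ∀ x, (K.map q.op).hom x = (K.map g₂.op).hom ((K.map f.op).hom x))
    (M N : ModuleCat.{u} (K.obj (op S)))
    (Φ : ((P K).toDescentData (fun _ : PUnit.{t + 1} => f)).obj M ⟶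
      ((P K).toDescentData (fun _ : PUnit.{t + 1} => f)).obj N) (m : M) :
    push (K.map f.op).hom (K.map g₁.op).hom (K.map q.op).hom h₁ N (homU K f M N Φ (one' (K.map f.op).hom m)) =
      push (K.map f.op).hom (K.map g₂.op).hom (K.map q.op).hom h₂ N (homU K f M N Φ (one' (K.map f.op).hom m)) := by
  have e₁ : f.op.toLoc ≫ g₁.op.toLoc = q.op.toLoc := congrArg (fun t => Quiver.Hom.toLoc (Quiver.Hom.op t)) w₁
  have e₂ : f.op.toLoc ≫ g₂.op.toLoc = q.op.toLoc := congrArg (fun t => Quiver.Hom.toLoc (Quiver.Hom.op t)) w₂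
  exact push_eq_of_commForm K f.op g₁.op g₂.op q.op e₁ e₂ h₁ h₂ M N (homU K f M N Φ)
    (comm_unfold (P K) f g₁ g₂ q w₁ w₂ M N Φ e₁ e₂) m

theorem toDescentData_map_homU {S X : D} (f : X ⟶ S) (M N : ModuleCat.{u} (K.obj (op S))) (φ : M ⟶ N) :
    homU K f M N (((P K).toDescentData (fun _ : PUnit.{t + 1} => f)).map φ) =
      (ModuleCat.extendScalars (K.map f.op).hom).map φ := rfl

theorem homU_ext {S X : D} (f : X ⟶ S) (M N : ModuleCat.{u} (K.obj (op S)))
    (Φ Ψ : ((P K).toDescentData (fun _ : PUnit.{t + 1} => f)).obj M ⟶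
      ((P K).toDescentData (fun _ : PUnit.{t + 1} => f)).obj N) (h : homU K f M N Φ = homU K f M N Ψ) : Φ = Ψ :=
  Pseudofunctor.DescentData.hom_ext fun _ => h

/-- Abstract full faithfulness criterion for `toDescentData`. -/
theorem toDescentData_map_bijective {S X Y : D} (f : X ⟶ S) (g₁ g₂ : Y ⟶ X) (q : Y ⟶ S)
    (w₁ : g₁ ≫ f = q) (w₂ : g₂ ≫ f = q)
    (h₁ : ∀ x, (K.map q.op).hom x = (K.map g₁.op).hom ((K.map f.op).hom x))
    (h₂ : ∀ x, (K.map q.op).hom x = (K.map g₂.op).hom ((K.map f.op).hom x))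
    (M N : ModuleCat.{u} (K.obj (op S)))
    (inj : Function.Injective (fun m : N => one' (K.map f.op).hom m))
    (eqz : ∀ z, push (K.map f.op).hom (K.map g₁.op).hom (K.map q.op).hom h₁ N z =
      push (K.map f.op).hom (K.map g₂.op).hom (K.map q.op).hom h₂ N z → ∃ m, one' (K.map f.op).hom m = z) :
    Function.Bijective (fun φ : M ⟶ N =>
      ((P K).toDescentData (fun _ : PUnit.{t + 1} => f)).map φ) := by
  refine ⟨fun a b hab => ?_, fun Φ => ?_⟩
  · have hab' := congrArg (homU K f M N) hab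
    rw [toDescentData_map_homU, toDescentData_map_homU] at hab'
    ext m
    exact inj (congrArg (fun t => t.hom (one' (K.map f.op).hom m)) hab')
  · choose g hg using fun m => eqz _ (descent_push_eq K f g₁ g₂ q w₁ w₂ h₁ h₂ M N Φ m)
    refine ⟨ModuleCat.ofHom { toFun := g, map_add' := fun x y => inj ?_, map_smul' := fun r x => inj ?_ }, ?_⟩
    · change one' _ (g (x + y)) = one' _ (g x + g y)
      rw [one'_add, hg, hg, hg, one'_add, map_add]
    · change one' _ (g (r • x)) = one' _ (r • g x)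
      rw [one'_smul, hg, hg, one'_smul, map_smul]
    · refine homU_ext K f M N _ _ ?_
      rw [toDescentData_map_homU]
      apply ModuleCat.ExtendScalars.hom_ext
      intro m
      exact hg m

/-- `toDescentData` is bijective on morphisms into a flat module as soon as `f` is injective on rings and
equalizes `g₁`, `g₂`. -/
theorem toDescentData_map_bijective_of_flat {S X Y : D} (f : X ⟶ S) (g₁ g₂ : Y ⟶ X) (q : Y ⟶ S)
    (w₁ : g₁ ≫ f = q) (w₂ : g₂ ≫ f = q)
    (hφ : Function.Injective (K.map f.op).hom)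
    (heq : ∀ b, (K.map g₁.op).hom b = (K.map g₂.op).hom b → b ∈ Set.range (K.map f.op).hom)
    (M N : ModuleCat.{u} (K.obj (op S))) (hN : Module.Flat (K.obj (op S)) N) :
    Function.Bijective (fun φ : M ⟶ N =>
      ((P K).toDescentData (fun _ : PUnit.{t + 1} => f)).map φ) := by
  have h₁ : ∀ x, (K.map q.op).hom x = (K.map g₁.op).hom ((K.map f.op).hom x) := by
    intro x
    rw [← w₁, op_comp, Functor.map_comp]
    rfl
  have h₂ : ∀ x, (K.map q.op).hom x = (K.map g₂.op).hom ((K.map f.op).hom x) := by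
    intro x
    rw [← w₂, op_comp, Functor.map_comp]
    rfl
  obtain ⟨inj, eqz⟩ := ext_equalizer (K.map f.op).hom (K.map g₁.op).hom (K.map g₂.op).hom (K.map q.op).hom
    h₁ h₂ hφ heq N
  exact toDescentData_map_bijective K f g₁ g₂ q w₁ w₂ h₁ h₂ M N inj eqz

/-- Transport of bijectivity of `toDescentData` on morphisms along an equality of pseudofunctors. -/
theorem toDescentData_bijective_transport {D : Type v} [Category.{w} D]
    (F G : Pseudofunctor (LocallyDiscrete Dᵒᵖ) Cat.{u, u+1}) (e : F = G) {S X : D} (f : X ⟶ S)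
    (M N : F.obj (.mk (op S))) (M' N' : G.obj (.mk (op S))) (hM : HEq M M') (hN : HEq N N')
    (H : Function.Bijective (fun φ : M ⟶ N => (F.toDescentData (fun _ : PUnit.{t + 1} => f)).map φ)) :
    Function.Bijective (fun φ : M' ⟶ N' => (G.toDescentData (fun _ : PUnit.{t + 1} => f)).map φ) := by
  subst e
  obtain rfl := eq_of_heq hM
  obtain rfl := eq_of_heq hN
  exact H

end Groth.Agent.CAlg8.ExtPF
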