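import Mathlib

/-! Lifting of finite projective modules along surjections `A → B` of rings complete for a filtration. -/

set_option autoImplicit false

universe u v

namespace Groth.Agent.CAlg8.FiltLift

theorem matrix_isNilpotent {A : Type*} [CommRing A] {ι : Type*} [Fintype ι] [DecidableEq ι]
    (M : Matrix ι ι A) (h : ∀ i j, IsNilpotent (M i j)) : IsNilpotent M := by
  classical
  let J : Ideal A := Ideal.span (Set.range fun ij : ι × ι => M ij.1 ij.2)
  have hJ : IsNilpotent J := by
    refine (Ideal.FG.isNilpotent_iff_le_nilradical (Submodule.fg_span (Set.finite_range _))).mpr ?_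
    refine Ideal.span_le.mpr ?_
    rintro _ ⟨ij, rfl⟩
    exact h _ _
  have key : ∀ k i j, (M ^ k) i j ∈ J ^ k := by
    intro k
    induction k with
    | zero => intro i j; rw [pow_zero J, Ideal.one_eq_top]; trivial
    | succ k ih =>
      intro i j
      rw [pow_succ M, Matrix.mul_apply, pow_succ J]
      exact sum_mem fun l _ => Ideal.mul_mem_mul (ih i l) (Ideal.subset_span ⟨(l, j), rfl⟩)
  obtain ⟨k, hk⟩ := hJ
  exact ⟨k, Matrix.ext fun i j => by simpa [hk] using key k i j⟩

/-- A ring `A` complete and separated for a decreasing filtration by ideals, with a surjection `φ` onto `B`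
along which all the graded kernels consist of nilpotents. -/
structure Hyp {A : Type u} {B : Type v} [CommRing A] [CommRing B] (φ : A →+* B) (I : ℕ → Ideal A) : Prop where
  surj : Function.Surjective φ
  zero : I 0 = ⊤
  anti : Antitone I
  sepA : ⨅ n, I n = ⊥
  sepB : ⨅ n, (I n).map φ = ⊥
  complete : ∀ x : ℕ → A, (∀ n, x (n + 1) - x n ∈ I n) → ∃ y, ∀ n, y - x n ∈ I n
  nil : ∀ n x, x ∈ I n → φ x ∈ (I (n + 1)).map φ → ∃ k, x ^ k ∈ I (n + 1)

variable {A : Type u} {B : Type v} [CommRing A] [CommRing B] {φ : A →+* B} {I : ℕ → Ideal A}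

theorem eq_zero_of_forall_mem (hA : ⨅ n, I n = ⊥) {x : A} (h : ∀ n, x ∈ I n) : x = 0 := by
  have : x ∈ ⨅ n, I n := by simpa using h
  rwa [hA] at this

theorem mk_matrix_eq {ι : Type*} {R : Type*} [CommRing R] {J : Ideal R} (M N : Matrix ι ι R) :
    M.map (Ideal.Quotient.mk J) = N.map (Ideal.Quotient.mk J) ↔ ∀ i j, M i j - N i j ∈ J := by
  simp only [← Ideal.Quotient.eq, ← Matrix.ext_iff, Matrix.map_apply]

/-- Idempotent matrices lift. -/
theorem Hyp.exists_idempotent (H : Hyp φ I) {ι : Type*} [Fintype ι] [DecidableEq ι] (e : Matrix ι ι B)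
    (he : IsIdempotentElem e) : ∃ E : Matrix ι ι A, IsIdempotentElem E ∧ E.map φ = e := by
  classical
  let Ok : ℕ → Matrix ι ι A → Prop := fun n M =>
    (∀ i j, (M * M) i j - M i j ∈ I n) ∧ ∀ i j, φ (M i j) - e i j ∈ (I n).map φ
  have step : ∀ n M, Ok n M → ∃ M', Ok (n + 1) M' ∧ ∀ i j, M' i j - M i j ∈ I n := by
    intro n M hM
    let q₁ : A ⧸ I (n + 1) →+* A ⧸ I n := Ideal.Quotient.factor (H.anti (Nat.le_succ n))
    let q₂ : A ⧸ I (n + 1) →+* B ⧸ (I (n + 1)).map φ := Ideal.quotientMap _ φ Ideal.le_comap_map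
    let F := (q₁.prod q₂).mapMatrix (m := ι)
    let g : A →+* A ⧸ I (n + 1) := Ideal.Quotient.mk _
    let c : Matrix ι ι ((A ⧸ I n) × (B ⧸ (I (n + 1)).map φ)) :=
      Matrix.of fun i j => (Ideal.Quotient.mk _ (M i j), Ideal.Quotient.mk _ (e i j))
    have hc : IsIdempotentElem c := by
      refine Matrix.ext fun i j => Prod.ext ?_ ?_
      · rw [Matrix.mul_apply, Prod.fst_sum]
        simp only [c, Matrix.of_apply, Prod.fst_mul, ← map_mul, ← map_sum]
        rw [Ideal.Quotient.eq, ← Matrix.mul_apply]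
        exact hM.1 i j
      · rw [Matrix.mul_apply, Prod.snd_sum]
        simp only [c, Matrix.of_apply, Prod.snd_mul, ← map_mul, ← map_sum]
        rw [← Matrix.mul_apply, he.eq]
    -- `c` is in the range
    have hrange : ∀ i j, ∃ a : A, (a - M i j ∈ I n) ∧ φ a - e i j ∈ (I (n + 1)).map φ := by
      intro i j
      obtain ⟨d, hd, hd'⟩ := (Ideal.mem_map_iff_of_surjective φ H.surj).mp (hM.2 i j)
      refine ⟨M i j - d, by simpa using (I n).neg_mem hd, ?_⟩
      rw [map_sub, hd']; simp
    choose a ha₁ ha₂ using hrange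
    have hcr : c ∈ F.range := by
      refine ⟨(Matrix.of a).map g, Matrix.ext fun i j => Prod.ext ?_ ?_⟩
      · exact (Ideal.Quotient.eq).mpr (ha₁ i j)
      · exact (Ideal.Quotient.eq).mpr (ha₂ i j)
    have hker : ∀ x ∈ RingHom.ker F, IsNilpotent x := by
      intro x hx
      refine matrix_isNilpotent x fun i j => ?_
      obtain ⟨y, hy⟩ := Ideal.Quotient.mk_surjective (x i j)
      have h0 : (q₁.prod q₂) (x i j) = 0 := congrFun (congrFun (show F x = 0 from hx) i) j
      rw [← hy] at h0
      obtain ⟨k, hk⟩ := H.nil n y (Ideal.Quotient.eq_zero_iff_mem.mp (congrArg Prod.fst h0))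
        (Ideal.Quotient.eq_zero_iff_mem.mp (congrArg Prod.snd h0))
      exact ⟨k, by rw [← hy, ← map_pow]; exact Ideal.Quotient.eq_zero_iff_mem.mpr hk⟩
    obtain ⟨E, hE, hFE⟩ := exists_isIdempotentElem_eq_of_ker_isNilpotent F hker c hcr hc
    choose M' hM' using fun i j => Ideal.Quotient.mk_surjective (E i j)
    refine ⟨Matrix.of M', ⟨fun i j => ?_, fun i j => ?_⟩, fun i j => ?_⟩
    · rw [← Ideal.Quotient.eq, Matrix.mul_apply, map_sum]
      simp only [Matrix.of_apply, map_mul, hM']
      rw [← Matrix.mul_apply, hE.eq]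
    · have := congrArg (fun m => (m i j).2) hFE
      simp only [Matrix.of_apply]
      refine Ideal.Quotient.eq.mp ?_
      refine Eq.trans ?_ this
      change _ = q₂ (E i j)
      rw [← hM' i j]; rfl
    · have := congrArg (fun m => (m i j).1) hFE
      refine Ideal.Quotient.eq.mp ?_
      refine Eq.trans ?_ this
      change _ = q₁ (E i j)
      rw [← hM' i j]; rfl
  choose M₀ hM₀ using fun i j => H.surj (e i j)
  have hOk0 : Ok 0 (Matrix.of M₀) := ⟨fun i j => by simp [H.zero], fun i j => by simp [hM₀]⟩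
  choose s hs₁ hs₂ using step
  let seq : (n : ℕ) → {M // Ok n M} :=
    fun n => Nat.rec ⟨_, hOk0⟩ (fun n M => ⟨s n M.1 M.2, hs₁ n M.1 M.2⟩) n
  have hseq : ∀ n i j, (seq (n + 1)).1 i j - (seq n).1 i j ∈ I n := fun n i j => hs₂ n _ (seq n).2 i j
  choose E hE using fun i j => H.complete (fun n => (seq n).1 i j) (fun n => hseq n i j)
  refine ⟨Matrix.of E, Matrix.ext fun i j => sub_eq_zero.mp (eq_zero_of_forall_mem H.sepA fun n => ?_),
    Matrix.ext fun i j => sub_eq_zero.mp ?_⟩
  · have h1 : (Matrix.of E * Matrix.of E) i j - ((seq n).1 * (seq n).1) i j ∈ I n := by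
      rw [← Ideal.Quotient.eq, Matrix.mul_apply, Matrix.mul_apply, map_sum, map_sum]
      refine Finset.sum_congr rfl fun l _ => ?_
      rw [map_mul, map_mul, Matrix.of_apply, Matrix.of_apply, Ideal.Quotient.eq.mpr (hE i l n),
        Ideal.Quotient.eq.mpr (hE l j n)]
    have := (I n).sub_mem ((I n).add_mem h1 ((seq n).2.1 i j)) (hE i j n)
    convert this using 1
    simp only [Matrix.of_apply]; ring
  · have : φ (E i j) - e i j ∈ ⨅ n, (I n).map φ := by
      refine Submodule.mem_iInf _ |>.mpr fun n => ?_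
      have := ((I n).map φ).add_mem (Ideal.mem_map_of_mem φ (hE i j n)) ((seq n).2.2 i j)
      convert this using 1
      simp only [map_sub]; ring
    rw [H.sepB] at this
    exact this

/-- `1 - x` is a unit if the powers of `x` tend to zero. -/
theorem Hyp.isUnit_one_sub (H : Hyp φ I) {x : A} (hx : ∀ n, ∃ k, x ^ k ∈ I n) : IsUnit (1 - x) := by
  classical
  choose k hk using hx
  let K : ℕ → ℕ := fun n => (Finset.range (n + 1)).sup k
  have hkK : ∀ n, k n ≤ K n := fun n => Finset.le_sup (Finset.mem_range.mpr n.lt_succ_self)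
  have hmono : ∀ n, K n ≤ K (n + 1) := fun n => Finset.sup_mono (Finset.range_subset_range.mpr (Nat.le_succ _))
  have hK : ∀ n, x ^ K n ∈ I n := fun n => Ideal.pow_mem_of_pow_mem _ (hk n) (hkK n)
  let S : ℕ → A := fun n => ∑ i ∈ Finset.range (K n), x ^ i
  obtain ⟨y, hy⟩ := H.complete S fun n => by
    simp only [S, ← Finset.sum_Ico_eq_sub _ (hmono n)]
    exact sum_mem fun i hi => Ideal.pow_mem_of_pow_mem _ (hK n) (Finset.mem_Ico.mp hi).1
  refine IsUnit.of_mul_eq_one y (sub_eq_zero.mp (eq_zero_of_forall_mem H.sepA fun n => ?_))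
  have h1 : (1 - x) * S n = 1 - x ^ K n := mul_neg_geom_sum x (K n)
  have := (I n).sub_mem ((I n).mul_mem_left (1 - x) (hy n)) (hK n)
  convert this using 1
  rw [mul_sub, h1]; ring

theorem mem_smul_top_pi {R : Type*} [CommRing R] {ι : Type*} [Fintype ι] (J : Ideal R) {x : ι → R}
    (h : ∀ i, x i ∈ J) : x ∈ J • (⊤ : Submodule R (ι → R)) := by
  classical
  rw [pi_eq_sum_univ' x]
  exact sum_mem fun i _ => Submodule.smul_mem_smul (h i) Submodule.mem_top

theorem apply_mem_of_mem_smul_top {R : Type*} [CommRing R] {ι : Type*} (J : Ideal R) {x : ι → R}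
    (h : x ∈ J • (⊤ : Submodule R (ι → R))) (i : ι) : x i ∈ J := by
  have := Submodule.mem_map_of_mem (f := (LinearMap.proj i : (ι → R) →ₗ[R] R)) h
  rw [Submodule.map_smul''] at this
  exact (Submodule.smul_le.mpr fun r hr y _ => J.mul_mem_right y hr) this

theorem smul_top_le_comap {R : Type*} [CommRing R] {M N : Type*} [AddCommGroup M] [Module R M] [AddCommGroup N]
    [Module R N] (J : Ideal R) (f : M →ₗ[R] N) :
    J • (⊤ : Submodule R M) ≤ (J • (⊤ : Submodule R N)).comap f := by
  rw [← Submodule.map_le_iff_le_comap, Submodule.map_smul'']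
  exact Submodule.smul_mono le_rfl le_top

/-- Finite projective modules lift along `φ`. -/
theorem Hyp.exists_lift (H : Hyp φ I) (P : Type*) [AddCommGroup P] [Module B P] [Module.Finite B P]
    [Module.Projective B P] :
    ∃ (P' : Type u) (_ : AddCommGroup P') (_ : Module A P'), Module.Finite A P' ∧ Module.Projective A P' ∧
      ∃ π : P' →ₛₗ[φ] P, Function.Surjective π ∧
        LinearMap.ker π = RingHom.ker φ • (⊤ : Submodule A P') := by
  classical
  obtain ⟨n, p, hp⟩ := Module.Finite.exists_fin' B P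
  obtain ⟨s, hs⟩ := Module.projective_lifting_property p LinearMap.id hp
  have hsp : ∀ x, p (s x) = x := LinearMap.congr_fun hs
  have hee : IsIdempotentElem (s ∘ₗ p) := LinearMap.ext fun v => congrArg s (hsp (p v))
  let e : Matrix (Fin n) (Fin n) B := LinearMap.toMatrixAlgEquiv' (s ∘ₗ p)
  have he : IsIdempotentElem e := hee.map LinearMap.toMatrixAlgEquiv'
  have hev : ∀ v, e.mulVec v = s (p v) := fun v => by
    rw [← Matrix.toLinAlgEquiv'_apply, Matrix.toLinAlgEquiv'_toMatrixAlgEquiv']; rfl
  obtain ⟨E, hE, hEe⟩ := H.exists_idempotent e he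
  let f : Module.End A (Fin n → A) := E.mulVecLin
  have hff : ∀ v, f (f v) = f v := fun v => by
    simp [f, Matrix.mulVec_mulVec, hE.eq]
  let red : (Fin n → A) →ₛₗ[φ] (Fin n → B) :=
    { toFun := fun v i => φ (v i)
      map_add' := fun v w => funext fun i => map_add φ _ _
      map_smul' := fun a v => funext fun i => map_mul φ a _ }
  have hredf : ∀ v, red (f v) = s (p (red v)) := fun v => by
    rw [← hev, ← hEe]
    funext i
    exact RingHom.map_mulVec φ E v i
  refine ⟨LinearMap.range f, inferInstance, inferInstance, Module.Finite.range f, ?_, ?_⟩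
  · exact Module.Projective.of_split (LinearMap.range f).subtype f.rangeRestrict
      (LinearMap.ext fun ⟨_, v, hv⟩ => Subtype.ext (by subst hv; exact hff v))
  let π : LinearMap.range f →ₛₗ[φ] P := p.comp (red.comp (LinearMap.range f).subtype)
  refine ⟨π, fun x => ?_, ?_⟩
  · choose v hv using fun i => H.surj (s x i)
    refine ⟨⟨f v, v, rfl⟩, ?_⟩
    change p (red (f v)) = x
    rw [hredf, show red v = s x from funext hv, hsp, hsp]
  · refine le_antisymm ?_ ?_
    · rintro ⟨_, v, rfl⟩ hx
      replace hx : p (red (f v)) = 0 := hx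
      have h0 : f v ∈ RingHom.ker φ • (⊤ : Submodule A (Fin n → A)) := by
        refine mem_smul_top_pi _ fun i => RingHom.mem_ker.mpr ?_
        rw [hredf, hsp] at hx
        have := congrFun (hredf v) i
        rw [hx, map_zero] at this
        exact this
      have h1 := Submodule.mem_map_of_mem (f := f.rangeRestrict) h0
      rw [Submodule.map_smul'', Submodule.map_top, LinearMap.range_rangeRestrict] at h1
      have h2 : f.rangeRestrict (f v) = ⟨f v, v, rfl⟩ := Subtype.ext (hff v)
      rwa [h2] at h1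
    · rw [Submodule.smul_le]
      intro c hc x _
      rw [LinearMap.mem_ker, LinearMap.map_smulₛₗ, RingHom.mem_ker.mp hc, zero_smul]

/-- Lifts of finite projective modules along a surjection with kernel in the Jacobson radical are unique. -/
theorem exists_equiv {φ : A →+* B} (hφ : Function.Surjective φ)
    (hJ : RingHom.ker φ ≤ Ideal.jacobson ⊥) (P : Type*) [AddCommGroup P] [Module B P]
    {P₁ : Type*} [AddCommGroup P₁] [Module A P₁] [Module.Finite A P₁] [Module.Projective A P₁]
    {P₂ : Type*} [AddCommGroup P₂] [Module A P₂] [Module.Finite A P₂] [Module.Projective A P₂]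
    (π₁ : P₁ →ₛₗ[φ] P) (π₂ : P₂ →ₛₗ[φ] P)
    (hs₁ : Function.Surjective π₁) (hk₁ : LinearMap.ker π₁ = RingHom.ker φ • (⊤ : Submodule A P₁))
    (hs₂ : Function.Surjective π₂) (hk₂ : LinearMap.ker π₂ = RingHom.ker φ • (⊤ : Submodule A P₂)) :
    ∃ e : P₁ ≃ₗ[A] P₂, ∀ x : P₁, π₂ (e x) = π₁ x := by
  letI : Module A P := Module.compHom P φ
  let q₁ : P₁ →ₗ[A] P := { toFun := π₁, map_add' := π₁.map_add, map_smul' := fun a x => π₁.map_smulₛₗ a x }
  let q₂ : P₂ →ₗ[A] P := { toFun := π₂, map_add' := π₂.map_add, map_smul' := fun a x => π₂.map_smulₛₗ a x }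
  obtain ⟨g, hg⟩ := Module.projective_lifting_property q₂ q₁ hs₂
  have hg' : ∀ x, π₂ (g x) = π₁ x := fun x => LinearMap.congr_fun hg x
  have hsurj : Function.Surjective g := by
    rw [← LinearMap.range_eq_top, eq_top_iff]
    refine Submodule.le_of_le_smul_of_le_jacobson_bot (Module.finite_def.mp inferInstance) hJ fun y _ => ?_
    obtain ⟨x, hx⟩ := hs₁ (π₂ y)
    rw [Submodule.mem_sup]
    refine ⟨g x, ⟨x, rfl⟩, y - g x, ?_, add_sub_cancel _ _⟩
    rw [← hk₂, LinearMap.mem_ker, map_sub, hg', hx, sub_self]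
  obtain ⟨σ, hσ⟩ := Module.projective_lifting_property g LinearMap.id hsurj
  let T : P₁ →ₗ[A] P₁ := LinearMap.id - σ ∘ₗ g
  have hgT : ∀ x, g (T x) = 0 := fun x => by
    simp only [T, LinearMap.sub_apply, LinearMap.id_apply, LinearMap.comp_apply, map_sub]
    rw [show g (σ (g x)) = g x from LinearMap.congr_fun hσ (g x), sub_self]
  have hT : ∀ x, g x = 0 → T x = x := fun x hx => by simp [T, hx]
  have hK : LinearMap.range T = ⊥ := by
    refine Submodule.eq_bot_of_le_smul_of_le_jacobson_bot (RingHom.ker φ) _ ?_ ?_ hJ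
    · exact Module.Finite.iff_fg.mp (Module.Finite.range T)
    · rintro _ ⟨x, rfl⟩
      have h0 : T x ∈ RingHom.ker φ • (⊤ : Submodule A P₁) := by
        rw [← hk₁, LinearMap.mem_ker, ← hg', hgT, map_zero]
      have h1 := Submodule.mem_map_of_mem (f := T) h0
      rwa [Submodule.map_smul'', Submodule.map_top, hT _ (hgT x)] at h1
  have hinj : Function.Injective g := (injective_iff_map_eq_zero g).mpr fun x hx => by
    have : T x ∈ LinearMap.range T := ⟨x, rfl⟩
    rw [hK, Submodule.mem_bot, hT x hx] at this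
    exact this
  exact ⟨LinearEquiv.ofBijective g ⟨hinj, hsurj⟩, hg'⟩

/-- Over a complete filtered ring with `I 1` nilpotent modulo each `I n`, a separated module with finite
projective truncations is finite projective. -/
theorem finite_projective_of_quotients {I : ℕ → Ideal A} (H : Hyp (Ideal.Quotient.mk (I 1)) I)
    (hpow : ∀ n, ∃ m, I 1 ^ m ≤ I n) (P : Type*) [AddCommGroup P] [Module A P]
    (hsep : ⨅ n, I n • (⊤ : Submodule A P) = ⊥)
    (hQ : ∀ n, Module.Finite (A ⧸ I n) (P ⧸ I n • (⊤ : Submodule A P)) ∧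
      Module.Projective (A ⧸ I n) (P ⧸ I n • (⊤ : Submodule A P))) :
    Module.Finite A P ∧ Module.Projective A P := by
  classical
  obtain ⟨hQf, hQp⟩ := hQ 1
  obtain ⟨P', _, _, hfin, hproj, π, hπs, hπk⟩ := H.exists_lift (P ⧸ I 1 • (⊤ : Submodule A P))
  rw [Ideal.mk_ker] at hπk
  let πl : P' →ₗ[A] P ⧸ I 1 • (⊤ : Submodule A P) :=
    { toFun := π
      map_add' := π.map_add
      map_smul' := fun a x => (π.map_smulₛₗ a x).trans (Quotient.inductionOn' (π x) fun _ => rfl) }
  obtain ⟨f, hf⟩ := Module.projective_lifting_property (Submodule.mkQ _) πl (Submodule.mkQ_surjective _)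
  have hf' : ∀ x, Submodule.Quotient.mk (f x) = π x := fun x => LinearMap.congr_fun hf x
  -- surjective modulo every level
  have top_le : ∀ n, (⊤ : Submodule A P) ≤ LinearMap.range f ⊔ I n • ⊤ := by
    have key : ∀ m : ℕ, (⊤ : Submodule A P) ≤ LinearMap.range f ⊔ I 1 ^ m • ⊤ := by
      intro m
      induction m with
      | zero => rw [pow_zero, Ideal.one_eq_top, Submodule.top_smul]; exact le_sup_right
      | succ m ih =>
        intro y _
        obtain ⟨x, hx⟩ := hπs (Submodule.Quotient.mk y)
        rw [← hf', Submodule.Quotient.eq] at hx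
        have h1 : f x - y ∈ LinearMap.range f ⊔ I 1 ^ (m + 1) • (⊤ : Submodule A P) := by
          refine (le_trans (Submodule.smul_mono le_rfl ih) ?_) hx
          rw [Submodule.smul_sup, ← Submodule.mul_smul, ← pow_succ']
          exact sup_le_sup_right Submodule.smul_le_right _
        have h2 := Submodule.sub_mem _ ((le_sup_left :
          LinearMap.range f ≤ LinearMap.range f ⊔ I 1 ^ (m + 1) • (⊤ : Submodule A P)) ⟨x, rfl⟩) h1
        simpa using h2
    intro n
    obtain ⟨m, hm⟩ := hpow n
    exact (key m).trans (sup_le_sup_left (Submodule.smul_mono hm le_rfl) _)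
  obtain ⟨N, p, hp⟩ := Module.Finite.exists_fin' A P'
  let g : (Fin N → A) →ₗ[A] P := f ∘ₗ p
  have hgr : LinearMap.range g = LinearMap.range f :=
    LinearMap.range_comp_of_range_eq_top f (LinearMap.range_eq_top.mpr hp)
  have hgs : Function.Surjective g := by
    intro x
    have stepg : ∀ n y, g y - x ∈ I n • (⊤ : Submodule A P) →
        ∃ d ∈ I n • (⊤ : Submodule A (Fin N → A)), g (y + d) - x ∈ I (n + 1) • (⊤ : Submodule A P) := by
      intro n y hy
      have h1 : I n • (⊤ : Submodule A P) ≤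
          (I n • (⊤ : Submodule A (Fin N → A))).map g ⊔ I (n + 1) • ⊤ := by
        rw [Submodule.map_smul'', Submodule.map_top, hgr]
        refine (Submodule.smul_mono le_rfl (top_le (n + 1))).trans ?_
        rw [Submodule.smul_sup]
        exact sup_le_sup_left Submodule.smul_le_right _
      obtain ⟨_, ⟨d, hd, rfl⟩, w, hw, hdw⟩ := Submodule.mem_sup.mp (h1 hy)
      refine ⟨-d, neg_mem hd, ?_⟩
      have : g (y + -d) - x = w := by
        rw [map_add, map_neg, show g y + -g d - x = (g y - x) - g d by abel, ← hdw, add_sub_cancel_left]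
      rw [this]; exact hw
    choose d hd hd' using stepg
    have h0 : g 0 - x ∈ I 0 • (⊤ : Submodule A P) := by rw [H.zero, Submodule.top_smul]; trivial
    let seq : (n : ℕ) → {y // g y - x ∈ I n • (⊤ : Submodule A P)} :=
      fun n => Nat.rec ⟨0, h0⟩ (fun n y => ⟨y.1 + d n y.1 y.2, hd' n y.1 y.2⟩) n
    choose y hy using fun i => H.complete (fun n => (seq n).1 i) fun n => by
      change ((seq n).1 + d n _ (seq n).2) i - (seq n).1 i ∈ I n
      rw [Pi.add_apply, add_sub_cancel_left]
      exact apply_mem_of_mem_smul_top _ (hd _ _ _) i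
    refine ⟨y, sub_eq_zero.mp ?_⟩
    have : g y - x ∈ ⨅ n, I n • (⊤ : Submodule A P) := by
      refine (Submodule.mem_iInf _).mpr fun n => ?_
      have h1 := smul_top_le_comap (I n) g (mem_smul_top_pi (I n) (x := y - (seq n).1) fun i => hy i n)
      rw [Submodule.mem_comap, map_sub] at h1
      simpa using add_mem h1 (seq n).2
    rwa [hsep, Submodule.mem_bot] at this
  have hfs : Function.Surjective f := fun x => (hgs x).elim fun z hz => ⟨p z, hz⟩
  -- injectivity
  have hfi : Function.Injective f := by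
    refine (injective_iff_map_eq_zero f).mpr fun z hz => ?_
    obtain ⟨q, hq⟩ := Module.projective_def'.mp hproj
    obtain ⟨s, hs⟩ := Module.projective_lifting_property p LinearMap.id hp
    have hs' : ∀ x, p (s x) = x := LinearMap.congr_fun hs
    suffices h : ∀ n, z ∈ I n • (⊤ : Submodule A P') by
      rw [← hs' z]
      refine (congrArg p (funext fun i => eq_zero_of_forall_mem H.sepA fun n => ?_)).trans (map_zero p)
      exact apply_mem_of_mem_smul_top _ (smul_top_le_comap (I n) s (h n)) i
    intro n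
    rcases Nat.eq_zero_or_pos n with rfl | hn
    · rw [H.zero, Submodule.top_smul]; trivial
    obtain ⟨hnf, hnp⟩ := hQ n
    let fn : (P' ⧸ I n • (⊤ : Submodule A P')) →ₗ[A] P ⧸ I n • (⊤ : Submodule A P) :=
      Submodule.mapQ _ _ f (smul_top_le_comap _ f)
    let fn' := LinearMap.extendScalarsOfSurjective (S := A ⧸ I n) Ideal.Quotient.mk_surjective fn
    have hfns : Function.Surjective fn' := fun t => by
      obtain ⟨t', rfl⟩ := Submodule.Quotient.mk_surjective _ t
      obtain ⟨z', rfl⟩ := hfs t'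
      exact ⟨Submodule.Quotient.mk z', rfl⟩
    obtain ⟨σ', hσ'⟩ := Module.projective_lifting_property fn' LinearMap.id hfns
    let σ := σ'.restrictScalars A
    have hσ : ∀ t, fn (σ t) = t := LinearMap.congr_fun hσ'
    let M := P' ⧸ I n • (⊤ : Submodule A P')
    let T : M →ₗ[A] M := LinearMap.id - σ ∘ₗ fn
    have hT : ∀ w, fn w = 0 → T w = w := fun w hw => by simp [T, hw]
    have hfT : ∀ w, fn (T w) = 0 := fun w => by simp [T, hσ]
    have hsmall : ∀ w, fn w = 0 → w ∈ I 1 • (⊤ : Submodule A M) := by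
      intro w hw
      obtain ⟨z', rfl⟩ := Submodule.Quotient.mk_surjective _ w
      have h1 : f z' ∈ I 1 • (⊤ : Submodule A P) :=
        Submodule.smul_mono (H.anti hn) le_rfl ((Submodule.Quotient.mk_eq_zero _).mp hw)
      have h2 : z' ∈ I 1 • (⊤ : Submodule A P') := by
        rw [← hπk, LinearMap.mem_ker, ← hf', (Submodule.Quotient.mk_eq_zero _).mpr h1]
      exact smul_top_le_comap (I 1) (Submodule.mkQ _) h2
    have hiter : ∀ m : ℕ, LinearMap.range T ≤ I 1 ^ m • (⊤ : Submodule A M) := by
      intro m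
      induction m with
      | zero => rw [pow_zero, Ideal.one_eq_top, Submodule.top_smul]; exact le_top
      | succ m ih =>
        rintro _ ⟨w, rfl⟩
        have h1 := Submodule.mem_map_of_mem (f := T) (hsmall _ (hfT w))
        rw [hT _ (hfT w), Submodule.map_smul'', Submodule.map_top] at h1
        rw [pow_succ', Submodule.mul_smul]
        exact Submodule.smul_mono le_rfl ih h1
    obtain ⟨m, hm⟩ := hpow n
    have h3 : (Submodule.Quotient.mk z : M) ∈ I n • (⊤ : Submodule A M) := by
      refine Submodule.smul_mono hm le_rfl (hiter m ⟨_, hT _ ?_⟩)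
      change Submodule.Quotient.mk (f z) = 0
      rw [hz]; rfl
    have h4 : I n • (⊤ : Submodule A M) = ⊥ := by
      rw [eq_bot_iff, Submodule.smul_le]
      intro a ha w _
      obtain ⟨w', rfl⟩ := Submodule.Quotient.mk_surjective _ w
      rw [Submodule.mem_bot, ← Submodule.Quotient.mk_smul, Submodule.Quotient.mk_eq_zero]
      exact Submodule.smul_mem_smul ha Submodule.mem_top
    rw [h4, Submodule.mem_bot, Submodule.Quotient.mk_eq_zero] at h3
    exact h3
  let e := LinearEquiv.ofBijective f ⟨hfi, hfs⟩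
  exact ⟨Module.Finite.equiv e, Module.Projective.of_equiv e⟩

end Groth.Agent.CAlg8.FiltLift
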