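import Groth.Agent.CAlg8.WeierstrassMain

/-! Ideals of `R[s]` and of `B[1/t]`, `B` the henselization of `R[t]` along `(t)`. -/

set_option autoImplicit false

universe u

open Polynomial IsLocalRing

namespace Groth.Agent.CAlg8.HenselianLaurent

variable {R : Type u} [CommRing R] [HenselianLocalRing R] {B : Type u} [CommRing B] [Algebra R[X] B]
  (hB : Hens2.IsPairHenselization R[X] (Ideal.span {(X : R[X])}) B)
  {L : Type u} [CommRing L] [Algebra B L] [IsLocalization.Away (algebraMap R[X] B X) L]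
  [Algebra R L] (hcomm : ∀ r : R, algebraMap R L r = algebraMap B L (algebraMap R[X] B (C r)))
  (ψ : R[X] →ₐ[R] L) (hψ : ψ X * algebraMap B L (algebraMap R[X] B X) = 1)
include hB hcomm hψ

theorem first (I : Ideal R[X]) (hI : I ⊔ (maximalIdeal R).map (algebraMap R R[X]) = ⊤) :
    (I.map ψ.toRingHom).comap ψ.toRingHom = I ∧
      I.map ψ.toRingHom ⊔ (maximalIdeal R).map (algebraMap R L) = ⊤ ∧
      Function.Bijective (Ideal.quotientMap (I.map ψ.toRingHom) ψ.toRingHom Ideal.le_comap_map) := by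
  have hψC : ∀ r, ψ (C r) = algebraMap B L (algebraMap R[X] B (C r)) := fun r => by
    rw [← hcomm, ← Polynomial.algebraMap_eq, AlgHom.commutes]
  obtain ⟨f, hf, g, hg, hfg⟩ := Submodule.mem_sup.mp ((Ideal.eq_top_iff_one _).mp hI)
  rw [Polynomial.algebraMap_eq, Ideal.mem_map_C_iff] at hg
  have hfc : ∀ i, 0 < i → f.coeff i ∈ maximalIdeal R := fun i hi => by
    rw [eq_sub_of_add_eq hfg, coeff_sub, coeff_one, if_neg hi.ne', zero_sub]
    exact neg_mem (hg i)
  have hf0 : IsUnit (f.coeff 0) := by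
    rw [eq_sub_of_add_eq hfg, coeff_sub, coeff_one_zero]
    exact notMem_maximalIdeal.mp fun h => (maximalIdeal.isMaximal R).ne_top
      ((Ideal.eq_top_iff_one _).mpr (by simpa using add_mem h (hg 0)))
  obtain ⟨v, hv⟩ := hf0.exists_left_inv
  set d := f.natDegree
  set P : R[X] := C v * f.reflect d
  have hPc : ∀ i, P.coeff i = v * f.coeff (revAt d i) := fun i => by
    rw [coeff_C_mul, coeff_reflect]
  have hPd : P.natDegree ≤ d := natDegree_le_iff_coeff_eq_zero.mpr fun i hi => by
    rw [hPc, revAt_eq_self_of_lt hi, coeff_eq_zero_of_natDegree_lt hi, mul_zero]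
  have hPone : P.coeff d = 1 := by rw [hPc, revAt_le le_rfl, Nat.sub_self, hv]
  have hP : Weier.Dist P := ⟨monic_of_natDegree_le_of_coeff_eq_one d hPd hPone, fun i hi => by
    rw [hPc, revAt_le (le_trans hi.le hPd)]
    exact Ideal.mul_mem_left _ _ (hfc _ (by omega))⟩
  let q := Ideal.Quotient.mk I
  let σ : R[X] ⧸ I := q X
  have hσf : aeval σ f = 0 := by
    rw [show σ = Ideal.Quotient.mkₐ R I X from rfl, aeval_algHom_apply, aeval_X_left_apply]
    exact Ideal.Quotient.eq_zero_iff_mem.mpr hf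
  have hσu : IsUnit σ := by
    refine IsUnit.of_mul_eq_one (-(algebraMap R _ v * aeval σ f.divX)) ?_
    have h1 : aeval σ f = aeval σ f.divX * σ + algebraMap R _ (f.coeff 0) := by
      conv_lhs => rw [← divX_mul_X_add f]
      simp
    have h2 : algebraMap R (R[X] ⧸ I) v * algebraMap R _ (f.coeff 0) = 1 := by rw [← map_mul, hv, map_one]
    rw [hσf] at h1
    linear_combination (algebraMap R (R[X] ⧸ I) v) * h1 + h2
  let τ : R[X] ⧸ I := ↑hσu.unit⁻¹
  have hτσ : τ * σ = 1 := hσu.val_inv_mul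
  have hPτ : aeval τ P = 0 := by
    let _ : Invertible σ := ⟨τ, hτσ, by rw [mul_comm]; exact hτσ⟩
    have h1 := eval₂_reflect_mul_pow (algebraMap R (R[X] ⧸ I)) σ d f le_rfl
    rw [← aeval_def, ← aeval_def, hσf, show (⅟σ : R[X] ⧸ I) = τ from rfl] at h1
    rw [map_mul, aeval_C, show aeval τ (f.reflect d) = 0 from ?_, mul_zero]
    exact ((hσu.pow d).mul_left_eq_zero).mp h1
  -- the map out of `L`
  obtain ⟨⟨γ, hγ⟩, -, hrep⟩ := Weier.quotient_dist hB hP
  let j : AdjoinRoot P →ₐ[R] R[X] ⧸ I := AdjoinRoot.liftAlgHom P (Algebra.ofId R _) τ hPτ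
  let κ : B →+* R[X] ⧸ I := j.toRingHom.comp γ
  have hκ : ∀ k, κ (algebraMap R[X] B k) = aeval τ k := fun k => by
    show j (γ (algebraMap R[X] B k)) = _
    rw [← RingHom.comp_apply, hγ]
    exact (AdjoinRoot.lift_mk (show _ from hPτ) k).trans rfl
  have hκu : IsUnit (κ (algebraMap R[X] B X)) := by
    rw [hκ, aeval_X]; exact IsUnit.of_mul_eq_one σ hτσ
  let θ : L →+* R[X] ⧸ I := IsLocalization.Away.lift (algebraMap R[X] B X) hκu
  have hθ : ∀ k, θ (algebraMap B L k) = κ k := IsLocalization.Away.lift_eq _ hκu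
  have hθψ : ∀ k, θ (ψ k) = q k := by
    refine RingHom.congr_fun (f := θ.comp ψ.toRingHom) (Polynomial.ringHom_ext (fun r => ?_) ?_)
    · change θ (ψ (C r)) = q (C r)
      rw [hψC, hθ, hκ, aeval_C]; rfl
    · change θ (ψ X) = σ
      have h := congrArg θ hψ
      rw [map_mul, hθ, hκ, aeval_X, map_one] at h
      calc θ (ψ X) = θ (ψ X) * (τ * σ) := by rw [hτσ, mul_one]
        _ = σ := by rw [← mul_assoc, h, one_mul]
  set IL := I.map ψ.toRingHom
  have hILθ : ∀ x ∈ IL, θ x = 0 := by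
    intro x hx
    have : IL ≤ RingHom.ker θ := Ideal.map_le_iff_le_comap.mpr fun k hk => by
      rw [Ideal.mem_comap, RingHom.mem_ker]
      exact (hθψ k).trans (Ideal.Quotient.eq_zero_iff_mem.mpr hk)
    exact this hx
  let ψb := Ideal.quotientMap IL ψ.toRingHom Ideal.le_comap_map
  have hpoly : ∀ k, ψb (θ (algebraMap B L (algebraMap R[X] B k))) =
      Ideal.Quotient.mk IL (algebraMap B L (algebraMap R[X] B k)) := by
    refine RingHom.congr_fun (f := ((ψb.comp θ).comp (algebraMap B L)).comp (algebraMap R[X] B))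
      (g := ((Ideal.Quotient.mk IL).comp (algebraMap B L)).comp (algebraMap R[X] B))
      (Polynomial.ringHom_ext (fun r => ?_) ?_)
    · simp only [RingHom.comp_apply]
      rw [← hψC, hθψ]; rfl
    · simp only [RingHom.comp_apply]
      rw [hθ, hκ, aeval_X]
      have h1 : ψb τ * Ideal.Quotient.mk IL (ψ X) = 1 := by
        rw [show Ideal.Quotient.mk IL (ψ X) = ψb σ from rfl, ← map_mul, hτσ, map_one]
      have h2 : Ideal.Quotient.mk IL (ψ X) *
          Ideal.Quotient.mk IL (algebraMap B L (algebraMap R[X] B X)) = 1 := by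
        rw [← map_mul, hψ, map_one]
      exact left_inv_eq_right_inv h1 h2
  have hP0 : Ideal.Quotient.mk IL (algebraMap B L (algebraMap R[X] B P)) = 0 := by
    rw [← hpoly, hθ, hκ, hPτ, map_zero]
  have hcomp : ψb.comp θ = Ideal.Quotient.mk IL := by
    refine IsLocalization.ringHom_ext (R := B) (Submonoid.powers (algebraMap R[X] B X))
      (RingHom.ext fun b => ?_)
    obtain ⟨k, hk⟩ := hrep b
    obtain ⟨c, hc⟩ := Ideal.mem_span_singleton'.mp hk
    rw [show b = algebraMap R[X] B k - c * algebraMap R[X] B P by linear_combination hc]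
    simp only [RingHom.comp_apply, map_sub, map_mul, hP0, mul_zero, sub_zero]
    rw [show θ (algebraMap B L (algebraMap R[X] B P)) = 0 by rw [hθ, hκ, hPτ], map_zero, mul_zero, sub_zero]
    exact hpoly k
  refine ⟨le_antisymm (fun k hk => Ideal.Quotient.eq_zero_iff_mem.mp ((hθψ k).symm.trans (hILθ _ hk)))
    Ideal.le_comap_map, ?_, ?_, ?_⟩
  · refine (Ideal.eq_top_iff_one _).mpr ?_
    rw [← map_one ψ.toRingHom, ← hfg, map_add]
    refine Submodule.add_mem_sup (Ideal.mem_map_of_mem _ hf) ?_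
    have : g ∈ (maximalIdeal R).map (algebraMap R R[X]) := by
      rw [Polynomial.algebraMap_eq, Ideal.mem_map_C_iff]; exact hg
    have := Ideal.mem_map_of_mem ψ.toRingHom this
    rwa [Ideal.map_map, show (ψ.toRingHom.comp (algebraMap R R[X])) = algebraMap R L from ψ.comp_algebraMap] at this
  · refine (injective_iff_map_eq_zero _).mpr fun a ha => ?_
    obtain ⟨k, rfl⟩ := Ideal.Quotient.mk_surjective a
    rw [Ideal.quotientMap_mk, Ideal.Quotient.eq_zero_iff_mem] at ha
    exact (hθψ k).symm.trans (hILθ _ ha)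
  · intro y
    obtain ⟨x, rfl⟩ := Ideal.Quotient.mk_surjective y
    exact ⟨θ x, RingHom.congr_fun hcomp x⟩

theorem second (J : Ideal L) (hJ : J ⊔ (maximalIdeal R).map (algebraMap R L) = ⊤) :
    (J.comap ψ.toRingHom).map ψ.toRingHom = J ∧
      J.comap ψ.toRingHom ⊔ (maximalIdeal R).map (algebraMap R R[X]) = ⊤ := by
  set t := algebraMap R[X] B X
  have hmL : (maximalIdeal R).map (algebraMap R L) = (Weier.mB (R := R) B).map (algebraMap B L) := by
    rw [Weier.mB, Ideal.map_map, Ideal.map_map]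
    congr 1
    exact RingHom.ext hcomm
  have hTX : IsUnit (algebraMap B L t) := IsLocalization.Away.algebraMap_isUnit t
  obtain ⟨j, hj, μ, hμ, hjμ⟩ := Submodule.mem_sup.mp ((Ideal.eq_top_iff_one _).mp hJ)
  rw [hmL, IsLocalization.mem_map_algebraMap_iff (Submonoid.powers t) L] at hμ
  obtain ⟨⟨⟨a, ha⟩, ⟨_, N₀, rfl⟩⟩, hay⟩ := hμ
  have hhJ : algebraMap B L (t ^ N₀ - a) ∈ J := by
    rw [map_sub]
    have : algebraMap B L (t ^ N₀) - algebraMap B L a = j * algebraMap B L (t ^ N₀) := by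
      simp only at hay
      rw [← hay]; linear_combination (-(algebraMap B L (t ^ N₀))) * hjμ
    rw [this]; exact J.mul_mem_right _ hj
  obtain ⟨P, hP, u, hu⟩ := Weier.exists_dist hB (t ^ N₀ - a) fun h => Weier.not_pow_mem hB N₀ (by
    simpa using add_mem h ha)
  have hPJ : algebraMap B L (algebraMap R[X] B P) ∈ J := by
    rw [hu, map_mul] at hhJ
    exact (Ideal.mul_unit_mem_iff_mem J (u.isUnit.map _)).mp hhJ
  set N := P.natDegree with hPd
  set f : R[X] := P.reflect N
  have hcoe : ∀ k : R[X], algebraMap B L (algebraMap R[X] B k) = aeval (algebraMap B L t) k := by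
    refine RingHom.congr_fun (f := (algebraMap B L).comp (algebraMap R[X] B))
      (g := (aeval (R := R) (algebraMap B L t)).toRingHom) (Polynomial.ringHom_ext (fun r => ?_) ?_)
    · simp only [RingHom.comp_apply, AlgHom.toRingHom_eq_coe, RingHom.coe_coe, aeval_C, hcomm]
    · simp [t]
  have hfJ : ψ f ∈ J := by
    let _ : Invertible (algebraMap B L t) := ⟨ψ X, hψ, by rw [mul_comm]; exact hψ⟩
    have h1 := eval₂_reflect_mul_pow (algebraMap R L) (algebraMap B L t) N P le_rfl
    rw [← aeval_def, ← aeval_def, show (⅟(algebraMap B L t)) = ψ X from rfl,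
      aeval_algHom_apply ψ, aeval_X_left_apply, ← hcoe P] at h1
    exact (Ideal.mul_unit_mem_iff_mem J (hTX.pow N)).mp (h1 ▸ hPJ)
  have hf1 : (1 : R[X]) - f ∈ (maximalIdeal R).map (algebraMap R R[X]) := by
    rw [Polynomial.algebraMap_eq, Ideal.mem_map_C_iff]
    intro k
    rw [coeff_sub, coeff_one, coeff_reflect]
    have hb := Ideal.mem_map_C_iff.mp hP.sub_mem
    rcases Nat.eq_zero_or_pos k with rfl | hk
    · rw [if_pos rfl, revAt_le (Nat.zero_le _), Nat.sub_zero, hP.monic.coeff_natDegree, sub_self]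
      exact zero_mem _
    · rw [if_neg hk.ne', zero_sub, neg_mem_iff]
      rcases le_or_gt k N with hle | hlt
      · rw [revAt_le hle]; exact hP.low _ (by omega)
      · rw [revAt_eq_self_of_lt hlt, coeff_eq_zero_of_natDegree_lt hlt]; exact zero_mem _
  have htop : J.comap ψ.toRingHom ⊔ (maximalIdeal R).map (algebraMap R R[X]) = ⊤ := by
    refine (Ideal.eq_top_iff_one _).mpr ?_
    rw [← add_sub_cancel f (1 : R[X])]
    exact Submodule.add_mem_sup (Ideal.mem_comap.mpr hfJ) hf1
  refine ⟨le_antisymm Ideal.map_comap_le fun x hx => ?_, htop⟩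
  obtain ⟨-, -, hbij⟩ := first hB hcomm ψ hψ _ htop
  obtain ⟨c, hc⟩ := hbij.surjective (Ideal.Quotient.mk _ x)
  obtain ⟨k, rfl⟩ := Ideal.Quotient.mk_surjective c
  rw [Ideal.quotientMap_mk, Ideal.Quotient.eq] at hc
  have hk : k ∈ J.comap ψ.toRingHom := by
    rw [Ideal.mem_comap]
    simpa using add_mem (Ideal.map_comap_le hc) hx
  have := sub_mem (Ideal.mem_map_of_mem ψ.toRingHom hk) hc
  simpa using this

end Groth.Agent.CAlg8.HenselianLaurent
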