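import Mathlib

/-! Invertible modules embedded as ideals comaximal with a given ideal. -/

set_option autoImplicit false

universe u

open TensorProduct

namespace Groth.Agent.CAlg8.InvIdeal

variable {S : Type u} [CommRing S] {M : Type u} [AddCommGroup M] [Module S M] [Module.Invertible S M]

theorem smul_dual_comm (χ : Module.Dual S M) (a b : M) : χ a • b = χ b • a := by
  have h := congrArg (fun z => TensorProduct.lid S M (χ.rTensor M z))
    (Module.Invertible.tmul_comm (R := S) (m₁ := a) (m₂ := b))
  simpa using h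

theorem eq_zero_of_smul_eq_zero {c : S} (hc : IsSMulRegular S c) {x : M} (h : c • x = 0) : x = 0 := by
  refine (Module.forall_dual_apply_eq_zero_iff S x).mp fun χ => hc ?_
  show c • χ x = c • (0 : S)
  rw [← map_smul, h, map_zero, smul_zero]

theorem injective_of_regular_mem (φ : M →ₗ[S] S) {c : S} (hc : IsSMulRegular S c)
    (h : c ∈ LinearMap.range φ) : Function.Injective φ := by
  obtain ⟨m₀, rfl⟩ := h
  refine (injective_iff_map_eq_zero φ).mpr fun x hx => eq_zero_of_smul_eq_zero hc ?_
  rw [smul_dual_comm φ m₀ x, hx, zero_smul]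

/-- A functional surjective modulo `m`. -/
theorem exists_functional (m : Ideal S) [Module.Free (S ⧸ m) ((S ⧸ m) ⊗[S] M)] :
    ∃ φ : M →ₗ[S] S, (LinearMap.range φ : Ideal S) ⊔ m = ⊤ := by
  rcases subsingleton_or_nontrivial (S ⧸ m) with h | h
  · exact ⟨0, by rw [Ideal.Quotient.subsingleton_iff.mp h, sup_top_eq]⟩
  obtain ⟨e⟩ := Module.Invertible.free_iff_linearEquiv.mp
    (inferInstance : Module.Free (S ⧸ m) ((S ⧸ m) ⊗[S] M))
  let g : M →ₗ[S] S ⧸ m := (e.toLinearMap.restrictScalars S) ∘ₗ (TensorProduct.mk S (S ⧸ m) M 1)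
  obtain ⟨φ, hφ⟩ := Module.projective_lifting_property (Submodule.mkQ m) g (Submodule.mkQ_surjective m)
  refine ⟨φ, ?_⟩
  obtain ⟨z, hz⟩ := e.surjective 1
  obtain ⟨x, rfl⟩ : ∃ x : M, (1 : S ⧸ m) ⊗ₜ[S] x = z := by
    clear hz
    induction z using TensorProduct.induction_on with
    | zero => exact ⟨0, tmul_zero _ _⟩
    | tmul a b =>
      obtain ⟨r, rfl⟩ := Ideal.Quotient.mk_surjective a
      exact ⟨r • b, by rw [tmul_smul, smul_tmul', Algebra.smul_def, mul_one, Ideal.Quotient.algebraMap_eq]⟩
    | add x y hx hy =>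
      obtain ⟨a, rfl⟩ := hx
      obtain ⟨b, rfl⟩ := hy
      exact ⟨a + b, tmul_add _ _ _⟩
  rw [Ideal.eq_top_iff_one]
  have h1 : Ideal.Quotient.mk m (φ x) = Ideal.Quotient.mk m 1 := by
    rw [map_one]
    exact (LinearMap.congr_fun hφ x).trans hz
  rw [← add_sub_cancel (φ x) (1 : S)]
  refine Submodule.add_mem_sup ⟨x, rfl⟩ ?_
  rw [← Ideal.Quotient.eq]; exact h1.symm

/-- An ideal with an inverse up to a regular element is invertible. -/
theorem invertible_of_mul_eq {I I' : Ideal S} {f : S} (hf : IsSMulRegular S f)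
    (h : I * I' = Ideal.span {f}) : Module.Invertible S I := by
  have hfI : f ∈ I * I' := by rw [h]; exact Ideal.mem_span_singleton_self f
  have hdvd : ∀ x ∈ I, ∀ y ∈ I', ∃ c, c * f = x * y := fun x hx y hy =>
    Ideal.mem_span_singleton'.mp (h ▸ Ideal.mul_mem_mul hx hy)
  -- `I` is a retract of a free module
  have hproj : Module.Projective S I := by
    obtain ⟨n, a, b, hab⟩ : ∃ (n : ℕ) (a : Fin n → I) (b : Fin n → I'),
        ∑ i, (a i : S) * b i = f := by
      refine Submodule.mul_induction_on hfI (fun x hx y hy => ⟨1, fun _ => ⟨x, hx⟩, fun _ => ⟨y, hy⟩,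
        by simp⟩) ?_
      rintro x y ⟨n, a, b, rfl⟩ ⟨k, a', b', rfl⟩
      exact ⟨n + k, Fin.append a a', Fin.append b b', by simp [Fin.sum_univ_add]⟩
    choose c hc using fun (x : I) (i : Fin n) => hdvd x x.2 (b i) (b i).2
    let ψ : I →ₗ[S] (Fin n → S) :=
      { toFun := c
        map_add' := fun x y => funext fun i => hf (by
          show f • _ = f • _
          simp only [smul_eq_mul, Pi.add_apply, mul_comm f, add_mul, hc, Submodule.coe_add])
        map_smul' := fun r x => funext fun i => hf (by
          show f • _ = f • _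
          simp only [smul_eq_mul, Pi.smul_apply, RingHom.id_apply, mul_comm f, mul_assoc, hc,
            SetLike.val_smul, smul_eq_mul]) }
    refine Module.Projective.of_split ψ (Fintype.linearCombination S a) (LinearMap.ext fun x => ?_)
    refine Subtype.ext (hf ?_)
    show f • ((Fintype.linearCombination S a (c x) : I) : S) = f • (x : S)
    simp only [Fintype.linearCombination_apply, Submodule.coe_sum, SetLike.val_smul, smul_eq_mul,
      Finset.mul_sum]
    rw [show f * (x : S) = (x : S) * ∑ i, (a i : S) * b i by rw [hab, mul_comm], Finset.mul_sum]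
    exact Finset.sum_congr rfl fun i _ => by rw [← mul_assoc, mul_comm f, hc]; ring
  let μ : I ⊗[S] I' →ₗ[S] S :=
    (Submodule.subtype I) ∘ₗ (TensorProduct.rid S I).toLinearMap ∘ₗ (Submodule.subtype I').lTensor I
  have hμ : Function.Injective μ :=
    (Submodule.injective_subtype I).comp ((TensorProduct.rid S I).injective.comp
      (Module.Flat.lTensor_preserves_injective_linearMap _ (Submodule.injective_subtype I')))
  have hμt : ∀ (x : I) (y : I'), μ (x ⊗ₜ y) = (x : S) * y := fun x y => by simp [μ, mul_comm]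
  have hrange : LinearMap.range μ = LinearMap.range (LinearMap.toSpanSingleton S S f) := by
    rw [← LinearMap.span_singleton_eq_range, show (S ∙ f) = I * I' from h.symm]
    refine le_antisymm ?_ (Submodule.mul_le.mpr fun x hx y hy => ⟨⟨x, hx⟩ ⊗ₜ ⟨y, hy⟩, hμt _ _⟩)
    rintro _ ⟨z, rfl⟩
    induction z using TensorProduct.induction_on with
    | zero => simp
    | tmul x y => rw [hμt]; exact Ideal.mul_mem_mul x.2 y.2
    | add x y hx hy => rw [map_add]; exact add_mem hx hy
  exact Module.Invertible.left ((LinearEquiv.ofInjective μ hμ).trans ((LinearEquiv.ofEq _ _ hrange).trans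
    (LinearEquiv.ofInjective (LinearMap.toSpanSingleton S S f) (fun a b hab => hf (by
      simpa [smul_eq_mul, mul_comm] using hab))).symm))

/-- The colon ideal inverts an embedded invertible module. -/
theorem mul_colon (φ : M →ₗ[S] S) {c : S} (hc : c ∈ LinearMap.range φ) :
    (LinearMap.range φ : Ideal S) * (Ideal.span {c}).colon (LinearMap.range φ : Ideal S) =
      Ideal.span {c} := by
  refine le_antisymm (Submodule.mul_le.mpr fun x hx y hy => ?_) ?_
  · rw [mul_comm]
    exact Submodule.mem_colon.mp hy x hx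
  obtain ⟨m₀, rfl⟩ := hc
  rw [Ideal.span_singleton_le_iff_mem]
  have hχ : ∀ χ : Module.Dual S M, χ m₀ ∈ (Ideal.span {φ m₀}).colon (LinearMap.range φ : Ideal S) := by
    intro χ
    rw [Submodule.mem_colon]
    intro s hs
    obtain ⟨x, rfl⟩ := hs
    have h1 := congrArg φ (smul_dual_comm χ m₀ x)
    rw [map_smul, map_smul] at h1
    rw [h1, smul_eq_mul]
    exact Ideal.mul_mem_left _ _ (Ideal.mem_span_singleton_self _)
  obtain ⟨z, hz⟩ := (Module.Invertible.linearEquiv S M).surjective 1
  suffices ∀ z, Module.Invertible.linearEquiv S M z * φ m₀ ∈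
      (LinearMap.range φ : Ideal S) * (Ideal.span {φ m₀}).colon (LinearMap.range φ : Ideal S) by
    simpa [hz] using this z
  intro z
  induction z using TensorProduct.induction_on with
  | zero => simp
  | tmul χ m =>
    have h1 := congrArg φ (smul_dual_comm χ m₀ m)
    rw [map_smul, map_smul, smul_eq_mul, smul_eq_mul] at h1
    rw [show Module.Invertible.linearEquiv S M (χ ⊗ₜ m) = χ m by simp [Module.Invertible.linearEquiv],
      ← h1, mul_comm (χ m₀)]
    exact Ideal.mul_mem_mul ⟨m, rfl⟩ (hχ χ)
  | add x y hx hy => rw [map_add, add_mul]; exact add_mem hx hy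

end Groth.Agent.CAlg8.InvIdeal
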