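import Mathlib

/-! Totally isotropic subspaces and one-parameter subgroups for vector-valued bilinear forms. -/

open scoped BigOperators
set_option autoImplicit false

namespace Groth.Agent.CAlg8.Isotropic

section Comb

variable {ι : Type*} [Fintype ι] (d : ι → ℕ) (m : ι → ℤ)

/-- total weight of the indices with `b ≤ m i` -/
def upper (b : ℤ) : ℕ := ∑ i with b ≤ m i, d i
/-- total weight of the indices with `m i ≤ b` -/
def lower (b : ℤ) : ℕ := ∑ i with m i ≤ b, d i

theorem sum_eq_layers (M : ℕ) (hM : ∀ i, |m i| ≤ M) :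
    ∑ i, m i * (d i : ℤ) =
      ∑ b ∈ Finset.range M, ((upper d m ((b : ℤ) + 1) : ℤ) - (lower d m (-((b : ℤ) + 1)) : ℤ)) := by
  have key : ∀ (z : ℤ), |z| ≤ M →
      z = ∑ b ∈ Finset.range M, ((if (b : ℤ) + 1 ≤ z then (1 : ℤ) else 0) - if z ≤ -((b : ℤ) + 1) then 1 else 0) := by
    intro z hz
    rw [Finset.sum_sub_distrib, Finset.sum_boole, Finset.sum_boole]
    have e1 : (Finset.range M).filter (fun b : ℕ => (b : ℤ) + 1 ≤ z) = Finset.range z.toNat := by
      ext b; simp only [Finset.mem_filter, Finset.mem_range]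
      rw [abs_le] at hz; omega
    have e2 : (Finset.range M).filter (fun b : ℕ => z ≤ -((b : ℤ) + 1)) = Finset.range (-z).toNat := by
      ext b; simp only [Finset.mem_filter, Finset.mem_range]
      rw [abs_le] at hz; omega
    rw [e1, e2, Finset.card_range, Finset.card_range]
    omega
  simp only [upper, lower, Nat.cast_sum, Finset.sum_filter]
  simp only [← Finset.sum_sub_distrib]
  rw [Finset.sum_comm]
  refine Finset.sum_congr rfl fun i _ => ?_
  conv_lhs => rw [key (m i) (hM i), Finset.sum_mul]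
  refine Finset.sum_congr rfl fun b _ => ?_
  split_ifs <;> simp

theorem exists_bound : ∃ M : ℕ, ∀ i, |m i| ≤ M :=
  ⟨∑ i, (m i).natAbs, fun i => by
    rw [Int.abs_eq_natAbs]
    exact_mod_cast Finset.single_le_sum (f := fun i => (m i).natAbs) (fun j _ => Nat.zero_le _) (Finset.mem_univ i)⟩

theorem upper_eq_zero {b : ℤ} (h : upper d m b = 0) {i : ι} (hi : b ≤ m i) : d i = 0 :=
  (Finset.sum_eq_zero_iff.mp h) i (by simp [hi])

theorem lower_eq_zero {b : ℤ} (h : lower d m b = 0) {i : ι} (hi : m i ≤ b) : d i = 0 :=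
  (Finset.sum_eq_zero_iff.mp h) i (by simp [hi])

theorem semistable_contra (h : ∀ b : ℕ, lower d m (-(b : ℤ)) ≤ upper d m ((b : ℤ) + 1))
    (hsum : ∑ i, m i * (d i : ℤ) = 0) : ∀ i, d i = 0 := by
  obtain ⟨M, hM⟩ := exists_bound m
  rw [sum_eq_layers d m (M + 1) (fun i => (hM i).trans (by norm_num)), Finset.sum_sub_distrib] at hsum
  have h2 : ∑ b ∈ Finset.range (M + 1), (lower d m (-((b : ℤ) + 1)) : ℤ) ≤
      ∑ b ∈ Finset.range (M + 1), (upper d m ((b : ℤ) + 1 + 1) : ℤ) := Finset.sum_le_sum fun b _ => by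
    have := h (b + 1); push_cast at this; exact_mod_cast this
  have h3 : ∑ b ∈ Finset.range (M + 1), ((upper d m ((b : ℤ) + 1) : ℤ) - (upper d m ((b : ℤ) + 1 + 1) : ℤ)) =
      (upper d m 1 : ℤ) - (upper d m ((M : ℤ) + 1 + 1) : ℤ) := by
    have := Finset.sum_range_sub' (fun b : ℕ => (upper d m ((b : ℤ) + 1) : ℤ)) (M + 1)
    push_cast at this
    simpa using this
  have h4 : upper d m ((M : ℤ) + 1 + 1) = 0 := Finset.sum_eq_zero fun i hi => by
    simp only [Finset.mem_filter] at hi
    have := (abs_le.mp (hM i)).2; omega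
  rw [Finset.sum_sub_distrib, h4] at h3
  have hU : upper d m 1 = 0 := by
    have : (upper d m 1 : ℤ) ≤ 0 := by push_cast at h3; linarith
    omega
  have hL : lower d m 0 = 0 := by have := h 0; simp at this; omega
  intro i
  rcases le_or_gt (m i) 0 with hi | hi
  · exact lower_eq_zero d m hL hi
  · exact upper_eq_zero d m hU hi

theorem stable_contra
    (h : ∀ b : ℕ, lower d m (-((b : ℤ) + 1)) ≤ upper d m ((b : ℤ) + 1) ∧
      (lower d m (-((b : ℤ) + 1)) ≠ 0 → lower d m (-((b : ℤ) + 1)) < upper d m ((b : ℤ) + 1)))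
    (hsum : ∑ i, m i * (d i : ℤ) = 0) : ∀ i, m i ≠ 0 → d i = 0 := by
  obtain ⟨M, hM⟩ := exists_bound m
  rw [sum_eq_layers d m M hM] at hsum
  have h0 := (Finset.sum_eq_zero_iff_of_nonneg fun b _ => by have := (h b).1; omega).mp hsum
  intro i hi
  have key : ∀ b < M, lower d m (-((b : ℤ) + 1)) = 0 ∧ upper d m ((b : ℤ) + 1) = 0 := fun b hb => by
    have := h0 b (Finset.mem_range.mpr hb); have := h b; omega
  have := abs_le.mp (hM i)
  rcases lt_or_gt_of_ne hi with hlt | hgt
  · exact lower_eq_zero d m (key (((-m i) - 1).toNat) (by omega)).1 (by omega)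
  · exact upper_eq_zero d m (key ((m i - 1).toNat) (by omega)).2 (by omega)

end Comb

section Geom

variable {K : Type*} [Field K] {W H : Type*} [AddCommGroup W] [Module K W] [AddCommGroup H] [Module K H]
  [FiniteDimensional K H] {ι : Type*} [Fintype ι] [DecidableEq ι] (Hs : ι → Submodule K H) (m : ι → ℤ)
  (q : H →ₗ[K] H →ₗ[K] W)

theorem finrank_sup_finset (hi : iSupIndep Hs) (s : Finset ι) :
    Module.finrank K (s.sup Hs : Submodule K H) = ∑ i ∈ s, Module.finrank K (Hs i) := by
  induction s using Finset.induction with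
  | empty => simp
  | insert a s ha ih =>
    rw [Finset.sup_insert, Finset.sum_insert ha, ← ih]
    have hd : Disjoint (Hs a) (s.sup Hs) := by
      rw [Finset.sup_eq_iSup]
      exact hi.disjoint_biSup (y := (s : Set ι)) (by simpa using ha)
    have := Submodule.finrank_sup_add_finrank_inf_eq (Hs a) (s.sup Hs)
    rwa [hd.eq_bot, finrank_bot, add_zero] at this

theorem eq_zero_of_pairs {s t : Finset ι} (h : ∀ i ∈ s, ∀ j ∈ t, ∀ x ∈ Hs i, ∀ y ∈ Hs j, q x y = 0)
    {x y : H} (hx : x ∈ s.sup Hs) (hy : y ∈ t.sup Hs) : q x y = 0 := by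
  have h1 : ∀ i ∈ s, ∀ x ∈ Hs i, t.sup Hs ≤ LinearMap.ker (q x) := fun i hi x hx =>
    Finset.sup_le fun j hj y hy => h i hi j hj x hx y hy
  have h2 : s.sup Hs ≤ LinearMap.ker (q.flip y) := Finset.sup_le fun i hi x hx => h1 i hi x hx hy
  exact h2 hx

theorem lower_add_lower_le (hi : iSupIndep Hs)
    (rel : ℕ → ℕ → Prop)
    (hss : ∀ V : Submodule K H, V ≠ ⊥ → (∀ x ∈ V, ∀ y ∈ V, q x y = 0) →
      rel (Module.finrank K V + Module.finrank K ↥(⨅ (y : H) (_ : y ∈ V), LinearMap.ker (q.flip y) : Submodule K H))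
        (Module.finrank K H))
    (a c : ℤ) (hac : a ≤ c)
    (hpair : ∀ i j, m i ≤ c → m j ≤ a → ∀ x ∈ Hs i, ∀ y ∈ Hs j, q x y = 0)
    (hmono : ∀ {n n' : ℕ}, n ≤ n' → rel n' (Module.finrank K H) → rel n (Module.finrank K H))
    (hne : lower (fun i => Module.finrank K (Hs i)) m a ≠ 0) :
    rel (lower (fun i => Module.finrank K (Hs i)) m a + lower (fun i => Module.finrank K (Hs i)) m c)
      (Module.finrank K H) := by
  have hA := finrank_sup_finset Hs hi (Finset.univ.filter fun i => m i ≤ a)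
  have hC := finrank_sup_finset Hs hi (Finset.univ.filter fun i => m i ≤ c)
  unfold lower at hne ⊢
  rw [← hA, ← hC]
  refine hmono (Nat.add_le_add_left (Submodule.finrank_mono ?_) _) (hss _ ?_ ?_)
  · intro x hx
    rw [Submodule.mem_iInf]
    intro y
    rw [Submodule.mem_iInf]
    intro hy
    exact eq_zero_of_pairs Hs q (s := Finset.univ.filter fun i => m i ≤ c)
      (t := Finset.univ.filter fun i => m i ≤ a)
      (fun i hi j hj => hpair i j (Finset.mem_filter.mp hi).2 (Finset.mem_filter.mp hj).2) hx hy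
  · intro hb
    exact hne (by rw [← finrank_sup_finset Hs hi, hb, finrank_bot])
  · intro x hx y hy
    exact eq_zero_of_pairs Hs q (s := Finset.univ.filter fun i => m i ≤ a)
      (t := Finset.univ.filter fun i => m i ≤ a)
      (fun i hi j hj => hpair i j ((Finset.mem_filter.mp hi).2.trans hac) (Finset.mem_filter.mp hj).2) hx hy

theorem lower_add_upper (hi : iSupIndep Hs) (ht : ⨆ i, Hs i = ⊤) (c : ℤ) :
    lower (fun i => Module.finrank K (Hs i)) m c + upper (fun i => Module.finrank K (Hs i)) m (c + 1) =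
      Module.finrank K H := by
  have : Module.finrank K H = ∑ i, Module.finrank K (Hs i) := by
    rw [← finrank_sup_finset Hs hi, Finset.sup_univ_eq_iSup, ht, finrank_top]
  rw [this, lower, upper, ← Finset.sum_filter_add_sum_filter_not Finset.univ (fun i => m i ≤ c)]
  congr 1
  refine Finset.sum_congr (Finset.filter_congr fun i _ => ?_) fun _ _ => rfl
  omega

omit [FiniteDimensional K H] [Fintype ι] [DecidableEq ι] in
theorem iSupIndep_three {V C D : Submodule K H} (h1 : Disjoint V C) (h2 : Disjoint (V ⊔ C) D) :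
    iSupIndep ![V, C, D] := by
  rw [iSupIndep_iff_finsetSum_eq_zero_imp_eq_zero]
  intro s v hv hsum i hi
  let w : Fin 3 → H := fun j => if j ∈ s then v j else 0
  have hw : ∀ j, w j ∈ ![V, C, D] j := fun j => by
    simp only [w]; split
    · exact hv j ‹_›
    · exact zero_mem _
  have hsum' : w 0 + w 1 + w 2 = 0 := by
    rw [← Fin.sum_univ_three w, Fintype.sum_ite_mem]; exact hsum
  have h0 : w 0 ∈ V := hw 0
  have h1' : w 1 ∈ C := hw 1
  have h2' : w 2 ∈ D := hw 2
  have e2 : w 2 = 0 := Submodule.disjoint_def.mp h2 _ (by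
    rw [eq_neg_of_add_eq_zero_right hsum']
    exact neg_mem (Submodule.add_mem_sup h0 h1')) h2'
  rw [e2, add_zero] at hsum'
  have e0 : w 0 = 0 := Submodule.disjoint_def.mp h1 _ h0 (by
    rw [eq_neg_of_add_eq_zero_left hsum']; exact neg_mem h1')
  rw [e0, zero_add] at hsum'
  have : w i = 0 := by fin_cases i <;> assumption
  simpa [w, hi] using this

/-- The destabilising one-parameter subgroup attached to a totally isotropic subspace. -/
theorem exists_weights (hq : ∀ x y, q x y = 0 → q y x = 0) (hq0 : q ≠ 0) (V : Submodule K H) (hV : V ≠ ⊥)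
    (hiso : ∀ x ∈ V, ∀ y ∈ V, q x y = 0) :
    ∃ (Hs : Fin 3 → Submodule K H) (m : Fin 3 → ℤ), DirectSum.IsInternal Hs ∧
      ∑ i, m i * (Module.finrank K (Hs i) : ℤ) = 0 ∧ (∃ i, m i ≠ 0 ∧ Hs i ≠ ⊥) ∧
      ∀ i j, (∃ x ∈ Hs i, ∃ y ∈ Hs j, q x y ≠ 0) →
        2 * ((Module.finrank K V : ℤ) + Module.finrank K ↥(⨅ (y : H) (_ : y ∈ V), LinearMap.ker (q.flip y) :
          Submodule K H) - Module.finrank K H) ≤ m i + m j := by
  set U : Submodule K H := ⨅ (y : H) (_ : y ∈ V), LinearMap.ker (q.flip y) with hU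
  have hU' : ∀ {x y}, x ∈ U → y ∈ V → q x y = 0 := by
    intro x y hx hy
    rw [hU, Submodule.mem_iInf] at hx
    exact (Submodule.mem_iInf _).mp (hx y) hy
  have hVU : V ≤ U := fun x hx => by
    rw [hU, Submodule.mem_iInf]; exact fun y => (Submodule.mem_iInf _).mpr fun hy => hiso x hx y hy
  obtain ⟨C₀, hC₀⟩ := V.exists_isCompl
  let C := U ⊓ C₀
  have hVC : Disjoint V C := hC₀.disjoint.mono_right inf_le_right
  have hVCU : V ⊔ C = U := by
    show V ⊔ U ⊓ C₀ = U
    rw [inf_comm, ← sup_inf_assoc_of_le C₀ hVU, hC₀.sup_eq_top, top_inf_eq]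
  obtain ⟨D, hD⟩ := U.exists_isCompl
  set n : ℤ := (Module.finrank K H : ℤ)
  set v : ℤ := (Module.finrank K V : ℤ)
  set w : ℤ := (Module.finrank K U : ℤ)
  have fU : Module.finrank K V + Module.finrank K C = Module.finrank K U := by
    have := Submodule.finrank_sup_add_finrank_inf_eq V C
    rw [hVCU, hVC.eq_bot, finrank_bot, add_zero] at this
    exact this.symm
  have fH : Module.finrank K U + Module.finrank K D = Module.finrank K H :=
    Submodule.finrank_add_eq_of_isCompl hD
  refine ⟨![V, C, D], ![-n + (v + w - n), v + w - n, n + (v + w - n)], ?_, ?_, ⟨0, ?_, by simpa using hV⟩, ?_⟩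
  · rw [DirectSum.isInternal_submodule_iff_iSupIndep_and_iSup_eq_top]
    refine ⟨?_, ?_⟩
    · exact iSupIndep_three hVC (by rw [hVCU]; exact hD.disjoint)
    · rw [eq_top_iff, ← hD.sup_eq_top, ← hVCU]
      exact sup_le (sup_le (le_iSup ![V, C, D] 0) (le_iSup ![V, C, D] 1)) (le_iSup ![V, C, D] 2)
  · rw [Fin.sum_univ_three]
    change (-n + (v + w - n)) * (Module.finrank K V : ℤ) + (v + w - n) * (Module.finrank K C : ℤ) +
      (n + (v + w - n)) * (Module.finrank K D : ℤ) = 0
    have e1 : (Module.finrank K C : ℤ) = w - v := by omega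
    have e2 : (Module.finrank K D : ℤ) = n - w := by omega
    rw [e1, e2]; ring
  · simp only [Matrix.cons_val_zero]
    intro h0
    -- otherwise `V = ⊤` is totally isotropic
    have hVtop : Module.finrank K V = Module.finrank K H := by
      have := Submodule.finrank_le V; have := Submodule.finrank_le U; omega
    refine hq0 (LinearMap.ext fun x => LinearMap.ext fun y => ?_)
    have hVt := Submodule.eq_top_of_finrank_eq hVtop
    exact hiso x (hVt ▸ trivial) y (hVt ▸ trivial)
  · rintro i j ⟨x, hx, y, hy, hxy⟩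
    have hn : 0 ≤ n := by omega
    fin_cases i <;> fin_cases j <;> simp at hx hy ⊢ <;>
      first
        | omega
        | exact absurd (hiso x hx y hy) hxy
        | exact absurd (hU' hx.1 hy) hxy
        | exact absurd (hq _ _ (hU' hy.1 hx)) hxy

end Geom

end Groth.Agent.CAlg8.Isotropic
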