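import Mathlib.RingTheory.LaurentSeries
import Mathlib.RingTheory.Ideal.Quotient.Basic
import Mathlib.RingTheory.Nilpotent.Lemmas

set_option autoImplicit false

namespace Groth.Agent.CAlg8.Laurent

universe u

theorem coeff_mul_mem {R : Type u} [CommRing R] {I J : Ideal R} {f g : LaurentSeries R}
    (hf : ∀ i, f.coeff i ∈ I) (hg : ∀ i, g.coeff i ∈ J) (i : ℤ) : (f * g).coeff i ∈ I * J := by
  rw [HahnSeries.coeff_mul]
  exact sum_mem fun ij _ => Ideal.mul_mem_mul (hf _) (hg _)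

theorem coeff_mul_sub_mem {R : Type u} [CommRing R] (p : Ideal R) {f g : LaurentSeries R} (n m : ℤ)
    (hf : ∀ i < n, f.coeff i ∈ p) (hg : ∀ j < m, g.coeff j ∈ p) :
    (f * g).coeff (n + m) - f.coeff n * g.coeff m ∈ p := by
  classical
  rw [HahnSeries.coeff_mul]
  have key : ∀ ij : ℤ × ℤ, ij.1 + ij.2 = n + m → ij ≠ (n, m) → f.coeff ij.1 * g.coeff ij.2 ∈ p := by
    rintro ⟨i, j⟩ hij hne
    rcases lt_trichotomy i n with h | h | h
    · exact p.mul_mem_right _ (hf i h)
    · exact absurd (by rw [h, show j = m by simp at hij; omega]) hne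
    · exact p.mul_mem_left _ (hg j (by simp at hij; omega))
  set s := Finset.antidiagonal f.isPWO_support g.isPWO_support (n + m)
  have hs : ∀ ij ∈ s, ij.1 + ij.2 = n + m := fun ij h => (Finset.mem_antidiagonal.mp h).2.2
  by_cases hmem : (n, m) ∈ s
  · rw [← Finset.add_sum_erase _ _ hmem, add_sub_cancel_left]
    exact sum_mem fun ij hij => key ij (hs ij (Finset.mem_erase.mp hij).2) (Finset.mem_erase.mp hij).1
  · have h0 : f.coeff n * g.coeff m = 0 := by
      by_contra hne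
      exact hmem (Finset.mem_antidiagonal.mpr ⟨by simpa using left_ne_zero_of_mul hne,
        by simpa using right_ne_zero_of_mul hne, rfl⟩)
    rw [h0, sub_zero]
    exact sum_mem fun ij hij => key ij (hs ij hij) (fun h => hmem (h ▸ hij))

theorem coeff_eq_zero_of_lt {R : Type u} [CommRing R] (f : LaurentSeries R) :
    ∃ N : ℤ, ∀ i < N, f.coeff i = 0 := by
  exact ⟨f.order, fun i hi => HahnSeries.coeff_eq_zero_of_lt_order hi⟩

theorem exists_order_mod_prime {R : Type u} [CommRing R] (p : Ideal R) [hp : p.IsPrime] {f g : LaurentSeries R}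
    (hfg : f * g = 1) : ∃ n : ℤ, f.coeff n ∉ p ∧ (∀ i < n, f.coeff i ∈ p) ∧ g.coeff (-n) ∉ p ∧
      (∀ j < -n, g.coeff j ∈ p) ∧ f.coeff n * g.coeff (-n) - 1 ∈ p := by
  have hex : ∀ f g : LaurentSeries R, f * g = 1 → ∃ i, f.coeff i ∉ p := by
    intro f g h
    by_contra hh
    push Not at hh
    have h1 : (f * g).coeff 0 ∈ p * ⊤ := coeff_mul_mem hh (fun i => Submodule.mem_top) 0
    rw [h, HahnSeries.coeff_one, if_pos rfl] at h1
    exact hp.ne_top ((Ideal.eq_top_iff_one _).mpr ((Ideal.mul_le_left : p * ⊤ ≤ p) h1))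
  obtain ⟨N, hN⟩ := coeff_eq_zero_of_lt f
  obtain ⟨M, hM⟩ := coeff_eq_zero_of_lt g
  obtain ⟨n, hn, hnmin⟩ := Int.exists_least_of_bdd (P := fun i => f.coeff i ∉ p)
    ⟨N, fun i hi => le_of_not_gt fun h => hi (by rw [hN i h]; exact p.zero_mem)⟩ (hex f g hfg)
  obtain ⟨m, hm, hmmin⟩ := Int.exists_least_of_bdd (P := fun i => g.coeff i ∉ p)
    ⟨M, fun i hi => le_of_not_gt fun h => hi (by rw [hM i h]; exact p.zero_mem)⟩ (hex g f (by rw [mul_comm, hfg]))
  have hf' : ∀ i < n, f.coeff i ∈ p := fun i hi => by_contra fun h => (not_le.mpr hi) (hnmin i h)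
  have hg' : ∀ i < m, g.coeff i ∈ p := fun i hi => by_contra fun h => (not_le.mpr hi) (hmmin i h)
  have key := coeff_mul_sub_mem p n m hf' hg'
  rw [hfg, HahnSeries.coeff_one] at key
  have hnm : n + m = 0 := by
    by_contra h
    rw [if_neg h, zero_sub, neg_mem_iff] at key
    exact (hp.mem_or_mem key).elim hn hm
  rw [if_pos hnm] at key
  obtain rfl : m = -n := by omega
  exact ⟨n, hn, hf', hm, hg', by rw [← neg_sub, neg_mem_iff]; exact key⟩

end Groth.Agent.CAlg8.Laurent
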