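import Mathlib
import Groth.Agent.Hensel20.Criteria


/-! Ideals of `R[s]` and of `(R[t]_{1+tR[t]})[1/t]` comaximal with the maximal ideal of henselian local `R`. -/

set_option autoImplicit false

universe u

open Polynomial IsLocalRing

namespace Groth.Agent.CAlg8.LaurentIdeals

section Local

variable {R : Type u} [CommRing R] [IsLocalRing R]

theorem isUnit_aeval {C : Type*} [CommRing C] [Algebra R C] {τ : C} {P : R[X]} (hP : P.Monic)
    (hc : ∀ i < P.natDegree, P.coeff i ∈ maximalIdeal R) (hroot : aeval τ P = 0)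
    {g : R[X]} (hg : g.coeff 0 = 1) : IsUnit (aeval τ g) := by
  have : Module.Finite R (AdjoinRoot P) := hP.finite_adjoinRoot
  have h1 : IsUnit (aeval (AdjoinRoot.root P) g) := by
    by_contra h
    obtain ⟨M, hM, hgM⟩ := exists_max_ideal_of_mem_nonunits (mem_nonunits_iff.mpr h)
    have hMm : M.comap (algebraMap R (AdjoinRoot P)) = maximalIdeal R :=
      eq_maximalIdeal (Ideal.isMaximal_comap_of_isIntegral_of_isMaximal M)
    have hmem : ∀ r ∈ maximalIdeal R, algebraMap R (AdjoinRoot P) r ∈ M := fun r hr => by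
      rwa [← hMm, Ideal.mem_comap] at hr
    have hr : AdjoinRoot.root P ∈ M := by
      refine hM.isPrime.mem_of_pow_mem P.natDegree ?_
      have e : aeval (AdjoinRoot.root P) P = 0 := by rw [AdjoinRoot.aeval_eq, AdjoinRoot.mk_self]
      rw [aeval_eq_sum_range, Finset.sum_range_succ, coeff_natDegree, hP.leadingCoeff, one_smul] at e
      rw [eq_neg_of_add_eq_zero_right e]
      exact neg_mem (sum_mem fun i hi => by
        rw [Algebra.smul_def]
        exact M.mul_mem_right _ (hmem _ (hc i (Finset.mem_range.mp hi))))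
    refine hM.ne_top ((Ideal.eq_top_iff_one M).mpr ?_)
    have h2 : aeval (AdjoinRoot.root P) g = aeval (AdjoinRoot.root P) g.divX * AdjoinRoot.root P + 1 := by
      conv_lhs => rw [← divX_mul_X_add g]
      simp [hg]
    have h3 := sub_mem hgM (M.mul_mem_left (aeval (AdjoinRoot.root P) g.divX) hr)
    rwa [h2, add_sub_cancel_left] at h3
  have hroot' : eval₂ (Algebra.ofId R C).toRingHom τ P = 0 := hroot
  let j : AdjoinRoot P →ₐ[R] C := AdjoinRoot.liftAlgHom P (Algebra.ofId R C) τ hroot'
  have := h1.map j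
  rwa [← aeval_algHom_apply, show j (AdjoinRoot.root P) = τ from AdjoinRoot.lift_root hroot'] at this

omit [IsLocalRing R] in
theorem mem_closure_iff {x : R[X]}
    (hx : x ∈ Submonoid.closure ({f : R[X] | f.coeff 0 = 1} ∪ {X})) :
    ∃ (N : ℕ) (g : R[X]), g.coeff 0 = 1 ∧ x = X ^ N * g := by
  induction hx using Submonoid.closure_induction with
  | mem y hy =>
    rcases hy with hy | hy
    · exact ⟨0, y, hy, by simp⟩
    · exact ⟨1, 1, by simp, by simp [Set.mem_singleton_iff.mp hy]⟩
  | one => exact ⟨0, 1, by simp, by simp⟩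
  | mul y z _ _ hy hz =>
    obtain ⟨N, g, hg, rfl⟩ := hy
    obtain ⟨M, k, hk, rfl⟩ := hz
    exact ⟨N + M, g * k, by simp [mul_coeff_zero, hg, hk], by ring⟩

omit [IsLocalRing R] in
theorem sub_mem_map_C {f g : R[X]} (I : Ideal R) (h : ∀ k, f.coeff k - g.coeff k ∈ I) : f - g ∈ I.map C :=
  Ideal.mem_map_C_iff.mpr fun k => by rw [coeff_sub]; exact h k

end Local

theorem ideals_bijective {R : Type u} [CommRing R] [HenselianLocalRing R] {L : Type*} [CommRing L] [Algebra R[X] L]
    [IsLocalization (Submonoid.closure ({f : R[X] | f.coeff 0 = 1} ∪ {X})) L]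
    [Algebra R L] [IsScalarTower R R[X] L] (ψ : R[X] →ₐ[R] L) (hψ : ψ X * algebraMap R[X] L X = 1) :
    (∀ I : Ideal R[X], I ⊔ (maximalIdeal R).map (algebraMap R R[X]) = ⊤ →
        (I.map ψ.toRingHom).comap ψ.toRingHom = I ∧
        I.map ψ.toRingHom ⊔ (maximalIdeal R).map (algebraMap R L) = ⊤ ∧
        Function.Bijective (Ideal.quotientMap (I.map ψ.toRingHom) ψ.toRingHom Ideal.le_comap_map)) ∧
    (∀ J : Ideal L, J ⊔ (maximalIdeal R).map (algebraMap R L) = ⊤ →
        (J.comap ψ.toRingHom).map ψ.toRingHom = J ∧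
        J.comap ψ.toRingHom ⊔ (maximalIdeal R).map (algebraMap R R[X]) = ⊤) := by
  set S := Submonoid.closure ({f : R[X] | f.coeff 0 = 1} ∪ {X})
  have hSg : ∀ g : R[X], g.coeff 0 = 1 → IsUnit (algebraMap R[X] L g) := fun g hg =>
    IsLocalization.map_units L (⟨g, Submonoid.subset_closure (Or.inl hg)⟩ : S)
  have hTX : IsUnit (algebraMap R[X] L X) :=
    IsLocalization.map_units L (⟨X, Submonoid.subset_closure (Or.inr rfl)⟩ : S)
  have hψC : ∀ r, ψ (C r) = algebraMap R[X] L (C r) := fun r => by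
    rw [← Polynomial.algebraMap_eq, AlgHom.commutes, ← IsScalarTower.algebraMap_apply]
  have first : ∀ I : Ideal R[X], I ⊔ (maximalIdeal R).map (algebraMap R R[X]) = ⊤ →
      (I.map ψ.toRingHom).comap ψ.toRingHom = I ∧
        I.map ψ.toRingHom ⊔ (maximalIdeal R).map (algebraMap R L) = ⊤ ∧
        Function.Bijective (Ideal.quotientMap (I.map ψ.toRingHom) ψ.toRingHom Ideal.le_comap_map) := by
    intro I hI
    obtain ⟨f, hf, g, hg, hfg⟩ := Submodule.mem_sup.mp ((Ideal.eq_top_iff_one _).mp hI)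
    rw [Polynomial.algebraMap_eq, Ideal.mem_map_C_iff] at hg
    have hfc : ∀ i, 0 < i → f.coeff i ∈ maximalIdeal R := fun i hi => by
      rw [eq_sub_of_add_eq hfg, coeff_sub, coeff_one, if_neg hi.ne', zero_sub]
      exact neg_mem (hg i)
    have hf0 : IsUnit (f.coeff 0) := by
      rw [eq_sub_of_add_eq hfg, coeff_sub, coeff_one_zero]
      exact notMem_maximalIdeal.mp fun h => (maximalIdeal.isMaximal R).ne_top
        ((Ideal.eq_top_iff_one _).mpr (by simpa using add_mem h (hg 0)))
    obtain ⟨v, hv⟩ := hf0.exists_left_inv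
    set d := f.natDegree
    set P : R[X] := C v * f.reflect d
    have hPc : ∀ i, P.coeff i = v * f.coeff (revAt d i) := fun i => by
      rw [coeff_C_mul, coeff_reflect]
    have hPd : P.natDegree ≤ d := natDegree_le_iff_coeff_eq_zero.mpr fun i hi => by
      rw [hPc, revAt_eq_self_of_lt hi, coeff_eq_zero_of_natDegree_lt hi, mul_zero]
    have hPone : P.coeff d = 1 := by rw [hPc, revAt_le le_rfl, Nat.sub_self, hv]
    have hPm : P.Monic := monic_of_natDegree_le_of_coeff_eq_one d hPd hPone
    have hPlow : ∀ i < P.natDegree, P.coeff i ∈ maximalIdeal R := fun i hi => by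
      rw [hPc, revAt_le (le_trans hi.le hPd)]
      exact Ideal.mul_mem_left _ _ (hfc _ (by omega))
    let q := Ideal.Quotient.mk I
    let σ : R[X] ⧸ I := q X
    have hσf : aeval σ f = 0 := by
      rw [show σ = Ideal.Quotient.mkₐ R I X from rfl, aeval_algHom_apply, aeval_X_left_apply]
      exact Ideal.Quotient.eq_zero_iff_mem.mpr hf
    have hσu : IsUnit σ := by
      refine IsUnit.of_mul_eq_one (-(algebraMap R _ v * aeval σ f.divX)) ?_
      have h1 : aeval σ f = aeval σ f.divX * σ + algebraMap R _ (f.coeff 0) := by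
        conv_lhs => rw [← divX_mul_X_add f]
        simp
      have h2 : algebraMap R (R[X] ⧸ I) v * algebraMap R _ (f.coeff 0) = 1 := by rw [← map_mul, hv, map_one]
      rw [hσf] at h1
      linear_combination (algebraMap R (R[X] ⧸ I) v) * h1 + h2
    let τ : R[X] ⧸ I := ↑hσu.unit⁻¹
    have hτσ : τ * σ = 1 := hσu.val_inv_mul
    have hPτ : aeval τ P = 0 := by
      let _ : Invertible σ := ⟨τ, hτσ, by rw [mul_comm]; exact hτσ⟩
      have h1 := eval₂_reflect_mul_pow (algebraMap R (R[X] ⧸ I)) σ d f le_rfl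
      rw [← aeval_def, ← aeval_def, hσf, show (⅟σ : R[X] ⧸ I) = τ from rfl] at h1
      rw [map_mul, aeval_C, show aeval τ (f.reflect d) = 0 from ?_, mul_zero]
      exact ((hσu.pow d).mul_left_eq_zero).mp h1
    have hunits : ∀ y : S, IsUnit ((aeval τ : R[X] →ₐ[R] R[X] ⧸ I) (y : R[X])) := fun y => by
      obtain ⟨N, k, hk, hy⟩ := mem_closure_iff y.2
      rw [hy, map_mul, map_pow, aeval_X]
      exact (IsUnit.of_mul_eq_one σ hτσ).pow N |>.mul (isUnit_aeval hPm hPlow hPτ hk)
    let θ : L →+* R[X] ⧸ I := IsLocalization.lift (M := S) (g := (aeval τ : R[X] →ₐ[R] R[X] ⧸ I).toRingHom) hunits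
    have hθ : ∀ k, θ (algebraMap R[X] L k) = aeval τ k := IsLocalization.lift_eq hunits
    have hθψ : ∀ k, θ (ψ k) = q k := by
      refine RingHom.congr_fun (f := θ.comp ψ.toRingHom) (Polynomial.ringHom_ext (fun r => ?_) ?_)
      · change θ (ψ (C r)) = q (C r)
        rw [hψC, hθ, aeval_C]; rfl
      · change θ (ψ X) = σ
        have h := congrArg θ hψ
        rw [map_mul, hθ, aeval_X, map_one] at h
        calc θ (ψ X) = θ (ψ X) * (τ * σ) := by rw [hτσ, mul_one]
          _ = σ := by rw [← mul_assoc, h, one_mul]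
    set IL := I.map ψ.toRingHom
    have hILθ : ∀ x ∈ IL, θ x = 0 := by
      intro x hx
      have : IL ≤ RingHom.ker θ := Ideal.map_le_iff_le_comap.mpr fun k hk => by
        rw [Ideal.mem_comap, RingHom.mem_ker]
        exact (hθψ k).trans (Ideal.Quotient.eq_zero_iff_mem.mpr hk)
      exact this hx
    let ψb := Ideal.quotientMap IL ψ.toRingHom Ideal.le_comap_map
    have hcomp : ψb.comp θ = Ideal.Quotient.mk IL := by
      refine IsLocalization.ringHom_ext (R := R[X]) S (Polynomial.ringHom_ext (fun r => ?_) ?_)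
      · change ψb (θ (algebraMap R[X] L (C r))) = Ideal.Quotient.mk IL (algebraMap R[X] L (C r))
        rw [← hψC, hθψ]; rfl
      · change ψb (θ (algebraMap R[X] L X)) = Ideal.Quotient.mk IL (algebraMap R[X] L X)
        rw [hθ, aeval_X]
        have h1 : ψb τ * Ideal.Quotient.mk IL (ψ X) = 1 := by
          rw [show Ideal.Quotient.mk IL (ψ X) = ψb σ from rfl, ← map_mul, hτσ, map_one]
        have h2 : Ideal.Quotient.mk IL (ψ X) * Ideal.Quotient.mk IL (algebraMap R[X] L X) = 1 := by
          rw [← map_mul, hψ, map_one]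
        exact left_inv_eq_right_inv h1 h2
    refine ⟨le_antisymm (fun k hk => Ideal.Quotient.eq_zero_iff_mem.mp ((hθψ k).symm.trans (hILθ _ hk)))
      Ideal.le_comap_map, ?_, ?_, ?_⟩
    · refine (Ideal.eq_top_iff_one _).mpr ?_
      rw [← map_one ψ.toRingHom, ← hfg, map_add]
      refine Submodule.add_mem_sup (Ideal.mem_map_of_mem _ hf) ?_
      have : g ∈ (maximalIdeal R).map (algebraMap R R[X]) := by
        rw [Polynomial.algebraMap_eq, Ideal.mem_map_C_iff]; exact hg
      have := Ideal.mem_map_of_mem ψ.toRingHom this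
      rwa [Ideal.map_map, show (ψ.toRingHom.comp (algebraMap R R[X])) = algebraMap R L from ψ.comp_algebraMap] at this
    · refine (injective_iff_map_eq_zero _).mpr fun a ha => ?_
      obtain ⟨k, rfl⟩ := Ideal.Quotient.mk_surjective a
      rw [Ideal.quotientMap_mk, Ideal.Quotient.eq_zero_iff_mem] at ha
      exact (hθψ k).symm.trans (hILθ _ ha)
    · intro y
      obtain ⟨x, rfl⟩ := Ideal.Quotient.mk_surjective y
      exact ⟨θ x, RingHom.congr_fun hcomp x⟩
  refine ⟨first, fun J hJ => ?_⟩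
  obtain ⟨j, hj, μ, hμ, hjμ⟩ := Submodule.mem_sup.mp ((Ideal.eq_top_iff_one _).mp hJ)
  rw [IsScalarTower.algebraMap_eq R R[X] L, ← Ideal.map_map, IsLocalization.mem_map_algebraMap_iff S L] at hμ
  obtain ⟨⟨⟨a, ha⟩, y⟩, hay⟩ := hμ
  obtain ⟨N, g, hg, hy⟩ := mem_closure_iff y.2
  rw [Polynomial.algebraMap_eq, Ideal.mem_map_C_iff] at ha
  set h : R[X] := (y : R[X]) - a
  have hhJ : algebraMap R[X] L h ∈ J := by
    rw [map_sub]
    have : algebraMap R[X] L (y : R[X]) - algebraMap R[X] L a = j * algebraMap R[X] L (y : R[X]) := by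
      rw [← hay]; linear_combination (-(algebraMap R[X] L (y : R[X]))) * hjμ
    rw [this]; exact J.mul_mem_right _ hj
  let m' := Ideal.Quotient.mk (maximalIdeal R)
  have hcop : IsCoprime ((X : (R ⧸ maximalIdeal R)[X]) ^ N) (g.map m') := by
    refine IsCoprime.pow_left ⟨-(g.map m').divX, 1, ?_⟩
    have h1 := divX_mul_X_add (g.map m')
    rw [coeff_map, hg, map_one, map_one] at h1
    linear_combination -h1
  obtain ⟨P, Q, hPQ, hPm, hPbar, hQbar⟩ := Hensel20.exists_factor_lift h (X ^ N) (g.map m') (monic_X_pow N) hcop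
    (by
      have : a.map m' = 0 := Polynomial.ext fun k => by
        rw [coeff_map, coeff_zero, Ideal.Quotient.eq_zero_iff_mem]; exact ha k
      rw [Polynomial.map_sub, this, sub_zero, hy, Polynomial.map_mul, Polynomial.map_pow, map_X])
  have hPd : P.natDegree = N := by
    have := hPm.natDegree_map m'
    rwa [hPbar, natDegree_X_pow, eq_comm] at this
  have hQu : IsUnit (algebraMap R[X] L Q) := by
    have hQ0 : IsUnit (Q.coeff 0) := by
      refine notMem_maximalIdeal.mp fun hmem => ?_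
      have := congrArg (fun p => p.coeff 0) hQbar
      simp only [coeff_map, hg, map_one] at this
      rw [Ideal.Quotient.eq_zero_iff_mem.mpr hmem] at this
      exact zero_ne_one this
    obtain ⟨w, hw⟩ := hQ0.exists_left_inv
    have h1 := hSg (C w * Q) (by rw [coeff_C_mul, hw])
    rw [map_mul] at h1
    exact isUnit_of_mul_isUnit_right h1
  have hPJ : algebraMap R[X] L P ∈ J := by
    rw [hPQ, map_mul] at hhJ
    exact (Ideal.mul_unit_mem_iff_mem J hQu).mp hhJ
  set f : R[X] := P.reflect N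
  have hfJ : ψ f ∈ J := by
    let _ : Invertible (algebraMap R[X] L X) := ⟨ψ X, hψ, by rw [mul_comm]; exact hψ⟩
    have h1 := eval₂_reflect_mul_pow (algebraMap R L) (algebraMap R[X] L X) N P hPd.le
    rw [← aeval_def, ← aeval_def, show (⅟(algebraMap R[X] L X)) = ψ X from rfl,
      aeval_algHom_apply ψ, aeval_X_left_apply, aeval_algebraMap_apply, aeval_X_left_apply] at h1
    exact (Ideal.mul_unit_mem_iff_mem J (hTX.pow N)).mp (h1 ▸ hPJ)
  have hf1 : (1 : R[X]) - f ∈ (maximalIdeal R).map (algebraMap R R[X]) := by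
    rw [Polynomial.algebraMap_eq]
    refine sub_mem_map_C _ fun k => ?_
    rw [coeff_reflect]
    have hb : ∀ i, m' (P.coeff i) = if i = N then 1 else 0 := fun i => by
      rw [← coeff_map, hPbar, coeff_X_pow]
    rw [← Ideal.Quotient.eq_zero_iff_mem, map_sub, hb, coeff_one]
    by_cases hk : k = 0
    · simp [hk]
    · rw [if_neg hk, map_zero, if_neg]
      · simp
      · intro e
        rcases le_or_gt k N with hle | hlt
        · rw [revAt_le hle] at e; omega
        · rw [revAt_eq_self_of_lt hlt] at e; omega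
  have htop : J.comap ψ.toRingHom ⊔ (maximalIdeal R).map (algebraMap R R[X]) = ⊤ := by
    refine (Ideal.eq_top_iff_one _).mpr ?_
    rw [← add_sub_cancel f (1 : R[X])]
    exact Submodule.add_mem_sup (Ideal.mem_comap.mpr hfJ) hf1
  refine ⟨le_antisymm Ideal.map_comap_le fun x hx => ?_, htop⟩
  obtain ⟨-, -, hbij⟩ := first _ htop
  obtain ⟨c, hc⟩ := hbij.surjective (Ideal.Quotient.mk _ x)
  obtain ⟨k, rfl⟩ := Ideal.Quotient.mk_surjective c
  rw [Ideal.quotientMap_mk, Ideal.Quotient.eq] at hc
  have hk : k ∈ J.comap ψ.toRingHom := by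
    rw [Ideal.mem_comap]
    simpa using add_mem (Ideal.map_comap_le hc) hx
  have := sub_mem (Ideal.mem_map_of_mem ψ.toRingHom hk) hc
  simpa using this

end Groth.Agent.CAlg8.LaurentIdeals

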