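import Groth.Agent.CAlg8.HenselianLaurent
import Groth.Agent.CAlg8.InvertibleIdeal

/-! `Pic R[s] → Pic B[1/t]` is bijective, `B` the henselization of `R[t]` along `(t)`. -/

set_option autoImplicit false

universe u

open Polynomial IsLocalRing TensorProduct

namespace Groth.Agent.CAlg8.LaurentPic

variable {R : Type u} [CommRing R] [HenselianLocalRing R] {B : Type u} [CommRing B] [Algebra R[X] B]
  (hB : Hens2.IsPairHenselization R[X] (Ideal.span {(X : R[X])}) B)
  {L : Type u} [CommRing L] [Algebra B L] [IsLocalization.Away (algebraMap R[X] B X) L]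
  [Algebra R[X] L]
  (hC : ∀ r : R, algebraMap R[X] L (C r) = algebraMap B L (algebraMap R[X] B (C r)))
  (hX : algebraMap R[X] L X * algebraMap B L (algebraMap R[X] B X) = 1)

variable (R) in
/-- `mR[s]`. -/
noncomputable abbrev mS : Ideal R[X] := (maximalIdeal R).map (C : R →+* R[X])

variable (R L) in
/-- `mL`. -/
noncomputable abbrev mL : Ideal L := (mS R).map (algebraMap R[X] L)

include hC in
omit [IsLocalization.Away (algebraMap R[X] B X) L] in
theorem mL_eq : mL R L = (Weier.mB (R := R) B).map (algebraMap B L) := by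
  simp only [mL, Weier.mB, mS, Ideal.map_map]
  congr 1
  exact RingHom.ext hC

include hB hC in
theorem algebraMap_notMem (b : B) (hb : b ∈ (mL R L).comap (algebraMap B L)) :
    b ∈ Weier.mB (R := R) B := by
  rw [Ideal.mem_comap, mL_eq hC, IsLocalization.algebraMap_mem_map_algebraMap_iff
    (Submonoid.powers (algebraMap R[X] B X))] at hb
  obtain ⟨_, ⟨n, rfl⟩, hn⟩ := hb
  by_contra hbm
  obtain ⟨P, hP, u, rfl⟩ := Weier.exists_dist hB b hbm
  refine Weier.not_pow_mem hB (n + P.natDegree) ?_
  rw [← mul_assoc] at hn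
  have h1 := (Ideal.mul_unit_mem_iff_mem _ u.isUnit).mp hn
  have h2 := Ideal.mul_mem_left _ (algebraMap R[X] B X ^ n) (Weier.sub_pow_mem (B := B) hP)
  rw [pow_add]
  simpa [mul_sub] using sub_mem h1 h2

include hB hC hX

theorem first (I : Ideal R[X]) (hI : I ⊔ mS R = ⊤) :
    (I.map (algebraMap R[X] L)).comap (algebraMap R[X] L) = I ∧
      I.map (algebraMap R[X] L) ⊔ mL R L = ⊤ := by
  let : Algebra R L := ((algebraMap R[X] L).comp C).toAlgebra
  have : IsScalarTower R R[X] L := IsScalarTower.of_algebraMap_eq' rfl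
  obtain ⟨h1, h2, -⟩ := HenselianLaurent.first hB hC (IsScalarTower.toAlgHom R R[X] L) hX I hI
  exact ⟨h1, by rw [mL, mS, Ideal.map_map]; exact h2⟩

theorem second (J : Ideal L) (hJ : J ⊔ mL R L = ⊤) :
    (J.comap (algebraMap R[X] L)).map (algebraMap R[X] L) = J ∧
      J.comap (algebraMap R[X] L) ⊔ mS R = ⊤ := by
  let : Algebra R L := ((algebraMap R[X] L).comp C).toAlgebra
  have : IsScalarTower R R[X] L := IsScalarTower.of_algebraMap_eq' rfl
  exact HenselianLaurent.second hB hC (IsScalarTower.toAlgHom R R[X] L) hX J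
    (by rw [mL, mS, Ideal.map_map] at hJ; exact hJ)

/-- `mL` is maximal. -/
theorem isMaximal_mL : (mL R L).IsMaximal := by
  refine Ideal.isMaximal_iff.mpr ⟨fun h => ?_, fun J x hle hx hxJ => ?_⟩
  · exact Weier.not_pow_mem hB 0 (by rw [pow_zero]; exact algebraMap_notMem hB hC 1 (by
      rwa [Ideal.mem_comap, map_one]))
  obtain ⟨⟨b, ⟨_, n, rfl⟩⟩, hbx⟩ := IsLocalization.surj (Submonoid.powers (algebraMap R[X] B X)) x
  have htu : IsUnit (algebraMap B L (algebraMap R[X] B X)) := IsLocalization.Away.algebraMap_isUnit _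
  have hb : b ∉ Weier.mB (R := R) B := fun hb => hx ((Ideal.mul_unit_mem_iff_mem _ (htu.pow n)).mp (by
    rw [← map_pow, hbx, mL_eq hC]; exact Ideal.mem_map_of_mem _ hb))
  obtain ⟨P, hP, u, rfl⟩ := Weier.exists_dist hB b hb
  have h1 : algebraMap B L (algebraMap R[X] B P) ∈ J := by
    refine (Ideal.mul_unit_mem_iff_mem J (u.isUnit.map (algebraMap B L))).mp ?_
    rw [← map_mul, ← hbx]; exact J.mul_mem_right _ hxJ
  have h2 := hle (show algebraMap B L (algebraMap R[X] B P - algebraMap R[X] B X ^ P.natDegree) ∈ mL R L by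
    rw [mL_eq hC]; exact Ideal.mem_map_of_mem _ (Weier.sub_pow_mem hP))
  rw [map_sub, map_pow] at h2
  have h3 : algebraMap B L (algebraMap R[X] B X) ^ P.natDegree ∈ J := by
    simpa using sub_mem h1 h2
  rw [← (htu.pow P.natDegree).val_inv_mul]
  exact J.mul_mem_left _ h3

/-- The polynomial of a principal ideal comaximal with `mL`. -/
theorem exists_principal (g : L) (hg : Ideal.span {g} ⊔ mL R L = ⊤) :
    ∃ f : R[X], 1 - f ∈ mS R ∧ IsSMulRegular L (algebraMap R[X] L f) ∧
      Ideal.span {algebraMap R[X] L f} = Ideal.span {g} := by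
  obtain ⟨⟨b, ⟨_, n, rfl⟩⟩, hbx⟩ := IsLocalization.surj (Submonoid.powers (algebraMap R[X] B X)) g
  set t := algebraMap B L (algebraMap R[X] B X) with ht
  have htu : IsUnit t := IsLocalization.Away.algebraMap_isUnit _
  have hb : b ∉ Weier.mB (R := R) B := fun hb => by
    have h1 : g ∈ mL R L := (Ideal.mul_unit_mem_iff_mem _ (htu.pow n)).mp (by
      rw [ht, ← map_pow, hbx, mL_eq hC]; exact Ideal.mem_map_of_mem _ hb)
    rw [sup_eq_right.mpr ((Ideal.span_singleton_le_iff_mem _).mpr h1)] at hg
    exact (isMaximal_mL hB hC hX).ne_top hg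
  obtain ⟨P, hP, u, rfl⟩ := Weier.exists_dist hB b hb
  set N := P.natDegree
  have hcoe : ∀ k : R[X], algebraMap B L (algebraMap R[X] B k) =
      eval₂ ((algebraMap R[X] L).comp C) t k := by
    refine RingHom.congr_fun (f := (algebraMap B L).comp (algebraMap R[X] B))
      (g := eval₂RingHom ((algebraMap R[X] L).comp C) t) (Polynomial.ringHom_ext (fun r => ?_) ?_)
    · simp [hC]
    · simp [t]
  have hPf : algebraMap R[X] L (P.reflect N) * t ^ N = algebraMap B L (algebraMap R[X] B P) := by
    let _ : Invertible t := ⟨algebraMap R[X] L X, hX, by rw [mul_comm]; exact hX⟩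
    have h1 := eval₂_reflect_mul_pow ((algebraMap R[X] L).comp C) t N P le_rfl
    rw [← hcoe, show (⅟t) = algebraMap R[X] L X from rfl] at h1
    rw [← h1]
    congr 1
    refine RingHom.congr_fun (f := algebraMap R[X] L)
      (g := eval₂RingHom ((algebraMap R[X] L).comp C) (algebraMap R[X] L X))
      (Polynomial.ringHom_ext (fun r => ?_) ?_) _ <;> simp
  have hreg : IsSMulRegular L (algebraMap B L (algebraMap R[X] B P)) := by
    have : Module.Flat R[X] B := Hens22.pairHens_flat hB
    have : Module.Flat B L := IsLocalization.flat L (Submonoid.powers (algebraMap R[X] B X))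
    exact (IsSMulRegular.of_flat (S := B)
      (hP.monic.isRegular.left : IsSMulRegular R[X] P)).of_flat
  refine ⟨P.reflect N, ?_, ?_, ?_⟩
  · rw [mS, Ideal.mem_map_C_iff]
    intro k
    rw [coeff_sub, coeff_one, coeff_reflect]
    rcases Nat.eq_zero_or_pos k with rfl | hk
    · rw [if_pos rfl, revAt_le (Nat.zero_le _), Nat.sub_zero, hP.monic.coeff_natDegree, sub_self]
      exact zero_mem _
    · rw [if_neg hk.ne', zero_sub, neg_mem_iff]
      rcases le_or_gt k N with hle | hlt
      · rw [revAt_le hle]; exact hP.low _ (by omega)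
      · rw [revAt_eq_self_of_lt hlt, coeff_eq_zero_of_natDegree_lt hlt]; exact zero_mem _
  · intro x y hxy
    refine hreg ?_
    simp only [smul_eq_mul] at hxy ⊢
    rw [← hPf]; linear_combination (t ^ N) * hxy
  · rw [← Ideal.span_singleton_mul_right_unit (htu.pow N), hPf,
      ← Ideal.span_singleton_mul_right_unit (u.isUnit.map (algebraMap B L)), ← map_mul, ← hbx, map_pow,
      Ideal.span_singleton_mul_right_unit (htu.pow n)]

omit [HenselianLocalRing R] hB hC hX in
/-- Regularity in `R[s]`. -/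
theorem isSMulRegular_of_isUnit_coeff_zero {f : R[X]} (hf : IsUnit (f.coeff 0)) :
    IsSMulRegular R[X] f := by
  intro x y hxy
  have hu : IsUnit (f : PowerSeries R) := by
    rw [PowerSeries.isUnit_iff_constantCoeff, ← PowerSeries.coeff_zero_eq_constantCoeff_apply,
      Polynomial.coeff_coe]
    exact hf
  refine Polynomial.coe_inj.mp (hu.mul_left_cancel ?_)
  rw [← Polynomial.coe_mul, ← Polynomial.coe_mul]
  exact congrArg _ hxy

/-- A comaximal ideal contains a regular element of the special form. -/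
theorem exists_regular_mem (I : Ideal R[X]) (hI : I ⊔ mS R = ⊤) :
    ∃ f ∈ I, 1 - f ∈ mS R ∧ IsSMulRegular R[X] f ∧ IsSMulRegular L (algebraMap R[X] L f) := by
  obtain ⟨f, hf, g, hg, hfg⟩ := Submodule.mem_sup.mp ((Ideal.eq_top_iff_one _).mp hI)
  have h1 : 1 - f ∈ mS R := by rwa [show 1 - f = g by rw [← hfg]; ring]
  have h0 : IsUnit (f.coeff 0) := by
    have h2 := Ideal.mem_map_C_iff.mp h1 0
    rw [coeff_sub, coeff_one_zero] at h2
    exact notMem_maximalIdeal.mp fun h => (maximalIdeal.isMaximal R).ne_top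
      ((Ideal.eq_top_iff_one _).mpr (by simpa using add_mem h2 h))
  refine ⟨f, hf, h1, isSMulRegular_of_isUnit_coeff_zero h0, ?_⟩
  have htop : Ideal.span {algebraMap R[X] L f} ⊔ mL R L = ⊤ := by
    refine (Ideal.eq_top_iff_one _).mpr ?_
    rw [← add_sub_cancel (algebraMap R[X] L f) 1, ← map_one (algebraMap R[X] L), ← map_sub]
    exact Submodule.add_mem_sup (Ideal.mem_span_singleton_self _) (Ideal.mem_map_of_mem _ h1)
  obtain ⟨f', -, hreg, hspan⟩ := exists_principal hB hC hX _ htop
  obtain ⟨a, ha⟩ := Ideal.mem_span_singleton'.mp (hspan.le (Ideal.mem_span_singleton_self _))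
  intro x y hxy
  refine hreg ?_
  simp only [smul_eq_mul] at hxy ⊢
  rw [← ha]; linear_combination a * hxy

/-- An invertible `R[s]`-module free over `L` is free. -/
theorem free_of_free (M : Type u) [AddCommGroup M] [Module R[X] M] [Module.Invertible R[X] M]
    [Module.Free L (L ⊗[R[X]] M)] : Module.Free R[X] M := by
  have hp : (mS R).IsPrime := (Ideal.isPrime_map_C_iff_isPrime (maximalIdeal R)).mpr (maximalIdeal.isMaximal R).isPrime
  have : IsPrincipalIdealRing (R[X] ⧸ mS R) := by
    let e := Ideal.polynomialQuotientEquivQuotientPolynomial (maximalIdeal R)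
    let _ := Ideal.Quotient.field (maximalIdeal R)
    exact IsPrincipalIdealRing.of_surjective e.toRingHom e.surjective
  have : Module.Free (R[X] ⧸ mS R) ((R[X] ⧸ mS R) ⊗[R[X]] M) := inferInstance
  obtain ⟨φ, hφ⟩ := InvIdeal.exists_functional (M := M) (mS R)
  set I : Ideal R[X] := LinearMap.range φ with hIdef
  obtain ⟨c, hcI, -, hcS, -⟩ := exists_regular_mem hB hC hX I hφ
  have hinj : Function.Injective φ := InvIdeal.injective_of_regular_mem φ hcS hcI
  obtain ⟨e⟩ := Module.Invertible.free_iff_linearEquiv.mp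
    (inferInstance : Module.Free L (L ⊗[R[X]] M))
  let ξ : L →ₗ[L] L := (LinearMap.liftBaseChange L ((Algebra.linearMap R[X] L) ∘ₗ φ)) ∘ₗ e.symm.toLinearMap
  have hrange : I.map (algebraMap R[X] L) = Ideal.span {ξ 1} := by
    refine le_antisymm (Ideal.map_le_iff_le_comap.mpr ?_) ((Ideal.span_singleton_le_iff_mem _).mpr ?_)
    · rintro _ ⟨x, rfl⟩
      rw [Ideal.mem_comap, Ideal.mem_span_singleton']
      refine ⟨e (1 ⊗ₜ x), ?_⟩
      rw [← smul_eq_mul, ← map_smul, smul_eq_mul, mul_one]
      simp [ξ]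
    · have key : ∀ z, LinearMap.liftBaseChange L ((Algebra.linearMap R[X] L) ∘ₗ φ) z ∈
          I.map (algebraMap R[X] L) := by
        intro z
        induction z using TensorProduct.induction_on with
        | zero => simp
        | tmul a x =>
          rw [LinearMap.liftBaseChange_tmul]
          exact Ideal.mul_mem_left _ _ (Ideal.mem_map_of_mem _ ⟨x, rfl⟩)
        | add a b ha hb => rw [map_add]; exact add_mem ha hb
      exact key _
  obtain ⟨f, hf1, -, hfspan⟩ := exists_principal hB hC hX (ξ 1) (hrange ▸ (first hB hC hX I hφ).2)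
  have hspan : Ideal.span {f} ⊔ mS R = ⊤ := by
    refine (Ideal.eq_top_iff_one _).mpr ?_
    rw [← add_sub_cancel f 1]
    exact Submodule.add_mem_sup (Ideal.mem_span_singleton_self _) hf1
  have hI : I = Ideal.span {f} := by
    have h1 := (first hB hC hX _ hspan).1
    rw [Ideal.map_span, Set.image_singleton, hfspan, ← hrange, (first hB hC hX I hφ).1] at h1
    exact h1
  obtain ⟨f', -, -, hf'S, -⟩ := exists_regular_mem hB hC hX (Ideal.span {f}) hspan
  have hfS : IsSMulRegular R[X] f := by
    refine isSMulRegular_of_isUnit_coeff_zero (notMem_maximalIdeal.mp fun h => ?_)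
    have h2 := Ideal.mem_map_C_iff.mp hf1 0
    rw [coeff_sub, coeff_one_zero] at h2
    exact (maximalIdeal.isMaximal R).ne_top
      ((Ideal.eq_top_iff_one _).mpr (by simpa using add_mem h2 h))
  refine Module.Invertible.free_iff_linearEquiv.mpr ⟨(LinearEquiv.ofInjective φ hinj).trans
    ((LinearEquiv.ofEq _ _ (?_ : LinearMap.range φ =
      LinearMap.range (LinearMap.toSpanSingleton R[X] R[X] f))).trans
    (LinearEquiv.ofInjective (LinearMap.toSpanSingleton R[X] R[X] f) (fun a b h => hfS (by
      simpa [smul_eq_mul, mul_comm] using h))).symm)⟩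
  rw [← LinearMap.span_singleton_eq_range]
  exact hI

/-- Every invertible `L`-module comes from `R[s]`. -/
theorem exists_invertible (N : Type u) [AddCommGroup N] [Module L N] [Module.Invertible L N] :
    ∃ (M : Type u) (_ : AddCommGroup M) (_ : Module R[X] M), Module.Invertible R[X] M ∧
      Nonempty (L ⊗[R[X]] M ≃ₗ[L] N) := by
  have := isMaximal_mL hB hC hX
  let _ := Ideal.Quotient.field (mL R L)
  have : Module.Free (L ⧸ mL R L) ((L ⧸ mL R L) ⊗[L] N) := inferInstance
  obtain ⟨φ, hφ⟩ := InvIdeal.exists_functional (M := N) (mL R L)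
  set J : Ideal L := LinearMap.range φ with hJdef
  obtain ⟨hJI, hI⟩ := second hB hC hX J hφ
  set I := J.comap (algebraMap R[X] L)
  obtain ⟨f, hfI, hf1, hfS, hfL⟩ := exists_regular_mem hB hC hX I hI
  have hinj : Function.Injective φ := InvIdeal.injective_of_regular_mem φ hfL hfI
  have hmul := InvIdeal.mul_colon φ (c := algebraMap R[X] L f) hfI
  set J' := (Ideal.span {algebraMap R[X] L f}).colon (J : Set L)
  have hfJ' : algebraMap R[X] L f ∈ J' :=
    Submodule.mem_colon.mpr fun x _ => Ideal.mul_mem_right _ _ (Ideal.mem_span_singleton_self _)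
  have hJ' : J' ⊔ mL R L = ⊤ := by
    refine (Ideal.eq_top_iff_one _).mpr ?_
    rw [← add_sub_cancel (algebraMap R[X] L f) 1, ← map_one (algebraMap R[X] L), ← map_sub]
    exact Submodule.add_mem_sup hfJ' (Ideal.mem_map_of_mem _ hf1)
  obtain ⟨hJI', hI'⟩ := second hB hC hX J' hJ'
  set I' := J'.comap (algebraMap R[X] L)
  have hspan : Ideal.span {f} ⊔ mS R = ⊤ := by
    refine (Ideal.eq_top_iff_one _).mpr ?_
    rw [← add_sub_cancel f 1]
    exact Submodule.add_mem_sup (Ideal.mem_span_singleton_self _) hf1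
  have hII : I * I' = Ideal.span {f} := by
    have h1 : (I * I') ⊔ mS R = ⊤ := by
      rw [sup_comm, Ideal.sup_mul_eq_of_coprime_left (by rwa [sup_comm] : mS R ⊔ I = ⊤), sup_comm]
      exact hI'
    rw [← (first hB hC hX _ h1).1, ← (first hB hC hX _ hspan).1, Ideal.map_mul, hJI, hJI',
      Ideal.map_span, Set.image_singleton]
    congr 1
  have hInv : Module.Invertible R[X] I := InvIdeal.invertible_of_mul_eq hfS hII
  refine ⟨I, inferInstance, inferInstance, hInv, ?_⟩
  let ξ : L ⊗[R[X]] I →ₗ[L] L := LinearMap.liftBaseChange L ((Algebra.linearMap R[X] L) ∘ₗ I.subtype)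
  have hξ : LinearMap.range ξ = J := by
    refine le_antisymm ?_ (hJI.ge.trans (Ideal.map_le_iff_le_comap.mpr fun x hx =>
      ⟨1 ⊗ₜ ⟨x, hx⟩, by simp [ξ]⟩))
    rintro _ ⟨z, rfl⟩
    induction z using TensorProduct.induction_on with
    | zero => simp
    | tmul a x =>
      simp only [ξ, LinearMap.liftBaseChange_tmul, smul_eq_mul]
      exact J.mul_mem_left _ x.2
    | add a b ha hb => rw [map_add]; exact add_mem ha hb
  have : Module.Invertible L (LinearMap.range φ) := Module.Invertible.congr (LinearEquiv.ofInjective φ hinj)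
  let ξ' : L ⊗[R[X]] I →ₗ[L] LinearMap.range φ :=
    (LinearEquiv.ofEq _ _ hξ).toLinearMap ∘ₗ ξ.rangeRestrict
  have hξ' : Function.Surjective ξ' :=
    (LinearEquiv.ofEq _ _ hξ).surjective.comp ξ.surjective_rangeRestrict
  exact ⟨(LinearEquiv.ofBijective ξ' (Module.Invertible.bijective_of_surjective hξ')).trans
    (LinearEquiv.ofInjective φ hinj).symm⟩

end Groth.Agent.CAlg8.LaurentPic
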