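import Groth.Agent.CAlg8.LaurentPic
import Groth.Agent.CAlg9.Approx.HensLaurent
import Groth.Agent.CAlg9.Approx.Module

/-! `Pic R[s] → Pic R((t))` is bijective for henselian local `R`. -/

set_option autoImplicit false

universe u

open Polynomial TensorProduct

namespace Groth.Agent.CAlg8.LaurentPicMain

theorem invertible_congr {A : Type u} [CommRing A] {M N : Type u} [AddCommGroup M] [Module A M]
    [AddCommGroup N] [Module A N] [Module.Invertible A M] (e : M ≃ₗ[A] N) : Module.Invertible A N :=
  Module.Invertible.congr e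

theorem pic_bijective_aux (R : Type u) [CommRing R] [HenselianLocalRing R] [Algebra R[X] (LaurentSeries R)]
    (B : Type u) [CommRing B] [Algebra R[X] B]
    (hB : Hens2.IsPairHenselization R[X] (Ideal.span {(X : R[X])}) B)
    (L : Type u) [CommRing L] [Algebra B L] [IsLocalization.Away (algebraMap R[X] B X) L]
    (halg : algebraMap R[X] (LaurentSeries R) =
      Polynomial.eval₂RingHom (HahnSeries.C) (HahnSeries.single (-1 : ℤ) (1 : R))) :
    (∀ (M : Type u) [AddCommGroup M] [Module R[X] M] [Module.Invertible R[X] M],
        Module.Free (LaurentSeries R) (LaurentSeries R ⊗[R[X]] M) → Module.Free R[X] M) ∧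
    (∀ (N : Type u) [AddCommGroup N] [Module (LaurentSeries R) N] [Module.Invertible (LaurentSeries R) N],
        ∃ (M : Type u) (_ : AddCommGroup M) (_ : Module R[X] M), Module.Invertible R[X] M ∧
          Nonempty (N ≃ₗ[LaurentSeries R] LaurentSeries R ⊗[R[X]] M)) := by
  obtain ⟨π, hπ⟩ := CAlg9.Approx.exists_toPowerSeries R B hB
  let : Algebra B (PowerSeries R) := π.toAlgebra
  have happ := CAlg9.Approx.isApprox_pairHens R B hB hπ
  set t := algebraMap R[X] B X with ht
  have hHens : HenselianRing B (Ideal.span {t}) := by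
    have := hB.1
    rwa [Ideal.map_span, Set.image_singleton] at this
  have htu : IsUnit (algebraMap B L t) := IsLocalization.Away.algebraMap_isUnit t
  let : Algebra R[X] L := (eval₂RingHom ((algebraMap B L).comp ((algebraMap R[X] B).comp C))
    (↑htu.unit⁻¹ : L)).toAlgebra
  have hC : ∀ r : R, algebraMap R[X] L (C r) = algebraMap B L (algebraMap R[X] B (C r)) := fun r =>
    Polynomial.eval₂_C ..
  have hX : algebraMap R[X] L X * algebraMap B L t = 1 := by
    rw [show algebraMap R[X] L X = ↑htu.unit⁻¹ from Polynomial.eval₂_X ..]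
    exact htu.val_inv_mul
  have hπt : algebraMap B (PowerSeries R) t = PowerSeries.X := (hπ X).trans Polynomial.coe_X
  have : IsLocalization.Away (algebraMap B (PowerSeries R) t) (LaurentSeries R) := by
    rw [hπt]; infer_instance
  let : Algebra B (LaurentSeries R) :=
    ((algebraMap (PowerSeries R) (LaurentSeries R)).comp π).toAlgebra
  have : IsScalarTower B (PowerSeries R) (LaurentSeries R) := IsScalarTower.of_algebraMap_eq' rfl
  have hu : IsUnit (algebraMap B (LaurentSeries R) t) := by
    rw [IsScalarTower.algebraMap_apply B (PowerSeries R) (LaurentSeries R)]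
    exact IsLocalization.Away.algebraMap_isUnit _
  let : Algebra L (LaurentSeries R) := (IsLocalization.Away.lift t hu).toAlgebra
  have : IsScalarTower B L (LaurentSeries R) :=
    IsScalarTower.of_algebraMap_eq fun b => (IsLocalization.Away.lift_eq t hu b).symm
  have hcoeC : ∀ r : R, algebraMap B (LaurentSeries R) (algebraMap R[X] B (C r)) = HahnSeries.C r := by
    intro r
    rw [IsScalarTower.algebraMap_apply B (PowerSeries R) (LaurentSeries R),
      show algebraMap B (PowerSeries R) (algebraMap R[X] B (C r)) = ((C r : R[X]) : PowerSeries R) from hπ _,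
      Polynomial.coe_C]
    exact HahnSeries.ofPowerSeries_C r
  have hcomp : algebraMap R[X] (LaurentSeries R) =
      (algebraMap L (LaurentSeries R)).comp (algebraMap R[X] L) := by
    rw [halg]
    refine Polynomial.ringHom_ext (fun r => ?_) ?_
    · simp only [RingHom.comp_apply, coe_eval₂RingHom, eval₂_C, hC]
      rw [← IsScalarTower.algebraMap_apply B L (LaurentSeries R), hcoeC]
    · simp only [RingHom.comp_apply, coe_eval₂RingHom, eval₂_X]
      have h1 := congrArg (algebraMap L (LaurentSeries R)) hX
      rw [map_mul, map_one, ← IsScalarTower.algebraMap_apply B L (LaurentSeries R),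
        IsScalarTower.algebraMap_apply B (PowerSeries R) (LaurentSeries R), hπt] at h1
      refine left_inv_eq_right_inv (a := algebraMap (PowerSeries R) (LaurentSeries R) PowerSeries.X) ?_
        (by rw [mul_comm]; exact h1)
      rw [LaurentSeries.coe_algebraMap, HahnSeries.ofPowerSeries_X, HahnSeries.single_mul_single,
        mul_one, neg_add_cancel, HahnSeries.single_zero_one]
  have : IsScalarTower R[X] L (LaurentSeries R) := IsScalarTower.of_algebraMap_eq' hcomp
  have hjac : t ∈ Ideal.jacobson (⊥ : Ideal B) :=
    HenselianRing.jac (Ideal.mem_span_singleton_self t)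
  let θ : ∀ (M : Type u) [AddCommGroup M] [Module R[X] M],
      LaurentSeries R ⊗[L] (L ⊗[R[X]] M) ≃ₗ[LaurentSeries R] LaurentSeries R ⊗[R[X]] M :=
    fun M _ _ => TensorProduct.AlgebraTensorModule.cancelBaseChange R[X] L (LaurentSeries R) (LaurentSeries R) M
  refine ⟨fun M _ _ _ hfree => ?_, fun N _ _ _ => ?_⟩
  · obtain ⟨e⟩ := Module.Invertible.free_iff_linearEquiv.mp hfree
    obtain ⟨e'⟩ := CAlg9.Approx.nonempty_equiv_of_baseChange (A' := PowerSeries R) (L := L)
      (L' := LaurentSeries R) hjac happ (L ⊗[R[X]] M) L
      ((θ M).trans (e.trans (TensorProduct.AlgebraTensorModule.rid L (LaurentSeries R) (LaurentSeries R)).symm))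
    have : Module.Free L (L ⊗[R[X]] M) := Module.Free.of_equiv e'.symm
    exact LaurentPic.free_of_free (L := L) hB hC hX M
  · obtain ⟨P, _, _, _, _, ⟨eP⟩⟩ := CAlg9.Approx.exists_baseChange_equiv (A' := PowerSeries R) (L := L)
      (L' := LaurentSeries R) happ N
    obtain ⟨Q, _, _, _, _, ⟨eQ⟩⟩ := CAlg9.Approx.exists_baseChange_equiv (A' := PowerSeries R) (L := L)
      (L' := LaurentSeries R) happ (Module.Dual (LaurentSeries R) N)
    obtain ⟨d⟩ := CAlg9.Approx.nonempty_equiv_of_baseChange (A' := PowerSeries R) (L := L)
      (L' := LaurentSeries R) hjac happ (P ⊗[L] Q) L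
      ((TensorProduct.AlgebraTensorModule.distribBaseChange L (LaurentSeries R) P Q).trans
        ((TensorProduct.congr eP eQ).trans
          ((TensorProduct.comm _ _ _).trans ((Module.Invertible.linearEquiv (LaurentSeries R) N).trans
            (TensorProduct.AlgebraTensorModule.rid L (LaurentSeries R) (LaurentSeries R)).symm))))
    have : Module.Invertible L P := Module.Invertible.left d
    obtain ⟨M, _, _, hM, ⟨eM⟩⟩ := LaurentPic.exists_invertible (L := L) hB hC hX P
    exact ⟨M, inferInstance, inferInstance, hM,
      ⟨eP.symm.trans ((eM.symm.baseChange L (LaurentSeries R)).trans (θ M))⟩⟩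

theorem pic_bijective (R : Type u) [CommRing R] [HenselianLocalRing R] [Algebra R[X] (LaurentSeries R)]
    (halg : algebraMap R[X] (LaurentSeries R) =
      Polynomial.eval₂RingHom (HahnSeries.C) (HahnSeries.single (-1 : ℤ) (1 : R))) :
    (∀ (M : Type u) [AddCommGroup M] [Module R[X] M] [Module.Invertible R[X] M],
        Module.Free (LaurentSeries R) (LaurentSeries R ⊗[R[X]] M) → Module.Free R[X] M) ∧
    (∀ (N : Type u) [AddCommGroup N] [Module (LaurentSeries R) N] [Module.Invertible (LaurentSeries R) N],
        ∃ (M : Type u) (_ : AddCommGroup M) (_ : Module R[X] M), Module.Invertible R[X] M ∧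
          Nonempty (N ≃ₗ[LaurentSeries R] LaurentSeries R ⊗[R[X]] M)) := by
  obtain ⟨B, _, _, hB, -⟩ := Hens22.exists_isPairHenselization (Ideal.span {(X : R[X])})
  exact pic_bijective_aux R B hB (Localization.Away (algebraMap R[X] B X)) halg

end Groth.Agent.CAlg8.LaurentPicMain
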