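import Mathlib
import Groth.Agent.Gor18.Dim
import Groth.Agent.Gor18.LCI
import Groth.Agent.EGA4Alg4.CMMod
import Groth.Agent.EGA4Alg4.DepthChange

/-! Linkage by annihilators over Gorenstein local rings. -/

set_option autoImplicit false

universe u

open IsLocalRing RingTheory.Sequence Module

namespace Groth.Agent.CAlg8.Linkage

variable {A : Type u} [CommRing A]

/-- `rs` is regular on `A ⧸ N`, elementwise. -/
def RegQ (N : Ideal A) (rs : List A) : Prop :=
  ∀ (k : ℕ) (h : k < rs.length) (a : A), rs[k] * a ∈ N ⊔ Ideal.ofList (rs.take k) →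
    a ∈ N ⊔ Ideal.ofList (rs.take k)

theorem regQ_nil (N : Ideal A) : RegQ N [] := fun k h => absurd h (by simp)

theorem regQ_append {N : Ideal A} {rs : List A} {x : A} :
    RegQ N (rs ++ [x]) ↔
      RegQ N rs ∧ ∀ a, x * a ∈ N ⊔ Ideal.ofList rs → a ∈ N ⊔ Ideal.ofList rs := by
  constructor
  · intro h
    refine ⟨fun k hk a ha => ?_, fun a ha => ?_⟩
    · have := h k (by simp; omega) a
      rw [List.getElem_append_left hk, List.take_append_of_le_length hk.le] at this
      exact this ha
    · have := h rs.length (by simp) a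
      rw [List.getElem_concat_length, List.take_left] at this
      · exact this ha
      · rfl
  · rintro ⟨h, hx⟩ k hk a ha
    rcases Nat.lt_or_ge k rs.length with hlt | hge
    · rw [List.getElem_append_left hlt, List.take_append_of_le_length hlt.le] at ha
      rw [List.take_append_of_le_length hlt.le]
      exact h k hlt a ha
    · obtain rfl : k = rs.length := by simp at hk; omega
      rw [List.getElem_concat_length rfl, List.take_left] at ha
      rw [List.take_left]
      exact hx a ha

theorem mk_mem_smul_top (N J : Ideal A) (a : A) :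
    (Submodule.Quotient.mk a : A ⧸ N) ∈ (J • ⊤ : Submodule A (A ⧸ N)) ↔ a ∈ N ⊔ J := by
  have : (J • ⊤ : Submodule A (A ⧸ N)) = Submodule.map (Submodule.mkQ N) J := by
    rw [← Submodule.range_mkQ N, ← Submodule.map_top, ← Submodule.map_smul'', smul_eq_mul, Ideal.mul_top]
  rw [this, ← Submodule.mkQ_apply, ← Submodule.mem_comap, Submodule.comap_map_mkQ]

theorem regQ_iff (N : Ideal A) (rs : List A) : RegQ N rs ↔ IsWeaklyRegular (A ⧸ N) rs := by
  refine ⟨fun h => ⟨fun k hk => ?_⟩, fun h k hk a ha => ?_⟩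
  · refine IsSMulRegular.of_right_eq_zero_of_smul fun z hz => ?_
    obtain ⟨y, rfl⟩ := Submodule.Quotient.mk_surjective _ z
    obtain ⟨a, rfl⟩ := Submodule.Quotient.mk_surjective _ y
    rw [← Submodule.Quotient.mk_smul, ← Submodule.Quotient.mk_smul, Submodule.Quotient.mk_eq_zero,
      mk_mem_smul_top, smul_eq_mul] at hz
    rw [Submodule.Quotient.mk_eq_zero, mk_mem_smul_top]
    exact h k hk a hz
  · have := (h.regular_mod_prev k hk).right_eq_zero_of_smul
      (x := Submodule.Quotient.mk (Submodule.Quotient.mk a : A ⧸ N))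
      (by rw [← Submodule.Quotient.mk_smul, ← Submodule.Quotient.mk_smul, Submodule.Quotient.mk_eq_zero,
        mk_mem_smul_top, smul_eq_mul]; exact ha)
    rwa [Submodule.Quotient.mk_eq_zero, mk_mem_smul_top] at this

theorem regQ_bot_iff (rs : List A) : RegQ (⊥ : Ideal A) rs ↔ IsWeaklyRegular A rs :=
  (regQ_iff _ rs).trans ((Submodule.quotEquivOfEqBot _ rfl).isWeaklyRegular_congr rs)

/-- `(A/N)/(J) = A/(N+J)`. -/
noncomputable def quotEquiv (N J : Ideal A) :
    ((A ⧸ N) ⧸ (J • ⊤ : Submodule A (A ⧸ N))) ≃ₗ[A] A ⧸ (N ⊔ J) :=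
  (Submodule.quotEquivOfEq _ _ (by
    rw [← Submodule.range_mkQ N, ← Submodule.map_top, ← Submodule.map_smul'', smul_eq_mul, Ideal.mul_top])).trans
    (Submodule.quotientQuotientEquivQuotientSup N J)

/-- Tor-vanishing for regular sequences. -/
theorem inf_le_mul {N : Ideal A} {rs : List A} (h : RegQ N rs) :
    N ⊓ Ideal.ofList rs ≤ Ideal.ofList rs * N := by
  induction rs using List.reverseRecOn with
  | nil => simp
  | append_singleton rs x ih =>
    obtain ⟨h1, hx⟩ := regQ_append.1 h
    rintro z ⟨hzN, hz⟩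
    rw [SetLike.mem_coe, Ideal.ofList_append, Ideal.ofList_singleton] at hz
    obtain ⟨j, hj, y, hy, rfl⟩ := Submodule.mem_sup.1 hz
    obtain ⟨b, rfl⟩ := Ideal.mem_span_singleton'.1 hy
    have hb : x * b ∈ N ⊔ Ideal.ofList rs := by
      rw [show x * b = (j + b * x) - j by ring]
      exact sub_mem (Submodule.mem_sup_left hzN) (Submodule.mem_sup_right hj)
    obtain ⟨n, hn, j', hj', rfl⟩ := Submodule.mem_sup.1 (hx b hb)
    have h2 : j + j' * x ∈ N ⊓ Ideal.ofList rs := by
      refine ⟨?_, add_mem hj (Ideal.mul_mem_right _ _ hj')⟩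
      rw [SetLike.mem_coe, show j + j' * x = (j + (n + j') * x) - n * x by ring]
      exact sub_mem hzN (Ideal.mul_mem_right _ _ hn)
    rw [Ideal.ofList_append, Ideal.ofList_singleton, Ideal.sup_mul,
      show j + (n + j') * x = (j + j' * x) + x * n by ring]
    exact Submodule.add_mem_sup (ih h1 h2) (Ideal.mul_mem_mul (Ideal.mem_span_singleton_self x) hn)

variable [LocCoh.IsGorensteinLocalRing A] {I : Ideal A}
  (hCM : LocCoh.IsCohenMacaulayModule A (A ⧸ I)) (hdim : supportDim A (A ⧸ I) = supportDim A A)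
include hCM hdim

/-- Sequences regular on `A` are regular on `A ⧸ I`. -/
theorem regQ_of_regular (rs : List A) (hm : ∀ r ∈ rs, r ∈ maximalIdeal A) (h : IsWeaklyRegular A rs) :
    RegQ I rs := by
  induction rs using List.reverseRecOn with
  | nil => exact regQ_nil I
  | append_singleton rs x ih =>
    obtain ⟨h0, hx0⟩ := regQ_append.1 ((regQ_bot_iff _).2 h)
    rw [bot_sup_eq] at hx0
    have hm' : ∀ r ∈ rs, r ∈ maximalIdeal A := fun r hr => hm r (List.mem_append_left _ hr)
    have h' := (regQ_bot_iff rs).1 h0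
    have hI := ih hm' h'
    refine regQ_append.2 ⟨hI, fun a ha => ?_⟩
    have hIw := (regQ_iff I rs).1 hI
    set J := Ideal.ofList rs
    let e := quotEquiv I J
    have := EGA4Alg4.isCohenMacaulayModule_nontrivial hCM
    have hnt := EGA4Alg4.nontrivial_quotient_ofList (M := A ⧸ I) hm'
    have := EGA4Alg4.nontrivial_quotient_ofList (M := A) hm'
    obtain ⟨d, hd⟩ := EGA4Alg4.exists_supportDim_eq (A := A) (M := A)
    have h1 := supportDim_add_length_eq_supportDim_of_isRegular rs
      (EGA4Alg4.isRegular_of_isWeaklyRegular hIw hm')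
    have h2 := supportDim_add_length_eq_supportDim_of_isRegular rs
      (EGA4Alg4.isRegular_of_isWeaklyRegular h' hm')
    obtain ⟨p, hp⟩ := EGA4Alg4.exists_supportDim_eq (A := A) (M := (A ⧸ I) ⧸ (J • ⊤ : Submodule A (A ⧸ I)))
    obtain ⟨q, hq⟩ := EGA4Alg4.exists_supportDim_eq (A := A) (M := A ⧸ (J • ⊤ : Submodule A A))
    rw [hp, hdim, hd] at h1
    rw [hq, hd] at h2
    have hpq : p = q := by
      have e1 : p + rs.length = d := by exact_mod_cast h1
      have e2 : q + rs.length = d := by exact_mod_cast h2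
      omega
    have hJ : (J • ⊤ : Submodule A A) = J := by rw [smul_eq_mul, Ideal.mul_top]
    have hCMJ := EGA4Alg4.isCohenMacaulayModule_quotient hCM hIw hm'
    -- `x` is regular modulo `I + J`
    suffices hreg : IsSMulRegular ((A ⧸ I) ⧸ (J • ⊤ : Submodule A (A ⧸ I))) x by
      have := hreg.right_eq_zero_of_smul
        (x := Submodule.Quotient.mk (Submodule.Quotient.mk a : A ⧸ I))
        (by rw [← Submodule.Quotient.mk_smul, ← Submodule.Quotient.mk_smul, Submodule.Quotient.mk_eq_zero,
          mk_mem_smul_top, smul_eq_mul]; exact ha)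
      rwa [Submodule.Quotient.mk_eq_zero, mk_mem_smul_top] at this
    by_contra hc
    have : x ∈ ⋃ P ∈ associatedPrimes A ((A ⧸ I) ⧸ (J • ⊤ : Submodule A (A ⧸ I))), (P : Set A) := by
      rw [biUnion_associatedPrimes_eq_compl_regular A]; exact hc
    obtain ⟨P, hP, hxP⟩ := Set.mem_iUnion₂.mp this
    have hPprime := hP.isPrime
    have hJP : J ≤ P := fun j hj => hP.annihilator_le (Submodule.mem_annihilator.mpr fun z _ => by
      obtain ⟨y, rfl⟩ := Submodule.Quotient.mk_surjective _ z
      rw [← Submodule.Quotient.mk_smul, Submodule.Quotient.mk_eq_zero]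
      exact Submodule.smul_mem_smul hj trivial)
    have hPdim := EGA4Alg4.ringKrullDim_quotient_assoc hCMJ hP
    rw [hp, hpq, ← hq, hJ] at hPdim
    have hmin : P ∈ (Module.annihilator A (A ⧸ J)).minimalPrimes := by
      rw [Ideal.annihilator_quotient]
      refine ⟨⟨hPprime, hJP⟩, fun Q hQ hQP => ?_⟩
      by_contra hne
      have := hQ.1
      have h3 := EGA4Alg4.ringKrullDim_quotient_lt (lt_of_le_not_ge hQP hne)
      have h4 : ringKrullDim (A ⧸ Q) ≤ supportDim A (A ⧸ J) :=
        EGA4Alg4.ringKrullDim_quotient_le_supportDim (p := ⟨Q, hQ.1⟩) (by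
          rw [Module.mem_support_iff_of_finite, Ideal.annihilator_quotient]; exact hQ.2)
      rw [← hPdim] at h4
      exact absurd h3 (not_lt.mpr h4)
    have hPass := Module.associatedPrimes.minimalPrimes_annihilator_subset_associatedPrimes A (A ⧸ J) hmin
    refine EGA4Alg4.not_regular_of_mem_assoc hPass x hxP ?_
    refine IsSMulRegular.of_right_eq_zero_of_smul fun z hz => ?_
    obtain ⟨b, rfl⟩ := Submodule.Quotient.mk_surjective _ z
    rw [← Submodule.Quotient.mk_smul, Submodule.Quotient.mk_eq_zero, smul_eq_mul] at hz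
    rw [Submodule.Quotient.mk_eq_zero]
    exact hx0 b hz

/-- Every map from `I` to `A ⧸ (rs)` is multiplication by an element. -/
theorem exists_mul (n : ℕ) : ∀ (rs : List A), (∀ r ∈ rs, r ∈ maximalIdeal A) → IsWeaklyRegular A rs →
    supportDim A A ≤ ((rs.length + n : ℕ) : WithBot ℕ∞) → ∀ φ : I →ₗ[A] A ⧸ Ideal.ofList rs,
      ∃ c : A, ∀ i : I, φ i = Submodule.Quotient.mk (c * (i : A)) := by
  induction n with
  | zero =>
    intro rs hm h hlen φ
    have hJ : Ideal.ofList rs ≤ maximalIdeal A := EGA4Alg4.ofList_le hm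
    have : Nontrivial (A ⧸ Ideal.ofList rs) :=
      Ideal.Quotient.nontrivial_iff.mpr fun h => (maximalIdeal.isMaximal A).ne_top (top_le_iff.mp (h ▸ hJ))
    have hloc : IsLocalRing (A ⧸ Ideal.ofList rs) :=
      IsLocalRing.of_surjective' _ Ideal.Quotient.mk_surjective
    have : LocCoh.IsGorensteinLocalRing (A ⧸ Ideal.ofList rs) :=
      (Gor18.gor_quotient_ofList_iff rs.length A rs rfl hm h).1 inferInstance
    have hsoc : LocCoh.torsionBy (maximalIdeal (A ⧸ Ideal.ofList rs)) (A ⧸ Ideal.ofList rs) ≠ ⊥ := by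
      intro h0
      obtain ⟨z, hz, hzreg⟩ := Gor18.socle_eq_bot_iff_exists_regular.1 h0
      obtain ⟨x, rfl⟩ := Ideal.Quotient.mk_surjective z
      have hxm : x ∈ maximalIdeal A := fun hu => hz (hu.map _)
      have hm2 : ∀ r ∈ rs ++ [x], r ∈ maximalIdeal A := fun r hr =>
        (List.mem_append.1 hr).elim (hm r) fun hr => by rw [List.mem_singleton.1 hr]; exact hxm
      have h2 : IsWeaklyRegular A (rs ++ [x]) := (regQ_bot_iff _).1 (regQ_append.2
        ⟨(regQ_bot_iff _).2 h, fun a ha => by
          rw [bot_sup_eq] at ha ⊢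
          rw [← Ideal.Quotient.eq_zero_iff_mem] at ha ⊢
          rw [map_mul] at ha
          exact hzreg.right_eq_zero_of_smul ha⟩)
      have h3 := EGA4Alg4.length_le_supportDim h2 hm2
      rw [List.length_append, List.length_singleton] at h3
      have h4 := h3.trans hlen
      have : rs.length + 1 ≤ rs.length + 0 := by exact_mod_cast h4
      omega
    have hinj := Gor18.injective_of_socle_ne_bot hsoc
    have hwd : ∀ i : I, (i : A) ∈ Ideal.ofList rs → φ i = 0 := by
      intro i hi
      have h1 := inf_le_mul (regQ_of_regular hCM hdim rs hm h) ⟨i.2, hi⟩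
      suffices ∀ z ∈ Ideal.ofList rs * I, ∃ hz : z ∈ I, φ ⟨z, hz⟩ = 0 from (this i h1).2
      intro z hz
      refine Submodule.mul_induction_on hz (fun j hj w hw => ?_) fun a b ha hb => ?_
      · refine ⟨Ideal.mul_mem_left _ _ hw, ?_⟩
        rw [show (⟨j * w, _⟩ : I) = j • ⟨w, hw⟩ from rfl, map_smul]
        obtain ⟨b, hb⟩ := Submodule.Quotient.mk_surjective _ (φ ⟨w, hw⟩)
        rw [← hb, ← Submodule.Quotient.mk_smul, Submodule.Quotient.mk_eq_zero, smul_eq_mul]
        exact Ideal.mul_mem_right _ _ hj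
      · obtain ⟨ha1, ha2⟩ := ha
        obtain ⟨hb1, hb2⟩ := hb
        refine ⟨add_mem ha1 hb1, ?_⟩
        rw [show (⟨a + b, _⟩ : I) = ⟨a, ha1⟩ + ⟨b, hb1⟩ from rfl, map_add, ha2, hb2, add_zero]
    let π := Ideal.Quotient.mk (Ideal.ofList rs)
    have hsurj : ∀ k : ↥(I.map π), ∃ i : I, π i = k := fun k => by
      obtain ⟨i, hi, hik⟩ := (Ideal.mem_map_iff_of_surjective π Ideal.Quotient.mk_surjective).1 k.2
      exact ⟨⟨i, hi⟩, hik⟩
    choose s hs using hsurj
    have hφ : ∀ (i : I) (k : ↥(I.map π)), π i = k → φ i = φ (s k) := fun i k hik => by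
      rw [← sub_eq_zero, ← map_sub]
      refine hwd _ (Ideal.Quotient.eq.1 ?_)
      exact hik.trans (hs k).symm
    let g : ↥(I.map π) →ₗ[A ⧸ Ideal.ofList rs] A ⧸ Ideal.ofList rs :=
      { toFun := fun k => φ (s k)
        map_add' := fun k l => by
          rw [← map_add]; exact (hφ _ _ (by simp [map_add, hs])).symm
        map_smul' := fun r k => by
          obtain ⟨a, rfl⟩ := Ideal.Quotient.mk_surjective r
          rw [RingHom.id_apply, smul_eq_mul, show Ideal.Quotient.mk _ a * φ (s k) = a • φ (s k) from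
            (Algebra.smul_def a _).symm, ← map_smul]
          exact (hφ _ _ (by simp [hs, π])).symm }
    obtain ⟨ext, hext⟩ := Module.Baer.of_injective hinj (I.map π) g
    obtain ⟨c, hc⟩ := Ideal.Quotient.mk_surjective (ext 1)
    refine ⟨c, fun i => ?_⟩
    have hmem : π i ∈ I.map π := Ideal.mem_map_of_mem π i.2
    calc φ i = g ⟨π i, hmem⟩ := hφ i ⟨π i, hmem⟩ rfl
      _ = ext (π i) := (hext _ hmem).symm
      _ = π i • ext 1 := by rw [← map_smul, smul_eq_mul, mul_one]
      _ = π (c * i) := by rw [← hc, smul_eq_mul, map_mul, mul_comm]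
      _ = Submodule.Quotient.mk (c * (i : A)) := rfl
  | succ n ih =>
    intro rs hm h hlen
    set J := Ideal.ofList rs
    intro φ
    by_cases hex : ∃ x ∈ maximalIdeal A, ∀ a, x * a ∈ J → a ∈ J
    swap
    · refine ih rs hm h ?_ φ
      push Not at hex
      -- no regular element, so `rs` is maximal
      have := EGA4Alg4.nontrivial_quotient_ofList (M := A) hm
      obtain ⟨d, hd⟩ := EGA4Alg4.exists_supportDim_eq (A := A) (M := A)
      have h2 := supportDim_add_length_eq_supportDim_of_isRegular rs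
        (EGA4Alg4.isRegular_of_isWeaklyRegular h hm)
      have hCMA := (Gor18.gor_cm A).supportDim_eq_depth
      have h3 := EGA4Alg4.isCohenMacaulayModule_quotient (M := A) hCMA h hm
      have hdep : LocCoh.depth A (A ⧸ (J • ⊤ : Submodule A A)) = 0 := by
        rw [EGA4Alg4.depth_eq_zero_iff, EGA4Alg4.maximalIdeal_mem_assoc_iff]
        intro y hy hreg
        obtain ⟨a, ha, haJ⟩ := hex y hy
        refine haJ ?_
        have := hreg.right_eq_zero_of_smul (x := (Submodule.Quotient.mk a : A ⧸ (J • ⊤ : Submodule A A)))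
          (by rw [← Submodule.Quotient.mk_smul, Submodule.Quotient.mk_eq_zero, smul_eq_mul, smul_eq_mul,
            Ideal.mul_top]; exact ha)
        rwa [Submodule.Quotient.mk_eq_zero, smul_eq_mul, Ideal.mul_top] at this
      rw [LocCoh.IsCohenMacaulayModule, hdep] at h3
      rw [h3] at h2
      rw [← h2]
      exact_mod_cast (zero_add rs.length).trans_le (Nat.le_add_right _ _)
    obtain ⟨x, hxm, hx⟩ := hex
    have hm2 : ∀ r ∈ rs ++ [x], r ∈ maximalIdeal A := fun r hr =>
      (List.mem_append.1 hr).elim (hm r) fun hr => by rw [List.mem_singleton.1 hr]; exact hxm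
    have h2 : IsWeaklyRegular A (rs ++ [x]) := (regQ_bot_iff _).1 (regQ_append.2
      ⟨(regQ_bot_iff _).2 h, fun a ha => by rw [bot_sup_eq] at ha ⊢; exact hx a ha⟩)
    have hlen2 : supportDim A A ≤ (((rs ++ [x]).length + n : ℕ) : WithBot ℕ∞) := by
      rw [List.length_append, List.length_singleton, show rs.length + 1 + n = rs.length + (n + 1) by omega]
      exact hlen
    let L : A →ₗ[A] (I →ₗ[A] A ⧸ J) :=
      LinearMap.toSpanSingleton A _ ((Submodule.mkQ J).domRestrict I)
    have hLi : ∀ (c : A) (i : I), L c i = Submodule.Quotient.mk (c * (i : A)) := fun c i => by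
      show c • (Submodule.mkQ J (i : A)) = _
      rw [← map_smul]; rfl
    have hsup : (⊤ : Submodule A (I →ₗ[A] A ⧸ J)) ≤ LinearMap.range L ⊔ maximalIdeal A • ⊤ := by
      rintro ψ -
      obtain ⟨c, hc⟩ := ih (rs ++ [x]) hm2 h2 hlen2
        ((Submodule.factor (show J ≤ Ideal.ofList (rs ++ [x]) by
          rw [Ideal.ofList_append]; exact le_sup_left)) ∘ₗ ψ)
      have hdiv : ∀ i : I, ∃ y : A ⧸ J, x • y = ψ i - L c i := fun i => by
        obtain ⟨b, hb⟩ := Submodule.Quotient.mk_surjective _ (ψ i)
        have h5 := hc i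
        rw [LinearMap.comp_apply, ← hb] at h5
        rw [← Submodule.mkQ_apply, Submodule.factor_mk, Submodule.mkQ_apply, Submodule.Quotient.eq, Ideal.ofList_append,
          Ideal.ofList_singleton] at h5
        obtain ⟨j, hj, y, hy, hjy⟩ := Submodule.mem_sup.1 h5
        obtain ⟨z, rfl⟩ := Ideal.mem_span_singleton'.1 hy
        refine ⟨Submodule.Quotient.mk z, ?_⟩
        rw [← hb, hLi, ← Submodule.Quotient.mk_sub, ← Submodule.Quotient.mk_smul, Submodule.Quotient.eq,
          ← hjy, smul_eq_mul, show x * z - (j + z * x) = -j by ring]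
        exact neg_mem hj
      choose y hy using hdiv
      have hreg : IsSMulRegular (A ⧸ J) x := IsSMulRegular.of_right_eq_zero_of_smul fun z hz => by
        obtain ⟨b, rfl⟩ := Submodule.Quotient.mk_surjective _ z
        rw [← Submodule.Quotient.mk_smul, Submodule.Quotient.mk_eq_zero, smul_eq_mul] at hz
        rw [Submodule.Quotient.mk_eq_zero]
        exact hx b hz
      let χ : I →ₗ[A] A ⧸ J :=
        { toFun := y
          map_add' := fun i k => hreg (by
            show x • _ = x • _
            rw [smul_add, hy, hy, hy, map_add, map_add]; abel)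
          map_smul' := fun r i => hreg (by
            show x • _ = x • _
            rw [RingHom.id_apply, smul_comm x r, hy, hy, map_smul, map_smul, smul_sub]) }
      refine Submodule.mem_sup.2 ⟨L c, ⟨c, rfl⟩, x • χ, Submodule.smul_mem_smul hxm trivial, ?_⟩
      refine LinearMap.ext fun i => ?_
      show L c i + x • y i = ψ i
      rw [hy, add_sub_cancel]
    obtain ⟨k, g, hg⟩ := Module.Finite.exists_fin' A I
    have hfg : (⊤ : Submodule A (I →ₗ[A] A ⧸ J)).FG := by
      have : IsNoetherian A (I →ₗ[A] A ⧸ J) := isNoetherian_of_injective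
        (P := (Fin k → A ⧸ J))
        (LinearMap.pi fun j => LinearMap.applyₗ (g (Pi.single j 1)))
        fun a b hab => LinearMap.ext fun i => by
          obtain ⟨v, rfl⟩ := hg i
          rw [pi_eq_sum_univ' v, map_sum g, map_sum a, map_sum b]
          exact Finset.sum_congr rfl fun j _ => by
            rw [map_smul, map_smul, map_smul]; exact congrArg _ (congrFun hab j)
      exact IsNoetherian.noetherian _
    obtain ⟨c, hc⟩ := Submodule.le_of_le_smul_of_le_jacobson_bot hfg
      (IsLocalRing.maximalIdeal_le_jacobson _) hsup (Submodule.mem_top (x := φ))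
    exact ⟨c, fun i => by rw [← hc, hLi]⟩

/-- `(J : I) = ann I + J` for `J` generated by a regular sequence. -/
theorem colon_eq (rs : List A) (hm : ∀ r ∈ rs, r ∈ maximalIdeal A) (h : IsWeaklyRegular A rs) :
    ∀ a : A, (∀ i ∈ I, a * i ∈ Ideal.ofList rs) → a ∈ Submodule.annihilator I ⊔ Ideal.ofList rs := by
  induction rs using List.reverseRecOn with
  | nil =>
    intro a ha
    refine Submodule.mem_sup_left (Submodule.mem_annihilator.2 fun i hi => ?_)
    simpa using ha i hi
  | append_singleton rs x ih =>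
    obtain ⟨h0, hx0⟩ := regQ_append.1 ((regQ_bot_iff _).2 h)
    rw [bot_sup_eq] at hx0
    have hm' : ∀ r ∈ rs, r ∈ maximalIdeal A := fun r hr => hm r (List.mem_append_left _ hr)
    have h' := (regQ_bot_iff rs).1 h0
    intro a ha
    set J := Ideal.ofList rs
    have hdiv : ∀ i : I, ∃ b : A, a * i - x * b ∈ J := fun i => by
      have := ha i i.2
      rw [Ideal.ofList_append, Ideal.ofList_singleton] at this
      obtain ⟨j, hj, y, hy, hjy⟩ := Submodule.mem_sup.1 this
      obtain ⟨z, rfl⟩ := Ideal.mem_span_singleton'.1 hy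
      exact ⟨z, by rw [← hjy, show j + z * x - x * z = j by ring]; exact hj⟩
    choose b hb using hdiv
    let ψ : I →ₗ[A] A ⧸ J :=
      { toFun := fun i => Submodule.Quotient.mk (b i)
        map_add' := fun i k => by
          rw [← Submodule.Quotient.mk_add, Submodule.Quotient.eq]
          refine hx0 _ ?_
          rw [show x * (b (i + k) - (b i + b k)) =
            (a * i - x * b i) + (a * k - x * b k) - (a * ((i + k : I) : A) - x * b (i + k)) by
              rw [Submodule.coe_add]; ring]
          exact sub_mem (add_mem (hb i) (hb k)) (hb _)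
        map_smul' := fun r i => by
          rw [RingHom.id_apply, ← Submodule.Quotient.mk_smul, Submodule.Quotient.eq]
          refine hx0 _ ?_
          rw [show x * (b (r • i) - r • b i) =
            r * (a * i - x * b i) - (a * ((r • i : I) : A) - x * b (r • i)) by
              rw [SetLike.val_smul, smul_eq_mul, smul_eq_mul]; ring]
          exact sub_mem (Ideal.mul_mem_left _ _ (hb i)) (hb _) }
    obtain ⟨d, hd⟩ := EGA4Alg4.exists_supportDim_eq (A := A) (M := A)
    obtain ⟨c, hc⟩ := exists_mul hCM hdim d rs hm' h' (by rw [hd]; exact_mod_cast Nat.le_add_left _ _) ψ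
    have := ih hm' h' (a - x * c) fun i hi => by
      have h5 : b ⟨i, hi⟩ - c * i ∈ J := (Submodule.Quotient.eq _).1 (hc ⟨i, hi⟩)
      rw [show (a - x * c) * i = (a * i - x * b ⟨i, hi⟩) + x * (b ⟨i, hi⟩ - c * i) by ring]
      exact add_mem (hb ⟨i, hi⟩) (Ideal.mul_mem_left _ _ h5)
    obtain ⟨n, hn, j, hj, hnj⟩ := Submodule.mem_sup.1 this
    rw [show a = n + (j + c * x) by rw [← add_assoc, hnj]; ring, Ideal.ofList_append, Ideal.ofList_singleton]
    exact Submodule.add_mem_sup hn
      (Submodule.add_mem_sup hj (Ideal.mul_mem_left _ _ (Ideal.mem_span_singleton_self x)))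

/-- Sequences regular on `A` are regular on the linked quotient. -/
theorem regQ_annihilator (rs : List A) (hm : ∀ r ∈ rs, r ∈ maximalIdeal A) (h : IsWeaklyRegular A rs) :
    RegQ (Submodule.annihilator I) rs := by
  induction rs using List.reverseRecOn with
  | nil => exact regQ_nil _
  | append_singleton rs x ih =>
    obtain ⟨h0, hx0⟩ := regQ_append.1 ((regQ_bot_iff _).2 h)
    rw [bot_sup_eq] at hx0
    have hm' : ∀ r ∈ rs, r ∈ maximalIdeal A := fun r hr => hm r (List.mem_append_left _ hr)
    have h' := (regQ_bot_iff rs).1 h0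
    refine regQ_append.2 ⟨ih hm' h', fun a ha => colon_eq hCM hdim rs hm' h' a fun i hi => hx0 _ ?_⟩
    obtain ⟨n, hn, j, hj, hnj⟩ := Submodule.mem_sup.1 ha
    rw [← mul_assoc, ← hnj, add_mul, show n * i = 0 from Submodule.mem_annihilator.1 hn i hi, zero_add]
    exact Ideal.mul_mem_right _ _ hj

omit hCM hdim in
theorem cm_quotient (I : Ideal A) [LocCoh.IsCohenMacaulayLocalRing (A ⧸ I)] :
    LocCoh.IsCohenMacaulayModule A (A ⧸ I) := by
  have : IsLocalHom (algebraMap A (A ⧸ I)) := IsLocalHom.of_surjective _ Ideal.Quotient.mk_surjective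
  show supportDim A (A ⧸ I) = _
  rw [supportDim_quotient_eq_ringKrullDim, ← supportDim_self_eq_ringKrullDim,
    LocCoh.IsCohenMacaulayLocalRing.supportDim_eq_depth, EGA4Alg4.depth_eq_of_finite (A := A) (B := A ⧸ I)]

omit [LocCoh.IsGorensteinLocalRing A] hCM hdim in
theorem supportDim_eq (hI : ringKrullDim (A ⧸ I) = ringKrullDim A) :
    supportDim A (A ⧸ I) = supportDim A A := by
  rw [supportDim_quotient_eq_ringKrullDim, supportDim_self_eq_ringKrullDim, hI]

end Groth.Agent.CAlg8.Linkage
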