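import Mathlib.RingTheory.Idempotents
import Mathlib.Algebra.Module.Projective
import Mathlib.RingTheory.Finiteness.Basic
import Mathlib.RingTheory.Nilpotent.Basic
import Mathlib.LinearAlgebra.TensorProduct.Tower
import Mathlib.LinearAlgebra.Projection
import Mathlib.LinearAlgebra.StdBasis
import Mathlib.RingTheory.Finiteness.Cardinality

set_option autoImplicit false

namespace Groth.Agent.CAlg8.NilLiftProj

universe u v

open TensorProduct

variable {R : Type u} [CommRing R]

theorem smul_top_le_comap (I : Ideal R) {F : Type*} [AddCommGroup F] [Module R F] (f : Module.End R F) :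
    I • (⊤ : Submodule R F) ≤ (I • (⊤ : Submodule R F)).comap f := by
  rw [← Submodule.map_le_iff_le_comap, Submodule.map_smul'']
  exact Submodule.smul_mono le_rfl le_top

/-- Finite projective modules lift along surjections with nilpotent kernel. -/
theorem exists_lift {S : Type v} [CommRing S] [Algebra R S] (hS : Function.Surjective (algebraMap R S))
    (hnil : IsNilpotent (RingHom.ker (algebraMap R S)))
    (P : Type v) [AddCommGroup P] [Module S P] [Module R P] [IsScalarTower R S P]
    [Module.Finite S P] [Module.Projective S P] :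
    ∃ (P' : Type u) (_ : AddCommGroup P') (_ : Module R P'), Module.Finite R P' ∧ Module.Projective R P' ∧
      ∃ q : P' →ₗ[R] P, Function.Surjective q ∧
        LinearMap.ker q = RingHom.ker (algebraMap R S) • (⊤ : Submodule R P') := by
  classical
  set I := RingHom.ker (algebraMap R S)
  obtain ⟨n, p, hp⟩ := Module.Finite.exists_fin' S P
  obtain ⟨s, hs⟩ := Module.projective_lifting_property p LinearMap.id hp
  have hsp : ∀ x, p (s x) = x := LinearMap.congr_fun hs
  -- reduction
  let π : (Fin n → R) →ₗ[R] (Fin n → S) := LinearMap.pi fun i => Algebra.linearMap R S ∘ₗ LinearMap.proj i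
  have hπ : Function.Surjective π := fun y => by
    choose g hg using hS
    exact ⟨fun i => g (y i), funext fun i => hg (y i)⟩
  let e : Module.End R (Fin n → S) := (s ∘ₗ p).restrictScalars R
  obtain ⟨f₀, hf₀⟩ : ∃ f₀ : Module.End R (Fin n → R), π ∘ₗ f₀ = e ∘ₗ π :=
    Module.projective_lifting_property π (e ∘ₗ π) hπ
  have hkerπ : LinearMap.ker π = I • (⊤ : Submodule R (Fin n → R)) := by
    refine le_antisymm (fun x hx => ?_) ?_
    · rw [pi_eq_sum_univ' x]
      exact sum_mem fun i _ => Submodule.smul_mem_smul (congrFun (LinearMap.mem_ker.mp hx) i) Submodule.mem_top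
    · rw [Submodule.smul_le]
      intro c hc x _
      have hc' : algebraMap R S c = 0 := hc
      rw [LinearMap.mem_ker, map_smul, ← algebraMap_smul S c (π x), hc', zero_smul]
  -- the subring of endomorphisms compatible with the reduction
  let C : Subring (Module.End R (Fin n → R) × Module.End R (Fin n → S)) :=
    { carrier := {x | π ∘ₗ x.1 = x.2 ∘ₗ π}
      one_mem' := rfl
      mul_mem' := fun {a b} ha hb => by
        exact LinearMap.ext fun v => (LinearMap.congr_fun ha (b.1 v)).trans (congrArg a.2 (LinearMap.congr_fun hb v))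
      zero_mem' := by simp
      add_mem' := fun {a b} ha hb => by
        show π ∘ₗ (a.1 + b.1) = (a.2 + b.2) ∘ₗ π
        rw [LinearMap.comp_add, LinearMap.add_comp, ha, hb]
      neg_mem' := fun {a} ha => by
        show π ∘ₗ (-a.1) = (-a.2) ∘ₗ π
        rw [LinearMap.comp_neg, LinearMap.neg_comp, ha] }
  let red : C →+* Module.End R (Fin n → S) :=
    (RingHom.snd (Module.End R (Fin n → R)) (Module.End R (Fin n → S))).comp C.subtype
  have hker : ∀ x ∈ RingHom.ker red, IsNilpotent x := by
    rintro ⟨⟨a, b⟩, hab⟩ hx
    replace hx : b = 0 := hx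
    obtain ⟨N, hN⟩ := hnil
    have hrange : ∀ v, a v ∈ I • (⊤ : Submodule R (Fin n → R)) := by
      intro v
      rw [← hkerπ, LinearMap.mem_ker]
      exact (LinearMap.congr_fun hab v).trans (by simp [hx])
    have hk : ∀ k v, (a ^ k) v ∈ I ^ k • (⊤ : Submodule R (Fin n → R)) := by
      intro k
      induction k with
      | zero => intro v; rw [pow_zero I, Ideal.one_eq_top, Submodule.top_smul]; exact Submodule.mem_top
      | succ k ih =>
        intro v
        rw [pow_succ a k, Module.End.mul_apply, pow_succ I k, Submodule.mul_smul]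
        have := Submodule.mem_map_of_mem (f := a ^ k) (hrange v)
        rw [Submodule.map_smul''] at this
        have h1 : Submodule.map (a ^ k) ⊤ ≤ I ^ k • (⊤ : Submodule R (Fin n → R)) := by
          rintro _ ⟨w, -, rfl⟩; exact ih w
        have h2 := Submodule.smul_mono (le_refl I) h1 this
        rwa [← Submodule.mul_smul, mul_comm, Submodule.mul_smul] at h2
    refine ⟨N + 1, Subtype.ext (Prod.ext (LinearMap.ext fun v => ?_) ?_)⟩
    · have := hk (N + 1) v
      rw [pow_succ I, hN] at this
      simpa using this
    · simp [hx, pow_succ]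
  have hee : IsIdempotentElem e := LinearMap.ext fun v => congrArg s (hsp (p v))
  obtain ⟨⟨⟨f, e'⟩, hfc⟩, hfid, hfe⟩ := exists_isIdempotentElem_eq_of_ker_isNilpotent red hker e
    ⟨⟨(f₀, e), hf₀⟩, rfl⟩ hee
  replace hfe : e' = e := hfe
  subst hfe
  have hff : ∀ v, f (f v) = f v := LinearMap.congr_fun (congrArg (fun x : C => x.1.1) hfid)
  have hπf : ∀ v, π (f v) = s (p (π v)) := LinearMap.congr_fun hfc
  refine ⟨LinearMap.range f, inferInstance, inferInstance, Module.Finite.range f, ?_, ?_⟩
  · exact Module.Projective.of_split (LinearMap.range f).subtype f.rangeRestrict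
      (LinearMap.ext fun ⟨_, v, hv⟩ => Subtype.ext (by subst hv; exact hff v))
  refine ⟨p.restrictScalars R ∘ₗ π ∘ₗ (LinearMap.range f).subtype, fun x => ?_, ?_⟩
  · obtain ⟨v, hv⟩ := hπ (s x)
    exact ⟨⟨f v, v, rfl⟩, by show p (π (f v)) = x; rw [hπf, hv, hsp, hsp]⟩
  · refine le_antisymm ?_ ?_
    · rintro ⟨_, v, rfl⟩ hx
      replace hx : p (π (f v)) = 0 := hx
      have h0 : f v ∈ I • (⊤ : Submodule R (Fin n → R)) := by
        rw [← hkerπ, LinearMap.mem_ker, hπf]
        rw [hπf, hsp] at hx
        rw [hx, map_zero]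
      have h1 := Submodule.mem_map_of_mem (f := f.rangeRestrict) h0
      rw [Submodule.map_smul'', Submodule.map_top, LinearMap.range_rangeRestrict] at h1
      have h2 : f.rangeRestrict (f v) = ⟨f v, v, rfl⟩ := Subtype.ext (hff v)
      rwa [h2] at h1
    · rw [Submodule.smul_le]
      intro c hc x _
      have hc' : algebraMap R S c = 0 := hc
      rw [LinearMap.mem_ker, map_smul, ← algebraMap_smul S c, hc', zero_smul]

end Groth.Agent.CAlg8.NilLiftProj
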