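import Mathlib

/-! The semiring of isomorphism classes of finite projective modules, and its stable relations. -/

set_option autoImplicit false

universe u

open TensorProduct

namespace Groth.Agent.CAlg8.ProjClasses

variable (R : Type u) [CommRing R]

/-- A finite projective module. -/
structure PMod : Type (u + 1) where
  M : Type u
  [grp : AddCommGroup M]
  [mod : Module R M]
  [fin : Module.Finite R M]
  [proj : Module.Projective R M]

attribute [instance] PMod.grp PMod.mod PMod.fin PMod.proj

variable {R}

/-- Isomorphism. -/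
def PMod.Iso (P Q : PMod R) : Prop := Nonempty (P.M ≃ₗ[R] Q.M)

instance : Setoid (PMod R) :=
  ⟨PMod.Iso, ⟨fun _ => ⟨.refl _ _⟩, fun ⟨e⟩ => ⟨e.symm⟩, fun ⟨e⟩ ⟨f⟩ => ⟨e.trans f⟩⟩⟩

variable (R) in
/-- Isomorphism classes. -/
def K : Type (u + 1) := Quotient (inferInstance : Setoid (PMod R))

/-- The class of a module. -/
def cl (M : Type u) [AddCommGroup M] [Module R M] [Module.Finite R M] [Module.Projective R M] : K R :=
  Quotient.mk _ ⟨M⟩

theorem cl_eq_cl_iff {M N : Type u} [AddCommGroup M] [Module R M] [Module.Finite R M] [Module.Projective R M]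
    [AddCommGroup N] [Module R N] [Module.Finite R N] [Module.Projective R N] :
    cl (R := R) M = cl N ↔ Nonempty (M ≃ₗ[R] N) := Quotient.eq

theorem cl_congr {M N : Type u} [AddCommGroup M] [Module R M] [Module.Finite R M] [Module.Projective R M]
    [AddCommGroup N] [Module R N] [Module.Finite R N] [Module.Projective R N] (e : M ≃ₗ[R] N) :
    cl (R := R) M = cl N := Quotient.sound ⟨e⟩

theorem exists_cl (x : K R) : ∃ (M : Type u) (_ : AddCommGroup M) (_ : Module R M)
    (_ : Module.Finite R M) (_ : Module.Projective R M), cl M = x := by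
  obtain ⟨P, rfl⟩ := Quotient.exists_rep x
  exact ⟨P.M, _, _, P.fin, P.proj, rfl⟩

noncomputable instance : Add (K R) where
  add := Quotient.map₂ (fun P Q : PMod R => (⟨P.M × Q.M⟩ : PMod R))
    fun _ _ ⟨e⟩ _ _ ⟨f⟩ => ⟨e.prodCongr f⟩

noncomputable instance : Mul (K R) where
  mul := Quotient.map₂ (fun P Q : PMod R => (⟨P.M ⊗[R] Q.M⟩ : PMod R))
    fun _ _ ⟨e⟩ _ _ ⟨f⟩ => ⟨TensorProduct.congr e f⟩

noncomputable instance : Zero (K R) := ⟨cl (PUnit.{u + 1})⟩
noncomputable instance : One (K R) := ⟨cl R⟩

section
variable (M N : Type u) [AddCommGroup M] [Module R M] [Module.Finite R M] [Module.Projective R M]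
    [AddCommGroup N] [Module R N] [Module.Finite R N] [Module.Projective R N]

theorem cl_prod : cl (R := R) (M × N) = cl M + cl N := rfl
theorem cl_tensor : cl (R := R) (M ⊗[R] N) = cl M * cl N := rfl
end

theorem ind {p : K R → Prop} (h : ∀ (M : Type u) [AddCommGroup M] [Module R M] [Module.Finite R M]
    [Module.Projective R M], p (cl M)) (x : K R) : p x := by
  obtain ⟨M, _, _, _, _, rfl⟩ := exists_cl x
  exact h M

noncomputable instance : CommSemiring (K R) where
  add_assoc := by
    intro a b c
    induction a using ind with | _ A => induction b using ind with | _ B => induction c using ind with | _ C =>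
      exact cl_congr (LinearEquiv.prodAssoc R A B C)
  zero_add := by
    intro a; induction a using ind with | _ A => exact cl_congr LinearEquiv.uniqueProd
  add_zero := by
    intro a; induction a using ind with | _ A => exact cl_congr LinearEquiv.prodUnique
  add_comm := by
    intro a b
    induction a using ind with | _ A => induction b using ind with | _ B =>
      exact cl_congr (LinearEquiv.prodComm R A B)
  nsmul := nsmulRec
  left_distrib := by
    intro a b c
    induction a using ind with | _ A => induction b using ind with | _ B => induction c using ind with | _ C =>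
      exact cl_congr (TensorProduct.prodRight R R A B C)
  right_distrib := by
    intro a b c
    induction a using ind with | _ A => induction b using ind with | _ B => induction c using ind with | _ C =>
      exact cl_congr (TensorProduct.prodLeft R R A B C)
  zero_mul := by
    intro a; induction a using ind with | _ A =>
      exact cl_congr (LinearEquiv.ofSubsingleton (PUnit.{u + 1} ⊗[R] A) PUnit.{u + 1})
  mul_zero := by
    intro a; induction a using ind with | _ A =>
      exact cl_congr (LinearEquiv.ofSubsingleton (A ⊗[R] PUnit.{u + 1}) PUnit.{u + 1})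
  mul_assoc := by
    intro a b c
    induction a using ind with | _ A => induction b using ind with | _ B => induction c using ind with | _ C =>
      exact cl_congr (TensorProduct.assoc R A B C)
  one_mul := by
    intro a; induction a using ind with | _ A => exact cl_congr (TensorProduct.lid R A)
  mul_one := by
    intro a; induction a using ind with | _ A => exact cl_congr (TensorProduct.rid R A)
  mul_comm := by
    intro a b
    induction a using ind with | _ A => induction b using ind with | _ B =>
      exact cl_congr (TensorProduct.comm R A B)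

theorem natCast_eq (n : ℕ) : (n : K R) = cl (Fin n → R) := by
  induction n with
  | zero => rw [Nat.cast_zero]; exact cl_congr (LinearEquiv.ofSubsingleton PUnit.{u + 1} (Fin 0 → R))
  | succ n ih =>
    rw [Nat.cast_succ, ih, add_comm]
    exact cl_congr (Fin.consLinearEquiv R (fun _ : Fin (n + 1) => R))

instance (n : ℕ) (M : Type u) [AddCommGroup M] [Module R M] [Module.Projective R M] :
    Module.Projective R (Fin n → M) :=
  Module.Projective.of_equiv (DFinsupp.linearEquivFunOnFintype (R := R) (M := fun _ : Fin n => M))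

theorem cl_pi (n : ℕ) (M : Type u) [AddCommGroup M] [Module R M] [Module.Finite R M] [Module.Projective R M] :
    cl (R := R) (Fin n → M) = (n : K R) * cl M := by
  induction n with
  | zero => rw [Nat.cast_zero, zero_mul]; exact cl_congr (LinearEquiv.ofSubsingleton (Fin 0 → M) PUnit.{u + 1})
  | succ n ih =>
    rw [Nat.cast_succ, add_comm (n : K R), add_mul, one_mul, ← ih, ← cl_prod]
    exact (cl_congr (Fin.consLinearEquiv R (fun _ : Fin (n + 1) => M))).symm

/-- Every class is a summand of a free one. -/
theorem exists_add_eq_natCast (x : K R) : ∃ (y : K R) (m : ℕ), x + y = m := by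
  obtain ⟨M, _, _, _, _, rfl⟩ := exists_cl x
  obtain ⟨n, π, j, hπ, -, hπj⟩ := Module.Finite.exists_comp_eq_id_of_projective R M
  have hp : LinearMap.ker π ⊔ LinearMap.range j = ⊤ ∧ Disjoint (LinearMap.ker π) (LinearMap.range j) := by
    have h : ∀ m, π (j m) = m := fun m => LinearMap.congr_fun hπj m
    refine ⟨eq_top_iff.mpr fun x _ => Submodule.mem_sup.mpr ⟨x - j (π x), ?_, j (π x), ⟨_, rfl⟩,
      sub_add_cancel _ _⟩, Submodule.disjoint_def.mpr ?_⟩
    · simp only [LinearMap.mem_ker, map_sub]
      rw [h, sub_self]
    · rintro _ hx ⟨m, rfl⟩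
      rw [LinearMap.mem_ker] at hx
      rw [← h m, hx, map_zero]
  have e : (LinearMap.ker π × M) ≃ₗ[R] (Fin n → R) :=
    ((LinearEquiv.refl R _).prodCongr (LinearEquiv.ofInjective j fun a b hab => by
      have h : ∀ m, π (j m) = m := fun m => LinearMap.congr_fun hπj m
      rw [← h a, hab, h])).trans
      (Submodule.prodEquivOfIsCompl _ _ ⟨hp.2, codisjoint_iff.mpr hp.1⟩)
  have : Module.Finite R (LinearMap.ker π × M) := Module.Finite.equiv e.symm
  have : Module.Projective R (LinearMap.ker π × M) := Module.Projective.of_equiv e.symm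
  have : Module.Finite R (LinearMap.ker π) :=
    Module.Finite.of_surjective (LinearMap.fst R (LinearMap.ker π) M) LinearMap.fst_surjective
  have : Module.Projective R (LinearMap.ker π) :=
    Module.Projective.of_split (LinearMap.inl R _ M) (LinearMap.fst R _ M) (by ext; simp)
  exact ⟨cl (LinearMap.ker π), n, by rw [add_comm, natCast_eq]; exact cl_congr e⟩

section Rel

open Polynomial

variable (a : K R)

/-- Evaluation at a class. -/
noncomputable abbrev ev : ℕ[X] →+* K R := Polynomial.eval₂RingHom (Nat.castRingHom (K R)) a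

/-- Stable equality. -/
def SEq (x y : K R) : Prop := ∃ c, x + c = y + c

theorem SEq.add {x y x' y' : K R} : SEq x y → SEq x' y' → SEq (x + x') (y + y') :=
  fun ⟨c, hc⟩ ⟨c', hc'⟩ => ⟨c + c', by rw [add_add_add_comm, hc, hc', add_add_add_comm]⟩

theorem SEq.mul (z : K R) {x y : K R} : SEq x y → SEq (z * x) (z * y) :=
  fun ⟨c, hc⟩ => ⟨z * c, by rw [← mul_add, hc, mul_add]⟩

theorem SEq.symm {x y : K R} : SEq x y → SEq y x := fun ⟨c, hc⟩ => ⟨c, hc.symm⟩

/-- `p ∈ ℕ[X]` in `ℤ[X]`. -/
noncomputable abbrev toZ : ℕ[X] →+* ℤ[X] := Polynomial.mapRingHom (Nat.castRingHom ℤ)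

theorem exists_sub (z : ℤ[X]) : ∃ p q : ℕ[X], z = toZ p - toZ q := by
  induction z using Polynomial.induction_on' with
  | add f g hf hg =>
    obtain ⟨p, q, rfl⟩ := hf
    obtain ⟨p', q', rfl⟩ := hg
    exact ⟨p + p', q + q', by rw [map_add, map_add]; ring⟩
  | monomial n c =>
    obtain ⟨m, rfl | rfl⟩ := Int.eq_nat_or_neg c
    · exact ⟨monomial n m, 0, by simp⟩
    · exact ⟨0, monomial n m, by simp⟩

/-- The relations satisfied by a class in the stable group. -/
noncomputable def relIdeal : Ideal ℤ[X] where
  carrier := {z | ∃ p q, z = toZ p - toZ q ∧ SEq (ev a p) (ev a q)}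
  zero_mem' := ⟨0, 0, by simp, 0, rfl⟩
  add_mem' := by
    rintro _ _ ⟨p, q, rfl, h⟩ ⟨p', q', rfl, h'⟩
    refine ⟨p + p', q + q', by rw [map_add, map_add]; ring, ?_⟩
    rw [map_add, map_add]; exact h.add h'
  smul_mem' := by
    rintro w _ ⟨p, q, rfl, h⟩
    obtain ⟨p', q', rfl⟩ := exists_sub w
    refine ⟨p' * p + q' * q, p' * q + q' * p, by
      rw [smul_eq_mul, map_add, map_add, map_mul, map_mul, map_mul, map_mul]; ring, ?_⟩
    rw [map_add, map_add, map_mul, map_mul, map_mul, map_mul]
    exact (h.mul _).add (h.symm.mul _)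

theorem sEq_of_mem {p q : ℕ[X]} (h : toZ p - toZ q ∈ relIdeal a) : SEq (ev a p) (ev a q) := by
  obtain ⟨p', q', he, c, hc⟩ := h
  have h1 : p + q' = q + p' := Polynomial.map_injective (Nat.castRingHom ℤ) Nat.cast_injective (by
    change toZ (p + q') = toZ (q + p')
    rw [map_add, map_add]; linear_combination he)
  refine ⟨ev a q' + c, ?_⟩
  calc ev a p + (ev a q' + c) = ev a (p + q') + c := by rw [map_add, add_assoc]
    _ = ev a q + (ev a p' + c) := by rw [h1, map_add, add_assoc]
    _ = ev a q + (ev a q' + c) := by rw [hc]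

end Rel

end Groth.Agent.CAlg8.ProjClasses
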