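import Mathlib.RingTheory.AdicCompletion.Exactness
import Mathlib.RingTheory.AdicCompletion.Noetherian
import Mathlib.RingTheory.Ideal.Quotient.Nilpotent
import Mathlib.RingTheory.LocalRing.MaximalIdeal.Basic
import Mathlib.RingTheory.Noetherian.Basic
import Groth.Agent.AdicC27.Approx

set_option autoImplicit false

namespace Groth.Agent.CAlg8.SqZeroComplete

universe u v

variable {A : Type u} {E : Type v} [CommRing A] [CommRing E]

/-- Precompleteness is stable under extensions of finite modules over a Noetherian ring. -/
theorem precomplete_middle {R M N P : Type v} [CommRing R] [IsNoetherianRing R] (I : Ideal R)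
    [AddCommGroup M] [Module R M] [AddCommGroup N] [Module R N] [AddCommGroup P] [Module R P]
    [Module.Finite R N] [IsPrecomplete I M] [IsPrecomplete I P] (i : M →ₗ[R] N) (g : N →ₗ[R] P)
    (hi : Function.Injective i) (hex : Function.Exact i g) (hg : Function.Surjective g) :
    IsPrecomplete I N := by
  refine AdicCompletion.of_surjective_iff.mp fun y => ?_
  obtain ⟨a, ha⟩ := AdicCompletion.of_surjective I P (AdicCompletion.map I g y)
  obtain ⟨e, rfl⟩ := hg a
  have h3 : AdicCompletion.map I g (y - AdicCompletion.of I N e) = 0 := by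
    rw [map_sub, AdicCompletion.map_of, ← ha, sub_self]
  obtain ⟨z, hz⟩ := ((AdicCompletion.map_exact (I := I) hi hex hg) _).mp h3
  obtain ⟨c, rfl⟩ := AdicCompletion.of_surjective I M z
  rw [AdicCompletion.map_of] at hz
  exact ⟨i c + e, by rw [map_add, hz, sub_add_cancel]⟩

/-- A square-zero extension, by a finitely generated kernel, of a complete Noetherian local ring is
complete for the inverse image of the maximal ideal. -/
theorem isAdicComplete [IsNoetherianRing A] [IsLocalRing A]
    [IsAdicComplete (IsLocalRing.maximalIdeal A) A]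
    (f : E →+* A) (hf : Function.Surjective f)
    (hsq : RingHom.ker f ^ 2 = ⊥) (hfg : (RingHom.ker f).FG) :
    IsAdicComplete ((IsLocalRing.maximalIdeal A).comap f) E := by
  classical
  let _ : Algebra E A := f.toAlgebra
  set m := IsLocalRing.maximalIdeal A
  set I := m.comap f with hI
  set K : Submodule E E := RingHom.ker f with hK
  have hImap : I.map (algebraMap E A) = m := Ideal.map_comap_of_surjective f hf m
  have : RingHomSurjective (algebraMap E A) := ⟨hf⟩
  have hAn : IsNoetherian E A :=
    (LinearMap.isNoetherian_iff_of_bijective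
      ({ toFun := id, map_add' := fun _ _ => rfl, map_smul' := fun e a => rfl } : A →ₛₗ[algebraMap E A] A)
      (σ := algebraMap E A) Function.bijective_id).mpr ‹IsNoetherianRing A›
  -- the kernel is a quotient of a free module over A
  obtain ⟨r, k, hk⟩ := Submodule.fg_iff_exists_fin_generating_family.mp hfg
  have hmul : ∀ x ∈ K, ∀ y ∈ K, x * y = 0 := fun x hx y hy => by
    have : x * y ∈ RingHom.ker f ^ 2 := by rw [pow_two]; exact Ideal.mul_mem_mul hx hy
    rwa [hsq] at this
  have hki : ∀ i, k i ∈ K := fun i => hk ▸ Submodule.subset_span ⟨i, rfl⟩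
  let lin : (Fin r → E) →ₗ[E] K := Fintype.linearCombination E (fun i => (⟨k i, hki i⟩ : K))
  let pr : (Fin r → E) →ₗ[E] (Fin r → A) :=
    LinearMap.pi fun i => (Algebra.linearMap E A) ∘ₗ LinearMap.proj i
  have hpr : Function.Surjective pr := fun a => by
    choose e he using hf
    exact ⟨fun i => e (a i), funext fun i => he (a i)⟩
  have hker : LinearMap.ker pr ≤ LinearMap.ker lin := by
    intro x hx
    rw [LinearMap.mem_ker] at hx ⊢
    refine Subtype.ext ?_
    simp only [lin, Fintype.linearCombination_apply, Submodule.coe_sum, Submodule.coe_smul, smul_eq_mul, Submodule.coe_zero]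
    exact Finset.sum_eq_zero fun i _ => hmul _ (congrFun hx i) _ (hki i)
  let ψ : (Fin r → A) →ₗ[E] K :=
    ((LinearMap.ker pr).liftQ lin hker) ∘ₗ (pr.quotKerEquivOfSurjective hpr).symm.toLinearMap
  have hψ : Function.Surjective ψ := by
    rintro ⟨y, hy⟩
    have hy' : y ∈ Submodule.span E (Set.range k) := by rw [hk]; exact hy
    obtain ⟨c, hc⟩ := (Submodule.mem_span_range_iff_exists_fun E).mp hy'
    refine ⟨pr c, Subtype.ext ?_⟩
    simp only [ψ, LinearMap.comp_apply, LinearEquiv.coe_coe]
    rw [show (pr.quotKerEquivOfSurjective hpr).symm (pr c) = Submodule.Quotient.mk c from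
      (pr.quotKerEquivOfSurjective hpr).symm_apply_eq.mpr rfl]
    simpa [lin, Fintype.linearCombination_apply] using hc
  have hKn : IsNoetherian E K := isNoetherian_of_surjective ψ (LinearMap.range_eq_top.mpr hψ)
  have hEn : IsNoetherianRing E :=
    isNoetherian_of_range_eq_ker K.subtype (Algebra.linearMap E A) (by
      rw [Submodule.range_subtype]; rfl)
  have hnil : IsNilpotent (RingHom.ker f) := ⟨2, hsq⟩
  have hjac : I ≤ Ideal.jacobson ⊥ := by
    intro x hx
    refine Ideal.mem_jacobson_bot.mpr fun y => ?_
    refine (IsNilpotent.isUnit_quotient_mk_iff hnil).mp ?_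
    have : IsUnit (f (x * y + 1)) := by
      rw [map_add, map_one, map_mul]
      exact Ideal.mem_jacobson_bot.mp (IsLocalRing.maximalIdeal_le_jacobson ⊥ hx) (f y)
    have h2 := this.map (RingHom.quotientKerEquivOfSurjective hf).symm
    convert h2
    exact ((RingHom.quotientKerEquivOfSurjective hf).symm_apply_eq.mpr rfl).symm
  have hhaus : IsHausdorff I E := IsHausdorff.of_le_jacobson I (M := E) hjac
  have hPA : IsPrecomplete I A := IsPrecomplete.map_algebraMap_iff.mp (by rw [hImap]; infer_instance)
  have hPAr : IsPrecomplete I (Fin r → A) :=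
    IsPrecomplete.map_algebraMap_iff.mp (by rw [hImap]; infer_instance)
  have hPK : IsPrecomplete I K := AdicC27.isPrecomplete_of_surjective ψ hψ
  have hKker : K = LinearMap.ker (Algebra.linearMap E A) := rfl
  have hPQ : IsPrecomplete I (E ⧸ LinearMap.ker (Algebra.linearMap E A)) :=
    AdicC27.isPrecomplete_of_surjective ((Algebra.linearMap E A).quotKerEquivOfSurjective hf).symm.toLinearMap
      ((Algebra.linearMap E A).quotKerEquivOfSurjective hf).symm.surjective
  rw [hKker] at hPK
  have hPE : IsPrecomplete I E := precomplete_middle I (LinearMap.ker (Algebra.linearMap E A)).subtype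
    (LinearMap.ker (Algebra.linearMap E A)).mkQ (Submodule.subtype_injective _)
    (LinearMap.exact_subtype_mkQ _) (Submodule.mkQ_surjective _)
  exact { toIsHausdorff := hhaus, toIsPrecomplete := hPE }

end Groth.Agent.CAlg8.SqZeroComplete
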