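import Groth.Agent.CAlg8.ProjClasses
import Groth.Agent.CAlg9.Bass

/-! Finite projective modules with a free tensor power. -/

set_option autoImplicit false

universe u

open TensorProduct Polynomial

namespace Groth.Agent.CAlg8.StableFree

open ProjClasses

variable {R : Type u} [CommRing R]

/-- A contractible two-periodic complex has isomorphic terms. -/
theorem nonempty_equiv_of_contract {E O : Type u} [AddCommGroup E] [Module R E] [AddCommGroup O] [Module R O]
    (d₁ : E →ₗ[R] O) (d₂ : O →ₗ[R] E) (h₁ : E →ₗ[R] O) (h₂ : O →ₗ[R] E)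
    (hd₁ : d₂ ∘ₗ d₁ = 0) (hd₂ : d₁ ∘ₗ d₂ = 0)
    (hE : d₂ ∘ₗ h₁ + h₂ ∘ₗ d₁ = LinearMap.id) (hO : d₁ ∘ₗ h₂ + h₁ ∘ₗ d₂ = LinearMap.id) :
    Nonempty (E ≃ₗ[R] O) := by
  have a1 : ∀ x, d₂ (d₁ x) = 0 := fun x => LinearMap.congr_fun hd₁ x
  have a2 : ∀ x, d₁ (d₂ x) = 0 := fun x => LinearMap.congr_fun hd₂ x
  have e1 : ∀ x, d₂ (h₁ x) + h₂ (d₁ x) = x := fun x => LinearMap.congr_fun hE x
  have e2 : ∀ x, d₁ (h₂ x) + h₁ (d₂ x) = x := fun x => LinearMap.congr_fun hO x
  have b1 : ∀ x, d₁ (h₂ (d₁ x)) = d₁ x := fun x => by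
    have := e2 (d₁ x); rw [a1, map_zero, add_zero] at this; exact this
  have b2 : ∀ x, d₂ (h₁ (d₂ x)) = d₂ x := fun x => by
    have := e1 (d₂ x); rw [a2, map_zero, add_zero] at this; exact this
  refine ⟨LinearEquiv.ofLinearMap (d₁ + h₁ ∘ₗ d₂ ∘ₗ h₁) (d₂ + h₂ ∘ₗ d₁ ∘ₗ h₂)
    (LinearMap.ext fun x => ?_) (LinearMap.ext fun x => ?_)⟩
  · simp only [LinearMap.comp_apply, LinearMap.add_apply, map_add, LinearMap.id_apply, a2, b1]
    have h0 : d₂ (h₁ (h₂ (d₁ (h₂ x)))) = h₂ (d₁ (h₂ x)) - h₂ (d₁ (h₂ (d₁ (h₂ x)))) := by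
      rw [eq_sub_iff_add_eq]; exact e1 _
    rw [b1, sub_self] at h0
    simp only [h0, b2, map_zero, add_zero, zero_add]
    rw [add_comm]; exact e2 x
  · simp only [LinearMap.comp_apply, LinearMap.add_apply, map_add, LinearMap.id_apply, a1, b2]
    have h0 : d₁ (h₂ (h₁ (d₂ (h₁ x)))) = h₁ (d₂ (h₁ x)) - h₁ (d₂ (h₁ (d₂ (h₁ x)))) := by
      rw [eq_sub_iff_add_eq]; exact e2 _
    rw [b2, sub_self] at h0
    simp only [h0, b1, map_zero, add_zero, zero_add]
    rw [add_comm]; exact e1 x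

variable (P : Type u) [AddCommGroup P] [Module R P] [Module.Finite R P] [Module.Projective R P] (r : ℕ)

/-- Local trivialisations. -/
structure Triv : Type u where
  g : R
  s : (Fin r → R) →ₗ[R] P
  t : P →ₗ[R] (Fin r → R)
  st : s ∘ₗ t = g • LinearMap.id
  ts : t ∘ₗ s = g • LinearMap.id

theorem exists_complex (l : List (Triv (R := R) P r)) :
    ∃ (E O : Type u) (_ : AddCommGroup E) (_ : Module R E) (_ : Module.Finite R E)
      (_ : Module.Projective R E) (_ : AddCommGroup O) (_ : Module R O) (_ : Module.Finite R O)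
      (_ : Module.Projective R O) (d₁ : E →ₗ[R] O) (d₂ : O →ₗ[R] E),
      d₂ ∘ₗ d₁ = 0 ∧ d₁ ∘ₗ d₂ = 0 ∧
      (∀ a ∈ l, ∃ (h₁ : E →ₗ[R] O) (h₂ : O →ₗ[R] E),
        d₂ ∘ₗ h₁ + h₂ ∘ₗ d₁ = a.g • LinearMap.id ∧ d₁ ∘ₗ h₂ + h₁ ∘ₗ d₂ = a.g • LinearMap.id) ∧
      ∃ p q : ℕ[X], ProjClasses.toZ p - ProjClasses.toZ q = (X - Polynomial.C (r : ℤ)) ^ l.length ∧
        ev (cl (R := R) P) p = cl (R := R) E ∧ ev (cl (R := R) P) q = cl (R := R) O := by
  induction l with
  | nil =>
    refine ⟨R, PUnit.{u + 1}, _, _, inferInstance, inferInstance, _, inferInstance, inferInstance,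
      inferInstance, 0, 0, by simp, by simp, by simp, 1, 0, by simp, map_one _, ?_⟩
    rw [map_zero]; rfl
  | cons a l ih =>
    obtain ⟨E, O, _, _, _, _, _, _, _, _, d₁, d₂, hd₁, hd₂, hh, p, q, hpq, hp, hq⟩ := ih
    let D₁ : (E ⊗[R] P) × (O ⊗[R] (Fin r → R)) →ₗ[R] (O ⊗[R] P) × (E ⊗[R] (Fin r → R)) :=
      ((d₁.rTensor P) ∘ₗ LinearMap.fst R _ _ - (a.s.lTensor O) ∘ₗ LinearMap.snd R _ _).prod
        ((d₂.rTensor (Fin r → R)) ∘ₗ LinearMap.snd R _ _)
    let D₂ : (O ⊗[R] P) × (E ⊗[R] (Fin r → R)) →ₗ[R] (E ⊗[R] P) × (O ⊗[R] (Fin r → R)) :=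
      ((d₂.rTensor P) ∘ₗ LinearMap.fst R _ _ + (a.s.lTensor E) ∘ₗ LinearMap.snd R _ _).prod
        ((d₁.rTensor (Fin r → R)) ∘ₗ LinearMap.snd R _ _)
    refine ⟨(E ⊗[R] P) × (O ⊗[R] (Fin r → R)), (O ⊗[R] P) × (E ⊗[R] (Fin r → R)), _, _, inferInstance, inferInstance, _, _,
      inferInstance, inferInstance, D₁, D₂, ?_, ?_, ?_,
      p * X + q * Polynomial.C r, q * X + p * Polynomial.C r, ?_, ?_, ?_⟩
    · have a1 : ∀ x, d₂ (d₁ x) = 0 := fun x => LinearMap.congr_fun hd₁ x
      have a2 : ∀ x, d₁ (d₂ x) = 0 := fun x => LinearMap.congr_fun hd₂ x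
      ext <;> simp [D₁, D₂, a1, a2]
    · have a1 : ∀ x, d₂ (d₁ x) = 0 := fun x => LinearMap.congr_fun hd₁ x
      have a2 : ∀ x, d₁ (d₂ x) = 0 := fun x => LinearMap.congr_fun hd₂ x
      ext <;> simp [D₁, D₂, a1, a2]
    · intro b hb
      rcases List.mem_cons.mp hb with rfl | hb
      · refine ⟨(0 : _ →ₗ[R] _).prod ((b.t.lTensor E) ∘ₗ LinearMap.fst R _ _),
          (0 : _ →ₗ[R] _).prod (-((b.t.lTensor O) ∘ₗ LinearMap.fst R _ _)), ?_, ?_⟩ <;>
        · have s1 : ∀ x, b.s (b.t x) = b.g • x := fun x => LinearMap.congr_fun b.st x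
          have s2 : ∀ x, b.t (b.s x) = b.g • x := fun x => LinearMap.congr_fun b.ts x
          ext <;> simp [D₁, D₂, s1, s2, tmul_smul, smul_tmul']
      · obtain ⟨h₁, h₂, e1, e2⟩ := hh b hb
        refine ⟨(h₁.rTensor P).prodMap (h₂.rTensor (Fin r → R)), (h₂.rTensor P).prodMap (h₁.rTensor (Fin r → R)), ?_, ?_⟩ <;>
        · have c1 : ∀ x, d₂ (h₁ x) + h₂ (d₁ x) = b.g • x := fun x => LinearMap.congr_fun e1 x
          have c2 : ∀ x, d₁ (h₂ x) + h₁ (d₂ x) = b.g • x := fun x => LinearMap.congr_fun e2 x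
          ext <;> simp [D₁, D₂, ← add_tmul, c1, c2, smul_tmul']
    · rw [map_add, map_add, map_mul, map_mul, map_mul, map_mul, List.length_cons, pow_succ, ← hpq]
      simp only [coe_mapRingHom, map_X, map_C]
      rw [show ((Nat.castRingHom ℤ) r) = (r : ℤ) from rfl]
      ring
    · rw [map_add, map_mul, map_mul, hp, hq, cl_prod, cl_tensor, cl_tensor,
        ← natCast_eq]
      simp [ev]
    · rw [map_add, map_mul, map_mul, hp, hq, cl_prod, cl_tensor, cl_tensor, ← natCast_eq]
      simp [ev]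

/-- Trivialisations cover. -/
theorem exists_triv (hrk : ∀ p : PrimeSpectrum R, Module.rankAtStalk (R := R) P p = r) (p : PrimeSpectrum R) :
    ∃ a : Triv (R := R) P r, a.g ∉ p.asIdeal := by
  classical
  set S := p.asIdeal.primeCompl
  let A := Localization.AtPrime p.asIdeal
  let ℓ := LocalizedModule.mkLinearMap S P
  have hfree : Module.Free A (LocalizedModule S P) := Module.free_of_flat_of_isLocalRing
  have : Nontrivial R := p.nontrivial
  let b := Module.finBasisOfFinrankEq A (LocalizedModule S P) (hrk p)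
  choose v hv using fun i => IsLocalizedModule.surj S ℓ (b i)
  let s : (Fin r → R) →ₗ[R] P := Fintype.linearCombination R fun i => (v i).1
  -- surjective near `p`
  have hgen : ∀ m : P, ∃ c ∈ S, c • m ∈ LinearMap.range s := by
    intro m
    have h1 : ℓ m ∈ Submodule.span A (Set.range fun i => ℓ (v i).1) := by
      have h2 : Submodule.span A (Set.range b) ≤ Submodule.span A (Set.range fun i => ℓ (v i).1) := by
        refine Submodule.span_le.mpr ?_
        rintro _ ⟨i, rfl⟩
        have hu : IsUnit (algebraMap R A ((v i).2 : R)) := IsLocalization.map_units A (v i).2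
        have h3 : ℓ (v i).1 = algebraMap R A ((v i).2 : R) • b i := by
          rw [← hv i, algebraMap_smul]; rfl
        rw [SetLike.mem_coe, show b i = (↑hu.unit⁻¹ : A) • ℓ (v i).1 by
          rw [h3, smul_smul, hu.val_inv_mul, one_smul]]
        exact Submodule.smul_mem _ _ (Submodule.subset_span ⟨i, rfl⟩)
      exact h2 (b.mem_span _)
    obtain ⟨c, hc⟩ := (Submodule.mem_span_range_iff_exists_fun A).mp h1
    obtain ⟨⟨k, hk⟩, hck⟩ := IsLocalization.exist_integer_multiples_of_finite (M := S) c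
    choose a ha using hck
    have h4 : ℓ (k • m) = ℓ (s a) := by
      simp only [s, Fintype.linearCombination_apply, map_sum, map_smul]
      rw [← hc, Finset.smul_sum]
      refine Finset.sum_congr rfl fun i _ => ?_
      rw [← algebraMap_smul A (a i), show algebraMap R A (a i) = k • c i from ha i, smul_assoc]
    obtain ⟨⟨c', hc'⟩, hcc⟩ := (IsLocalizedModule.eq_iff_exists S ℓ).mp h4
    exact ⟨c' * k, mul_mem hc' hk, ⟨c' • a, by rw [map_smul, mul_smul]; exact hcc.symm⟩⟩
  obtain ⟨G, hG⟩ := (inferInstance : Module.Finite R P).fg_top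
  choose c hc hcs using hgen
  set g : R := ∏ m ∈ G, c m
  have hgS : g ∈ S := Submonoid.prod_mem _ fun m _ => hc m
  have hrange : ∀ m : P, g • m ∈ LinearMap.range s := fun m => by
    have hm : m ∈ Submodule.span R (G : Set P) := hG ▸ Submodule.mem_top
    induction hm using Submodule.span_induction with
    | mem y hy =>
      simp only [g]
      rw [← Finset.prod_erase_mul G c hy, mul_smul]
      exact Submodule.smul_mem _ _ (hcs y)
    | zero => rw [smul_zero]; exact zero_mem _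
    | add x y _ _ hx hy => rw [smul_add]; exact add_mem hx hy
    | smul a x _ hx => rw [smul_comm]; exact Submodule.smul_mem _ a hx
  obtain ⟨t, ht⟩ := Module.projective_lifting_property s.rangeRestrict
    ((g • LinearMap.id : P →ₗ[R] P).codRestrict (LinearMap.range s) hrange) s.surjective_rangeRestrict
  have hst : s ∘ₗ t = g • LinearMap.id := LinearMap.ext fun x => congrArg Subtype.val (LinearMap.congr_fun ht x)
  -- injective near `p`
  have hker : ∀ w : Fin r → R, s w = 0 → ∃ d ∈ S, d • w = 0 := by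
    intro w hw
    have h1 : ∑ i, (algebraMap R A (w i) * algebraMap R A ((v i).2 : R)) • b i = 0 := by
      rw [show (0 : LocalizedModule S P) = ℓ (s w) by rw [hw, map_zero]]
      simp only [s, Fintype.linearCombination_apply, map_sum, map_smul]
      refine Finset.sum_congr rfl fun i _ => ?_
      rw [← hv i, mul_smul, algebraMap_smul, algebraMap_smul]; rfl
    have h2 : ∀ i, algebraMap R A (w i) = 0 := fun i =>
      ((IsLocalization.map_units A (v i).2).mul_left_eq_zero).mp
        (Fintype.linearIndependent_iff.mp b.linearIndependent _ h1 i)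
    choose d hd using fun i => (IsLocalization.map_eq_zero_iff S A _).mp (h2 i)
    refine ⟨∏ i, (d i : R), Submonoid.prod_mem _ fun i _ => (d i).2, funext fun i => ?_⟩
    rw [Pi.smul_apply, Pi.zero_apply, smul_eq_mul, ← Finset.prod_erase_mul _ _ (Finset.mem_univ i),
      mul_assoc, hd i, mul_zero]
  have hts : ∀ i, s ((t ∘ₗ s - g • LinearMap.id : (Fin r → R) →ₗ[R] _) (Pi.single i 1)) = 0 := fun i => by
    simp only [LinearMap.sub_apply, map_sub, LinearMap.comp_apply, LinearMap.smul_apply, LinearMap.id_apply,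
      map_smul]
    rw [← LinearMap.comp_apply s t, hst, LinearMap.smul_apply, LinearMap.id_apply, sub_self]
  choose d hd hd0 using fun i => hker _ (hts i)
  set e : R := ∏ i, d i
  refine ⟨⟨e * g, s, e • t, ?_, ?_⟩, fun h => (p.isPrime.mem_or_mem h).elim
    (Submonoid.prod_mem S fun i _ => hd i) hgS⟩
  · rw [LinearMap.comp_smul, hst, smul_smul]
  · rw [LinearMap.smul_comp]
    refine sub_eq_zero.mp (LinearMap.pi_ext' fun i => LinearMap.ext_ring ?_)
    have h0 : e • ((t ∘ₗ s - g • LinearMap.id : (Fin r → R) →ₗ[R] _) (Pi.single i 1)) = 0 := by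
      simp only [e]
      rw [← Finset.prod_erase_mul _ d (Finset.mem_univ i), mul_smul, hd0 i, smul_zero]
    simp only [LinearMap.sub_apply, LinearMap.comp_apply, LinearMap.smul_apply, LinearMap.id_apply,
      smul_sub, smul_smul] at h0
    simpa using h0

/-- Rank zero classes are nilpotent. -/
theorem exists_pow_mem (hrk : ∀ p : PrimeSpectrum R, Module.rankAtStalk (R := R) P p = r) :
    ∃ k : ℕ, (X - Polynomial.C (r : ℤ)) ^ k ∈ relIdeal (cl (R := R) P) := by
  classical
  choose a ha using exists_triv (R := R) P r hrk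
  have htop : Ideal.span (Set.range fun p => (a p).g) = ⊤ := by
    by_contra h
    obtain ⟨M, hM, hle⟩ := Ideal.exists_le_maximal _ h
    exact ha ⟨M, hM.isPrime⟩ (hle (Ideal.subset_span ⟨_, rfl⟩))
  obtain ⟨T, hT, hT'⟩ := Ideal.span_eq_top_iff_finite _ |>.mp htop
  choose f hf using fun (x : T) => hT x.2
  let l : List (Triv (R := R) P r) := T.attach.toList.map fun x => a (f x)
  obtain ⟨E, O, _, _, _, _, _, _, _, _, d₁, d₂, hd₁, hd₂, hh, p, q, hpq, hp, hq⟩ := exists_complex (R := R) P r l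
  let J : Ideal R :=
    { carrier := {c | ∃ (h₁ : E →ₗ[R] O) (h₂ : O →ₗ[R] E),
        d₂ ∘ₗ h₁ + h₂ ∘ₗ d₁ = c • LinearMap.id ∧ d₁ ∘ₗ h₂ + h₁ ∘ₗ d₂ = c • LinearMap.id}
      zero_mem' := ⟨0, 0, by simp, by simp⟩
      add_mem' := by
        rintro c c' ⟨h₁, h₂, e1, e2⟩ ⟨k₁, k₂, f1, f2⟩
        refine ⟨h₁ + k₁, h₂ + k₂, ?_, ?_⟩
        · rw [LinearMap.comp_add, LinearMap.add_comp, add_smul, ← e1, ← f1]; abel
        · rw [LinearMap.comp_add, LinearMap.add_comp, add_smul, ← e2, ← f2]; abel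
      smul_mem' := by
        rintro w c ⟨h₁, h₂, e1, e2⟩
        refine ⟨w • h₁, w • h₂, ?_, ?_⟩
        · rw [LinearMap.comp_smul, LinearMap.smul_comp, ← smul_add, e1, smul_eq_mul, mul_smul]
        · rw [LinearMap.comp_smul, LinearMap.smul_comp, ← smul_add, e2, smul_eq_mul, mul_smul] }
  have hJ : (1 : R) ∈ J := by
    refine (hT' ▸ Ideal.span_le.mpr ?_ : (⊤ : Ideal R) ≤ J) Submodule.mem_top
    intro x hx
    have hxl : a (f ⟨x, hx⟩) ∈ l := List.mem_map.mpr ⟨⟨x, hx⟩, by simp, rfl⟩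
    have := hh _ hxl
    rwa [show (a (f ⟨x, hx⟩)).g = x from hf ⟨x, hx⟩] at this
  obtain ⟨h₁, h₂, e1, e2⟩ := hJ
  rw [one_smul] at e1 e2
  obtain ⟨e⟩ := nonempty_equiv_of_contract d₁ d₂ h₁ h₂ hd₁ hd₂ e1 e2
  exact ⟨l.length, p, q, hpq.symm, 0, by rw [hp, hq, cl_congr e]⟩

theorem tensorPower_class (n : ℕ) :
    ∃ (_ : Module.Finite R (TensorPower R n P)) (_ : Module.Projective R (TensorPower R n P)),
      cl (R := R) (TensorPower R n P) = cl (R := R) P ^ n := by
  induction n with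
  | zero =>
    let e : R ≃ₗ[R] TensorPower R 0 P := (PiTensorProduct.isEmptyEquiv (Fin 0)).symm
    have := Module.Finite.equiv e
    have := Module.Projective.of_equiv e
    exact ⟨‹_›, ‹_›, by rw [pow_zero]; exact cl_congr e.symm⟩
  | succ n ih =>
    obtain ⟨_, _, hn⟩ := ih
    let e : TensorPower R n P ⊗[R] P ≃ₗ[R] TensorPower R (n + 1) P :=
      (TensorProduct.congr (LinearEquiv.refl R _) (PiTensorProduct.subsingletonEquiv (0 : Fin 1)).symm).trans
        TensorPower.mulEquiv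
    have := Module.Finite.equiv e
    have := Module.Projective.of_equiv e
    refine ⟨‹_›, ‹_›, ?_⟩
    rw [pow_succ, ← hn, ← cl_congr e]
    rfl

/-- The rank homomorphism at a point. -/
noncomputable def rankHom (p : PrimeSpectrum R) : K R →+* ℕ where
  toFun := Quotient.lift (fun Q : PMod R => Module.rankAtStalk (R := R) Q.M p)
    fun _ _ ⟨e⟩ => congrFun (Module.rankAtStalk_eq_of_equiv e) p
  map_one' := by
    have := p.nontrivial
    show Module.rankAtStalk (R := R) R p = 1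
    rw [Module.rankAtStalk_self]; rfl
  map_zero' := by
    show Module.rankAtStalk (R := R) PUnit.{u + 1} p = 0
    rw [Module.rankAtStalk_eq_zero_of_subsingleton]; rfl
  map_add' x y := by
    induction x using ind with | _ A => induction y using ind with | _ B =>
      show Module.rankAtStalk (R := R) (A × B) p = _
      rw [Module.rankAtStalk_prod]; rfl
  map_mul' x y := by
    induction x using ind with | _ A => induction y using ind with | _ B =>
      show Module.rankAtStalk (R := R) (A ⊗[R] B) p = _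
      rw [Module.rankAtStalk_tensorProduct]; rfl

theorem exists_pi_free [IsNoetherianRing R] (hdim : ringKrullDim R < ⊤) (n : ℕ) (hn : 1 ≤ n)
    (hfree : Module.Free R (TensorPower R n P)) : ∃ N : ℕ, 1 ≤ N ∧ Module.Free R (Fin N → P) := by
  classical
  obtain ⟨_, _, hcl⟩ := tensorPower_class (R := R) P n
  rcases subsingleton_or_nontrivial R with hR | hR
  · have : Subsingleton (Fin 1 → P) := Module.subsingleton R _
    exact ⟨1, le_rfl, Module.Free.of_subsingleton' R _⟩
  set m := Module.finrank R (TensorPower R n P)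
  have hm : cl (R := R) P ^ n = (m : K R) := by
    rw [← hcl, natCast_eq]
    exact cl_congr (Module.finBasis R (TensorPower R n P)).equivFun
  obtain ⟨p₀⟩ : Nonempty (PrimeSpectrum R) := inferInstance
  set r := Module.rankAtStalk (R := R) P p₀
  have hrn : ∀ p : PrimeSpectrum R, Module.rankAtStalk (R := R) P p ^ n = m := fun p => by
    have h1 := congrArg (rankHom p) hm
    rw [map_pow, map_natCast] at h1
    exact h1
  have hrk : ∀ p : PrimeSpectrum R, Module.rankAtStalk (R := R) P p = r := fun p =>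
    Nat.pow_left_injective (by omega) ((hrn p).trans (hrn p₀).symm)
  rcases Nat.eq_zero_or_pos r with hr | hr
  · have hP : Subsingleton P := Module.rankAtStalk_eq_zero_iff_subsingleton.mp (funext fun p => by rw [hrk, hr]; rfl)
    exact ⟨1, le_rfl, Module.Free.of_subsingleton R _⟩
  set a := cl (R := R) P
  set y : ℤ[X] := X - Polynomial.C (r : ℤ) with hy
  obtain ⟨k, hk⟩ := exists_pow_mem (R := R) P r hrk
  have hpn : X ^ n - Polynomial.C (r : ℤ) ^ n ∈ relIdeal a := by
    refine ⟨X ^ n, Polynomial.C (r ^ n), by simp, 0, ?_⟩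
    simp [ev, a, hm, ← (hrn p₀), r, eval₂_natCast, eval₂_pow]
  set c : ℕ := n * r ^ (n - 1)
  obtain ⟨T, hT⟩ : ∃ T : ℤ[X], X ^ n - Polynomial.C (r : ℤ) ^ n = y * (Polynomial.C (c : ℤ) + y * T) := by
    obtain ⟨z, hz⟩ := Polynomial.powAddExpansion (Polynomial.C (r : ℤ)) y n
    refine ⟨z, ?_⟩
    rw [show (X : ℤ[X]) = Polynomial.C (r : ℤ) + y by rw [hy]; ring, hz]
    simp only [c, Nat.cast_mul, Nat.cast_pow, map_mul, map_pow, map_natCast]
    ring
  have hstep : ∀ j : ℕ, ∃ U : ℤ[X], Polynomial.C (c : ℤ) ^ j * y - U * y ^ (j + 1) ∈ relIdeal a := by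
    intro j
    induction j with
    | zero => exact ⟨1, by simp⟩
    | succ j ih =>
      obtain ⟨U, hU⟩ := ih
      refine ⟨-(U * T), ?_⟩
      have h1 := add_mem (Ideal.mul_mem_left _ (Polynomial.C (c : ℤ)) hU)
        (Ideal.mul_mem_left (relIdeal a) (U * y ^ j) hpn)
      rw [hT] at h1
      convert h1 using 1
      ring
  obtain ⟨U, hU⟩ := hstep k
  obtain ⟨d, hd⟩ : ∃ d : ℕ, ringKrullDim R ≤ d := by
    generalize hD : ringKrullDim R = D at hdim
    induction D using WithBot.recBotCoe with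
    | bot => exact ⟨0, bot_le⟩
    | coe e =>
      induction e using ENat.recTopCoe with
      | top => exact absurd hdim (lt_irrefl _)
      | coe e => exact ⟨e, le_rfl⟩
  set N : ℕ := (d + 1) * c ^ k
  have hc0 : 0 < c := Nat.mul_pos (by omega) (pow_pos hr _)
  have hN0 : d + 1 ≤ N := Nat.le_mul_of_pos_right _ (pow_pos hc0 _)
  have hN : ProjClasses.toZ (Polynomial.C N * X) - ProjClasses.toZ (Polynomial.C (N * r)) ∈ relIdeal a := by
    have h2 : Polynomial.C (c : ℤ) ^ k * y ∈ relIdeal a := by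
      have := add_mem hU (Ideal.mul_mem_left _ (U * y) hk)
      convert this using 1
      ring
    have := Ideal.mul_mem_left (relIdeal a) (Polynomial.C ((d + 1 : ℕ) : ℤ)) h2
    convert this using 1
    simp only [N, hy, map_mul, map_pow, map_natCast, Nat.cast_mul, Nat.cast_pow, Nat.cast_add, Nat.cast_one,
      map_add, map_one]
    simp [ProjClasses.toZ]
    ring
  obtain ⟨x, hx⟩ := sEq_of_mem a hN
  obtain ⟨x', m', hxm⟩ := exists_add_eq_natCast x
  have hfin : cl (R := R) (Fin N → P) + (m' : K R) = ((N * r : ℕ) : K R) + (m' : K R) := by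
    rw [cl_pi, ← hxm, ← add_assoc, ← add_assoc]
    congr 1
    simpa [ev, a] using hx
  rw [natCast_eq, natCast_eq, ← cl_prod, ← cl_prod, cl_eq_cl_iff] at hfin
  obtain ⟨e⟩ := hfin
  have hrk' : ∀ p : PrimeSpectrum R, Module.rankAtStalk (R := R) (Fin N → P) p = N * r := fun p => by
    change rankHom p (cl (Fin N → P)) = _
    rw [cl_pi, map_mul, map_natCast]
    exact congrArg _ (hrk p)
  obtain ⟨e'⟩ := CAlg9.Bass.cancel (M := Fin N → P) (N := Fin (N * r) → R) d hd m' (N * r)
    (lt_of_lt_of_le (Nat.lt_succ_self d) (hN0.trans (Nat.le_mul_of_pos_right _ hr))) hrk' e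
  exact ⟨N, le_trans (by omega) hN0, Module.Free.of_equiv e'.symm⟩

end Groth.Agent.CAlg8.StableFree
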