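import Mathlib
import Groth.Prelude.Def_HTop2
import Groth.Agent.CAlg8.InvertibleIdeal

/-! Traverso–Swan over a local ring: invertible `R[X]`-modules over seminormal local `R` are free. -/

set_option autoImplicit false

universe u

open Polynomial TensorProduct

namespace Groth.Agent.CAlg8.Swan

variable {ι : Type} [Fintype ι]

/-- A rank one idempotent matrix over `A[X]` normalised at `i₀`. -/
structure Mat {A : Type*} [CommRing A] (i₀ : ι) (E : ι → ι → A[X]) : Prop where
  rel : ∀ i j k l, E i j * E k l = E i l * E k j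
  trace : ∑ i, E i i = 1
  base : (E i₀ i₀).coeff 0 = 1

/-- A factorisation of such a matrix. -/
structure Fac {A : Type*} [CommRing A] (i₀ : ι) (E : ι → ι → A[X]) (f g : ι → A[X]) : Prop where
  eq : ∀ i j, E i j = f i * g j
  base : (f i₀).coeff 0 = 1

omit [Fintype ι] in
theorem Fac.map {A T : Type*} [CommRing A] [CommRing T] {i₀ : ι} {E : ι → ι → A[X]} {f g : ι → A[X]}
    (h : Fac i₀ E f g) (φ : A →+* T) :
    Fac i₀ (fun i j => (E i j).map φ) (fun i => (f i).map φ) (fun i => (g i).map φ) :=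
  ⟨fun i j => by rw [h.eq, Polynomial.map_mul], by rw [coeff_map, h.base, map_one]⟩

theorem Mat.map {A T : Type*} [CommRing A] [CommRing T] {i₀ : ι} {E : ι → ι → A[X]}
    (h : Mat i₀ E) (φ : A →+* T) : Mat i₀ (fun i j => (E i j).map φ) :=
  ⟨fun i j k l => by rw [← Polynomial.map_mul, h.rel, Polynomial.map_mul],
    by rw [← Polynomial.map_sum, h.trace, Polynomial.map_one],
    by rw [coeff_map, h.base, map_one]⟩

theorem exists_fac_field {K : Type*} [Field K] {i₀ : ι} {E : ι → ι → K[X]} (hE : Mat i₀ E) :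
    ∃ f g, Fac i₀ E f g := by
  classical
  let v : ι → K[X] := fun i => E i i₀
  let I : Ideal K[X] := Ideal.span (Set.range v)
  obtain ⟨d, hd⟩ : ∃ d, I = Ideal.span {d} := ⟨_, (Ideal.span_singleton_generator I).symm⟩
  have hdvd : ∀ i, ∃ c, c * d = v i := fun i =>
    Ideal.mem_span_singleton'.mp (hd ▸ Ideal.subset_span ⟨i, rfl⟩)
  choose f hf using hdvd
  have hd0 : d ≠ 0 := fun h => by
    have := congrArg (fun p => p.coeff 0) (hf i₀)
    simp [h, v, hE.base] at this
  obtain ⟨a, ha⟩ := (Ideal.mem_span_range_iff_exists_fun (R := K[X])).mp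
    (show d ∈ I from hd ▸ Ideal.mem_span_singleton_self d)
  have ha' : ∑ i, a i * f i = 1 := mul_right_cancel₀ hd0 (by
    rw [Finset.sum_mul, one_mul]
    exact (Finset.sum_congr rfl fun i _ => by rw [mul_assoc, hf]).trans ha)
  have hswap : ∀ i j k, f k * E i j = f i * E k j := fun i j k => mul_right_cancel₀ hd0 (by
    have h1 := hE.rel k i₀ i j
    linear_combination h1 + E i j * hf k - E k j * hf i)
  let g : ι → K[X] := fun j => ∑ i, a i * E i j
  have hfg : ∀ i j, E i j = f i * g j := fun i j => by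
    calc E i j = (∑ k, a k * f k) * E i j := by rw [ha', one_mul]
      _ = f i * g j := by
        rw [Finset.sum_mul, Finset.mul_sum]
        exact Finset.sum_congr rfl fun k _ => by linear_combination a k * hswap i j k
  have h00 : (f i₀).coeff 0 * (g i₀).coeff 0 = 1 := by rw [← mul_coeff_zero, ← hfg, hE.base]
  refine ⟨fun i => C ((g i₀).coeff 0) * f i, fun j => C ((f i₀).coeff 0) * g j, fun i j => ?_, ?_⟩
  · rw [hfg i j, show C ((g i₀).coeff 0) * f i * (C ((f i₀).coeff 0) * g j) =
      C ((f i₀).coeff 0 * (g i₀).coeff 0) * (f i * g j) by rw [map_mul]; ring, h00, map_one, one_mul]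
  · rw [coeff_C_mul, mul_comm, h00]

theorem Fac.unique {T : Type*} [CommRing T] [IsReduced T] {i₀ : ι} {E : ι → ι → T[X]} (hE : Mat i₀ E)
    {f g f' g' : ι → T[X]} (h : Fac i₀ E f g) (h' : Fac i₀ E f' g') : f' = f ∧ g' = g := by
  set l := ∑ j, g j * f' j
  set m := ∑ j, g' j * f j
  have h1 : ∀ {f g : ι → T[X]}, Fac i₀ E f g → ∑ j, f j * g j = 1 := fun {f g} hh => by
    rw [← hE.trace]; exact Finset.sum_congr rfl fun j _ => (hh.eq j j).symm
  have hl : ∀ i, f' i = f i * l := fun i => by
    calc f' i = f' i * ∑ j, f' j * g' j := by rw [h1 h', mul_one]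
      _ = f i * l := by
        rw [Finset.mul_sum, Finset.mul_sum]
        exact Finset.sum_congr rfl fun j _ => by
          linear_combination (f' j) * ((h'.eq i j).symm.trans (h.eq i j))
  have hm : ∀ i, f i = f' i * m := fun i => by
    calc f i = f i * ∑ j, f j * g j := by rw [h1 h, mul_one]
      _ = f' i * m := by
        rw [Finset.mul_sum, Finset.mul_sum]
        exact Finset.sum_congr rfl fun j _ => by
          linear_combination (f j) * ((h.eq i j).symm.trans (h'.eq i j))
  have hu : l * m = 1 := by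
    calc l * m = (∑ j, f j * g j) * (l * m) := by rw [h1 h, one_mul]
      _ = ∑ j, f j * g j := by
        rw [Finset.sum_mul]
        exact Finset.sum_congr rfl fun j _ => by rw [mul_right_comm, ← mul_assoc, ← hl, ← hm]
      _ = 1 := h1 h
  have hlC : l = C (l.coeff 0) := by
    obtain ⟨-, hn⟩ := isUnit_iff_coeff_isUnit_isNilpotent.mp (IsUnit.of_mul_eq_one m hu)
    refine Polynomial.ext fun k => ?_
    rcases eq_or_ne k 0 with rfl | hk
    · rw [coeff_C_zero]
    · rw [coeff_C, if_neg hk, (hn k hk).eq_zero]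
  have hl1 : l = 1 := by
    have := congrArg (fun p => p.coeff 0) (hl i₀)
    simp only [mul_coeff_zero, h.base, h'.base, one_mul] at this
    rw [hlC, ← this, map_one]
  have hf : f' = f := funext fun i => by rw [hl i, hl1, mul_one]
  refine ⟨hf, funext fun j => ?_⟩
  subst hf
  calc g' j = (∑ i, f' i * g' i) * g' j := by rw [h1 h', one_mul]
    _ = (∑ i, g' i * (f' i * g' j)) := by
      rw [Finset.sum_mul]; exact Finset.sum_congr rfl fun i _ => by ring
    _ = (∑ i, g' i * (f' i * g j)) := Finset.sum_congr rfl fun i _ => by rw [← h'.eq, h.eq]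
    _ = (∑ i, f' i * g' i) * g j := by
      rw [Finset.sum_mul]; exact Finset.sum_congr rfl fun i _ => by ring
    _ = g j := by rw [h1 h', one_mul]

variable {R : Type u} [CommRing R]

theorem exists_fac_domain (p : PrimeSpectrum R) {i₀ : ι} {E : ι → ι → R[X]} (hE : Mat i₀ E) :
    ∃ f g, Fac i₀ (fun i j => (E i j).map (algebraMap R (p.asIdeal.ResidueField))) f g :=
  exists_fac_field (hE.map _)

/-- A finite reduced extension of a seminormal ring carrying a factorisation and generated by its
coefficients is trivial. -/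
theorem eq_bot_of_fac (hsn : HTop.IsSeminormalRing R) {A : Type u} [CommRing A] [Algebra R A]
    [IsReduced A] [hfinR : Module.Finite R A] (hinj' : Function.Injective (algebraMap R A)) {i₀ : ι}
    {E : ι → ι → R[X]} (hE : Mat i₀ E) {F' G' : ι → A[X]}
    (hFac' : Fac i₀ (fun i j => (E i j).map (algebraMap R A)) F' G')
    (hgen : ∀ S : Subalgebra R A, (∀ i k, (F' i).coeff k ∈ S ∧ (G' i).coeff k ∈ S) → S = ⊤) :
    (⊥ : Subalgebra R A) = ⊤ := by
  classical
  let Cc : Ideal A :=
    { carrier := {x | ∀ z : A, x * z ∈ (⊥ : Subalgebra R A)}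
      add_mem' := fun hx hy z => by rw [add_mul]; exact add_mem (hx z) (hy z)
      zero_mem' := fun z => by rw [zero_mul]; exact zero_mem _
      smul_mem' := fun c x hx z => by
        rw [smul_eq_mul, show c * x * z = x * (c * z) by ring]; exact hx _ }
  have hsq : ∀ y : A, y ^ 2 ∈ (⊥ : Subalgebra R A) → y ^ 3 ∈ (⊥ : Subalgebra R A) →
      y ∈ (⊥ : Subalgebra R A) := by
    intro y h2 h3
    obtain ⟨a, ha⟩ := Algebra.mem_bot.mp h2
    obtain ⟨b, hb⟩ := Algebra.mem_bot.mp h3
    obtain ⟨c, ⟨hc2, hc3⟩, -⟩ := hsn a b (hinj' (by rw [map_pow, map_pow, ha, hb]; ring))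
    refine Algebra.mem_bot.mpr ⟨c, (sub_eq_zero.mp (IsReduced.eq_zero _ ⟨3, ?_⟩)).symm⟩
    rw [hc2, map_pow] at ha
    rw [hc3, map_pow] at hb
    linear_combination (3 * y + 3 * algebraMap R A c) * ha - 4 * hb
  have hrad : ∀ (x : A) (n : ℕ), x ^ n ∈ Cc → x ∈ Cc := by
    intro x n
    induction n using Nat.strong_induction_on with
    | _ n ih =>
      intro hn
      rcases n with _ | _ | n
      · exact fun z => by simpa using hn (x * z)
      · simpa using hn
      refine ih (n + 1) (by omega) fun z => hsq _ ?_ ?_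
      · rw [mul_pow, ← pow_mul, show (n + 1) * 2 = (n + 2) + n by ring, pow_add, mul_assoc]
        exact hn _
      · rw [mul_pow, ← pow_mul, show (n + 1) * 3 = (n + 2) + (2 * n + 1) by ring, pow_add, mul_assoc]
        exact hn _
  by_contra hne
  have hC1 : Cc.comap (algebraMap R A) ≠ ⊤ := fun h => hne <| by
    refine eq_top_iff.mpr fun z _ => ?_
    have h1 : algebraMap R A 1 ∈ Cc := Ideal.mem_comap.mp (h ▸ Submodule.mem_top)
    rw [map_one] at h1
    simpa using h1 z
  obtain ⟨M, hM, hle⟩ := Ideal.exists_le_maximal _ hC1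
  obtain ⟨q, hq, -⟩ := Ideal.exists_minimalPrimes_le (I := Cc.comap (algebraMap R A)) (J := M) hle
  have hqp : q.IsPrime := hq.1.1
  let Q := A ⧸ Cc
  have hQred : IsReduced Q := (Ideal.isRadical_iff_quotient_reduced Cc).mp fun x ⟨n, hn⟩ => hrad x n hn
  let T := Localization (Algebra.algebraMapSubmonoid Q q.primeCompl)
  have hTred : IsReduced T := inferInstance
  have hS : ∀ s ∈ q.primeCompl, IsUnit (algebraMap Q T (algebraMap R Q s)) := fun s hs =>
    IsLocalization.map_units T (⟨_, ⟨s, hs, rfl⟩⟩ : Algebra.algebraMapSubmonoid Q q.primeCompl)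
  have hq0 : ∀ r ∈ q, algebraMap Q T (algebraMap R Q r) = 0 := by
    intro r hr
    obtain ⟨s, hs, n, hsr⟩ : ∃ s ∉ q, ∃ n : ℕ, s * r ^ n ∈ Cc.comap (algebraMap R A) := by
      let W : Submonoid R := q.primeCompl ⊔ Submonoid.powers r
      by_contra hcon
      push Not at hcon
      obtain ⟨P, hP, hIP, hPW⟩ := Ideal.exists_le_prime_disjoint (I := Cc.comap (algebraMap R A)) W (by
        rw [Set.disjoint_left]
        intro x hx hxW
        obtain ⟨s, hs, _, ⟨n, rfl⟩, rfl⟩ := Submonoid.mem_sup.mp hxW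
        exact hcon s hs n hx)
      have hPq : P ≤ q := fun x hx => by
        by_contra hxq
        exact Set.disjoint_left.mp hPW hx (Submonoid.mem_sup_left hxq)
      exact Set.disjoint_left.mp hPW (hq.2 ⟨hP, hIP⟩ hPq hr)
        (Submonoid.mem_sup_right (Submonoid.mem_powers r))
    have h1 : algebraMap Q T (algebraMap R Q (s * r ^ n)) = 0 := by
      rw [IsScalarTower.algebraMap_apply R A Q, Ideal.Quotient.algebraMap_eq,
        Ideal.Quotient.eq_zero_iff_mem.mpr (Ideal.mem_comap.mp hsr), map_zero]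
    rw [map_mul, map_mul, map_pow, map_pow, (hS s hs).mul_right_eq_zero] at h1
    exact IsReduced.eq_zero _ ⟨n, h1⟩
  let χ : R ⧸ q →+* T := Ideal.Quotient.lift q ((algebraMap Q T).comp (algebraMap R Q)) hq0
  have hχ : ∀ y : nonZeroDivisors (R ⧸ q), IsUnit (χ y) := by
    rintro ⟨y, hy⟩
    obtain ⟨s, rfl⟩ := Ideal.Quotient.mk_surjective y
    exact hS s fun hs => nonZeroDivisors.ne_zero hy (Ideal.Quotient.eq_zero_iff_mem.mpr hs)
  let κ : q.ResidueField →+* T := IsLocalization.lift hχ
  have hκ : κ.comp (algebraMap R q.ResidueField) = (algebraMap Q T).comp (algebraMap R Q) := by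
    refine RingHom.ext fun r => ?_
    rw [RingHom.comp_apply, IsScalarTower.algebraMap_apply R (R ⧸ q) q.ResidueField]
    exact IsLocalization.lift_eq hχ _
  obtain ⟨f', g', hfg'⟩ := exists_fac_domain (i₀ := i₀) ⟨q, hqp⟩ hE
  let τ : A →+* T := (algebraMap Q T).comp (Ideal.Quotient.mk Cc)
  have hτ : τ.comp (algebraMap R A) = κ.comp (algebraMap R q.ResidueField) := hκ.symm
  obtain ⟨e1, e2⟩ := Fac.unique (hE.map (τ.comp (algebraMap R A)))
    (f := fun i => (f' i).map κ) (g := fun i => (g' i).map κ)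
    (f' := fun i => (F' i).map τ) (g' := fun i => (G' i).map τ)
    (by
      have := hfg'.map κ
      simp only [Polynomial.map_map, ← hτ] at this
      exact this)
    (by
      have := hFac'.map τ
      simp only [Polynomial.map_map] at this
      exact this)
  let S' : Subalgebra R A :=
    { carrier := {x | ∃ s ∉ q, algebraMap R A s * x ∈ (⊥ : Subalgebra R A)}
      mul_mem' := fun {x y} ⟨s, hs, hx⟩ ⟨s', hs', hy⟩ => ⟨s * s', fun h => (hqp.mem_or_mem h).elim hs hs', by
        rw [map_mul, mul_mul_mul_comm]; exact mul_mem hx hy⟩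
      add_mem' := fun {x y} ⟨s, hs, hx⟩ ⟨s', hs', hy⟩ => ⟨s * s', fun h => (hqp.mem_or_mem h).elim hs hs', by
        rw [map_mul, mul_add]
        refine add_mem ?_ ?_
        · rw [mul_right_comm]; exact mul_mem hx (Algebra.mem_bot.mpr ⟨s', rfl⟩)
        · rw [mul_assoc]; exact mul_mem (Algebra.mem_bot.mpr ⟨s, rfl⟩) hy⟩
      algebraMap_mem' := fun r => ⟨1, fun h => hqp.ne_top ((Ideal.eq_top_iff_one _).mpr h), by
        rw [map_one, one_mul]; exact Algebra.mem_bot.mpr ⟨r, rfl⟩⟩ }
  have hcoef : ∀ a : A, (∃ z : q.ResidueField, τ a = κ z) → a ∈ S' := by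
    rintro a ⟨z, hz⟩
    obtain ⟨⟨y, ⟨w, hw⟩⟩, hyw⟩ := IsLocalization.surj (nonZeroDivisors (R ⧸ q)) z
    obtain ⟨r, rfl⟩ := Ideal.Quotient.mk_surjective y
    obtain ⟨s, rfl⟩ := Ideal.Quotient.mk_surjective w
    have h1 := congrArg κ hyw
    rw [map_mul, ← hz] at h1
    change τ a * κ (algebraMap (R ⧸ q) _ (Ideal.Quotient.mk q s)) =
      κ (algebraMap (R ⧸ q) _ (Ideal.Quotient.mk q r)) at h1
    simp only [← Ideal.Quotient.algebraMap_eq, ← IsScalarTower.algebraMap_apply] at h1
    rw [← RingHom.comp_apply κ, ← RingHom.comp_apply κ, ← hτ] at h1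
    simp only [τ, RingHom.comp_apply] at h1
    rw [← map_mul, ← map_mul] at h1
    obtain ⟨⟨_, ⟨s', hs', rfl⟩⟩, hc⟩ := (IsLocalization.eq_iff_exists
      (Algebra.algebraMapSubmonoid Q q.primeCompl) T).mp h1
    refine ⟨s' * s, fun h => (hqp.mem_or_mem h).elim hs' fun hs =>
      nonZeroDivisors.ne_zero hw (Ideal.Quotient.eq_zero_iff_mem.mpr hs), ?_⟩
    simp only at hc
    rw [IsScalarTower.algebraMap_apply R A Q, Ideal.Quotient.algebraMap_eq, ← map_mul, ← map_mul,
      Ideal.Quotient.eq] at hc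
    have h2 := hc 1
    rw [mul_one] at h2
    have e : algebraMap R A (s' * s) * a =
        (algebraMap R A s' * (a * algebraMap R A s) - algebraMap R A s' * algebraMap R A r) +
          algebraMap R A (s' * r) := by
      simp only [map_mul]; ring
    rw [e]
    exact add_mem h2 (Algebra.mem_bot.mpr ⟨_, rfl⟩)
  have hS' : S' = ⊤ := by
    refine hgen S' fun i k => ⟨hcoef _ ⟨(f' i).coeff k, ?_⟩, hcoef _ ⟨(g' i).coeff k, ?_⟩⟩
    · rw [← coeff_map, ← coeff_map, congrFun e1 i]
    · rw [← coeff_map, ← coeff_map, congrFun e2 i]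
  obtain ⟨G0, hG0⟩ := hfinR.fg_top
  choose s hs hs' using fun z : G0 => (show (z : A) ∈ S' by rw [hS']; trivial)
  have hprod : algebraMap R A (∏ z, s z) ∈ Cc := by
    intro x
    have hx : x ∈ Submodule.span R (G0 : Set A) := hG0 ▸ Submodule.mem_top
    induction hx using Submodule.span_induction with
    | mem y hy =>
      rw [← Finset.prod_erase_mul _ s (Finset.mem_univ ⟨y, hy⟩), map_mul, mul_assoc]
      exact mul_mem (Algebra.mem_bot.mpr ⟨_, rfl⟩) (hs' ⟨y, hy⟩)
    | zero => rw [mul_zero]; exact zero_mem _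
    | add a b _ _ ha hb => rw [mul_add]; exact add_mem ha hb
    | smul r a _ ha => rw [mul_smul_comm]; exact Subalgebra.smul_mem _ ha r
  obtain ⟨z, -, hz⟩ := Ideal.IsPrime.prod_mem_iff.mp (hq.1.2 hprod)
  exact hs z hz

/-- Seminormal rings: rank one idempotent matrices over `R[X]` factor. -/
theorem exists_fac (hsn : HTop.IsSeminormalRing R) {i₀ : ι} {E : ι → ι → R[X]} (hE : Mat i₀ E) :
    ∃ f g, Fac i₀ E f g := by
  classical
  have hred : IsReduced R := isReduced_iff_pow_one_lt 2 one_lt_two |>.mpr fun x hx => by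
    obtain ⟨a, -, ha⟩ := hsn 0 0 (by ring)
    have h1 := ha x ⟨hx.symm, by rw [pow_succ, hx, zero_mul]⟩
    have h2 := ha 0 ⟨by ring, by ring⟩
    rw [h1, h2]
  let P := ∀ p : PrimeSpectrum R, p.asIdeal.ResidueField
  have hinj : Function.Injective (algebraMap R P) := by
    refine (injective_iff_map_eq_zero _).mpr fun r hr => ?_
    refine (show IsNilpotent r from ?_).eq_zero
    rw [nilpotent_iff_mem_prime]
    intro J hJ
    have := congrFun hr ⟨J, hJ⟩
    rwa [Pi.algebraMap_apply, Pi.zero_apply, ← RingHom.mem_ker, Ideal.ker_algebraMap_residueField] at this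
  choose fp gp hp using fun p => exists_fac_domain (ι := ι) (i₀ := i₀) p hE
  obtain ⟨N, hN⟩ : ∃ N, ∀ i j, (E i j).natDegree ≤ N :=
    ⟨Finset.univ.sup fun x : ι × ι => (E x.1 x.2).natDegree, fun i j =>
      Finset.le_sup (f := fun x : ι × ι => (E x.1 x.2).natDegree) (Finset.mem_univ (i, j))⟩
  have hdeg : ∀ p i, (fp p i).natDegree ≤ N ∧ (gp p i).natDegree ≤ N := by
    intro p i
    have h0 : ∀ q r : (p.asIdeal.ResidueField)[X], r.coeff 0 ≠ 0 →
        (q * r).natDegree ≤ N → q.natDegree ≤ N := fun q r hr hq => by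
      rcases eq_or_ne q 0 with rfl | hq0
      · simp
      rw [natDegree_mul hq0 (fun h => hr (by simp [h]))] at hq
      omega
    have hg0 : (gp p i₀).coeff 0 = 1 := by
      have := congrArg (fun q => q.coeff 0) ((hp p).eq i₀ i₀)
      simpa [coeff_map, hE.base, (hp p).base, mul_coeff_zero] using this.symm
    refine ⟨h0 _ (gp p i₀) (by simp [hg0]) ?_, h0 _ (fp p i₀) (by simp [(hp p).base]) ?_⟩
    · rw [← (hp p).eq]; exact natDegree_map_le.trans (hN _ _)
    · rw [mul_comm, ← (hp p).eq]; exact natDegree_map_le.trans (hN _ _)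
  let mk : (∀ p : PrimeSpectrum R, (p.asIdeal.ResidueField)[X]) → P[X] := fun q =>
    ∑ k ∈ Finset.range (N + 1), C (fun p => (q p).coeff k : P) * X ^ k
  have hmk : ∀ q : ∀ p : PrimeSpectrum R, (p.asIdeal.ResidueField)[X], (∀ p, (q p).natDegree ≤ N) →
      ∀ p, (mk q).map (Pi.evalRingHom (fun p : PrimeSpectrum R => p.asIdeal.ResidueField) p) = q p := by
    intro q hq p
    simp only [mk, Polynomial.map_sum, Polynomial.map_mul, map_C, Polynomial.map_pow, map_X,
      Pi.evalRingHom_apply]
    exact ((q p).as_sum_range_C_mul_X_pow' (Nat.lt_succ_of_le (hq p))).symm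
  let F : ι → P[X] := fun i => mk fun p => fp p i
  let G : ι → P[X] := fun i => mk fun p => gp p i
  have hFG : Fac i₀ (fun i j => (E i j).map (algebraMap R P)) F G := by
    refine ⟨fun i j => Polynomial.ext fun k => funext fun p => ?_, funext fun p => ?_⟩
    · have h1 := congrArg (fun q => q.coeff k) ((hp p).eq i j)
      rw [← hmk _ (fun p => (hdeg p i).1) p, ← hmk _ (fun p => (hdeg p j).2) p,
        ← Polynomial.map_mul] at h1
      rw [coeff_map, coeff_map] at h1
      rw [coeff_map]
      exact h1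
    · have h1 := (hp p).base
      rw [← hmk _ (fun p => (hdeg p i₀).1) p] at h1
      rw [coeff_map] at h1
      exact h1
  -- the coefficients are integral
  have hdegFG : ∀ q, (mk q).natDegree ≤ N := fun q => by
    refine natDegree_sum_le_of_forall_le _ _ fun k hk => (natDegree_C_mul_X_pow_le _ _).trans ?_
    exact Nat.lt_succ_iff.mp (Finset.mem_range.mp hk)
  have hint0 : ∀ k, IsIntegral R ((F i₀).coeff k) ∧ IsIntegral R ((G i₀).coeff k) := by
    intro k
    rcases subsingleton_or_nontrivial P with hP | hP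
    · exact ⟨by rw [Subsingleton.elim ((F i₀).coeff k) 0]; exact isIntegral_zero,
        by rw [Subsingleton.elim ((G i₀).coeff k) 0]; exact isIntegral_zero⟩
    have hRn : Nontrivial R := (algebraMap R P).domain_nontrivial
    have hG0 : (G i₀).coeff 0 = 1 := by
      have := congrArg (fun q => q.coeff 0) (hFG.eq i₀ i₀)
      simpa [coeff_map, hE.base, hFG.base, mul_coeff_zero] using this.symm
    have hmon : ∀ (M : ℕ) {A : Type u} [CommRing A] (q : A[X]), q.natDegree ≤ M → q.coeff 0 = 1 →
        (q.reflect M).Monic := fun M {A} _ q hq h0 => by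
      refine monic_of_natDegree_le_of_coeff_eq_one M (natDegree_le_iff_coeff_eq_zero.mpr fun i hi => ?_) ?_
      · rw [coeff_reflect, revAt_eq_self_of_lt hi, coeff_eq_zero_of_natDegree_lt (lt_of_le_of_lt hq hi)]
      · rw [coeff_reflect, revAt_le le_rfl, Nat.sub_self, h0]
    have hEm := hmon (N + N) (E i₀ i₀) ((hN _ _).trans (Nat.le_add_right _ _)) hE.base
    have heq : (E i₀ i₀ |>.reflect (N + N)).map (algebraMap R P) =
        (F i₀).reflect N * (G i₀).reflect N := by
      rw [← reflect_mul _ _ (hdegFG _) (hdegFG _), ← hFG.eq]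
      exact Polynomial.ext fun i => by simp [coeff_reflect, coeff_map]
    have hc : ∀ q : P[X], q.natDegree ≤ N → q.coeff 0 = 1 →
        q.reflect N ∣ (E i₀ i₀ |>.reflect (N + N)).map (algebraMap R P) → IsIntegral R (q.coeff k) := by
      intro q hq h0 hd
      have := Polynomial.isIntegral_coeff_of_dvd _ _ hEm (hmon N q hq h0) hd (revAt N k)
      rwa [coeff_reflect, revAt_invol] at this
    exact ⟨hc _ (hdegFG _) hFG.base (heq ▸ dvd_mul_right _ _),
      hc _ (hdegFG _) hG0 (heq ▸ dvd_mul_left _ _)⟩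
  have hint : ∀ i k, IsIntegral R ((F i).coeff k) ∧ IsIntegral R ((G i).coeff k) := by
    have key : ∀ a b : P[X], b.coeff 0 = 1 → (∀ k, IsIntegral R (b.coeff k)) →
        (∀ k, IsIntegral R ((a * b).coeff k)) → ∀ k, IsIntegral R (a.coeff k) := by
      intro a b hb0 hb hab k
      induction k using Nat.strong_induction_on with
      | _ k ih =>
        have h1 := hab k
        rw [Polynomial.coeff_mul, Finset.Nat.sum_antidiagonal_eq_sum_range_succ_mk,
          Finset.sum_range_succ, Nat.sub_self, hb0, mul_one] at h1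
        have h2 : IsIntegral R (∑ i ∈ Finset.range k, a.coeff i * b.coeff (k - i)) :=
          IsIntegral.sum _ fun i hi => (ih i (Finset.mem_range.mp hi)).mul (hb _)
        simpa using h1.sub h2
    have hG0 : (G i₀).coeff 0 = 1 := by
      have := congrArg (fun q => q.coeff 0) (hFG.eq i₀ i₀)
      simpa [coeff_map, hE.base, hFG.base, mul_coeff_zero] using this.symm
    have hE' : ∀ i j k, IsIntegral R ((F i * G j).coeff k) := fun i j k => by
      rw [← hFG.eq, coeff_map]; exact isIntegral_algebraMap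
    exact fun i k => ⟨key _ _ hG0 (fun k => (hint0 k).2) (hE' i i₀) k,
      key _ _ hFG.base (fun k => (hint0 k).1) (fun k => by rw [mul_comm]; exact hE' i₀ i k) k⟩
  let gen : Finset P := (Finset.univ.biUnion fun i => (Finset.range (N + 1)).image fun k => (F i).coeff k) ∪
    (Finset.univ.biUnion fun i => (Finset.range (N + 1)).image fun k => (G i).coeff k)
  let R' : Subalgebra R P := Algebra.adjoin R (gen : Set P)
  have hmem : ∀ i k, (F i).coeff k ∈ R' ∧ (G i).coeff k ∈ R' := by
    intro i k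
    rcases Nat.lt_or_ge k (N + 1) with hk | hk
    · exact ⟨Algebra.subset_adjoin (Finset.mem_union_left _ (Finset.mem_biUnion.mpr
          ⟨i, Finset.mem_univ _, Finset.mem_image_of_mem _ (Finset.mem_range.mpr hk)⟩)),
        Algebra.subset_adjoin (Finset.mem_union_right _ (Finset.mem_biUnion.mpr
          ⟨i, Finset.mem_univ _, Finset.mem_image_of_mem _ (Finset.mem_range.mpr hk)⟩))⟩
    · constructor
      · rw [coeff_eq_zero_of_natDegree_lt (p := F i) (lt_of_le_of_lt (hdegFG _) (by omega))]; exact zero_mem _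
      · rw [coeff_eq_zero_of_natDegree_lt (p := G i) (lt_of_le_of_lt (hdegFG _) (by omega))]; exact zero_mem _
  have hfinR : Module.Finite R R' := ⟨(Submodule.fg_top _).mpr (fg_adjoin_of_finite gen.finite_toSet (by
    intro x hx
    rcases Finset.mem_union.mp hx with h | h <;>
      obtain ⟨i, -, hi⟩ := Finset.mem_biUnion.mp h <;> obtain ⟨k, -, rfl⟩ := Finset.mem_image.mp hi
    exacts [(hint i k).1, (hint i k).2]))⟩
  let F' : ι → R'[X] := fun i => ∑ k ∈ Finset.range (N + 1), C ⟨_, (hmem i k).1⟩ * X ^ k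
  let G' : ι → R'[X] := fun i => ∑ k ∈ Finset.range (N + 1), C ⟨_, (hmem i k).2⟩ * X ^ k
  have hF'c : ∀ i k, ((F' i).coeff k : P) = (F i).coeff k ∧ ((G' i).coeff k : P) = (G i).coeff k := by
    intro i k
    simp only [F', G', finsetSum_coeff, coeff_C_mul_X_pow, Finset.sum_ite_eq, Finset.mem_range]
    split_ifs with hk
    · exact ⟨rfl, rfl⟩
    · exact ⟨(coeff_eq_zero_of_natDegree_lt (lt_of_le_of_lt (hdegFG _) (by omega))).symm,
        (coeff_eq_zero_of_natDegree_lt (lt_of_le_of_lt (hdegFG _) (by omega))).symm⟩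
  have hmapF : ∀ i, (F' i).map R'.val.toRingHom = F i ∧ (G' i).map R'.val.toRingHom = G i := fun i =>
    ⟨Polynomial.ext fun k => by rw [coeff_map]; exact (hF'c i k).1,
      Polynomial.ext fun k => by rw [coeff_map]; exact (hF'c i k).2⟩
  have hFac' : Fac i₀ (fun i j => (E i j).map (algebraMap R R')) F' G' := by
    refine ⟨fun i j => map_injective R'.val.toRingHom Subtype.val_injective ?_, Subtype.ext ?_⟩
    · rw [Polynomial.map_mul, (hmapF i).1, (hmapF j).2, ← hFG.eq, Polynomial.map_map]; rfl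
    · rw [(hF'c i₀ 0).1, hFG.base]; rfl
  have hPred : IsReduced R' := isReduced_of_injective R'.val Subtype.val_injective
  have hbot : (⊥ : Subalgebra R R') = ⊤ := by
    refine eq_bot_of_fac hsn (fun a b h => hinj (congrArg Subtype.val h)) hE hFac' fun S' hS' => ?_
    refine eq_top_iff.mpr fun x _ => ?_
    have hle : R' ≤ S'.map R'.val := by
      refine Algebra.adjoin_le fun y hy => ?_
      rcases Finset.mem_union.mp hy with h | h <;>
        obtain ⟨i, -, hi⟩ := Finset.mem_biUnion.mp h <;> obtain ⟨k, -, rfl⟩ := Finset.mem_image.mp hi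
      · exact ⟨(F' i).coeff k, (hS' i k).1, (hF'c i k).1⟩
      · exact ⟨(G' i).coeff k, (hS' i k).2, (hF'c i k).2⟩
    obtain ⟨y, hy, hyx⟩ := hle x.2
    rwa [← Subtype.ext (show (y : P) = x from hyx)]
  -- descend to `R`
  have hr : ∀ i k, ∃ a b : R, algebraMap R P a = (F i).coeff k ∧ algebraMap R P b = (G i).coeff k := by
    intro i k
    obtain ⟨a, ha⟩ := Algebra.mem_bot.mp (show (⟨_, (hmem i k).1⟩ : R') ∈ (⊥ : Subalgebra R R') by
      rw [hbot]; trivial)
    obtain ⟨b, hb⟩ := Algebra.mem_bot.mp (show (⟨_, (hmem i k).2⟩ : R') ∈ (⊥ : Subalgebra R R') by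
      rw [hbot]; trivial)
    exact ⟨a, b, congrArg Subtype.val ha, congrArg Subtype.val hb⟩
  choose a b ha hb using hr
  let f : ι → R[X] := fun i => ∑ k ∈ Finset.range (N + 1), C (a i k) * X ^ k
  let g : ι → R[X] := fun i => ∑ k ∈ Finset.range (N + 1), C (b i k) * X ^ k
  have hfm : ∀ i, (f i).map (algebraMap R P) = F i ∧ (g i).map (algebraMap R P) = G i := fun i => by
    constructor
    · simp only [f, Polynomial.map_sum, Polynomial.map_mul, map_C, Polynomial.map_pow, map_X, ha]
      exact ((F i).as_sum_range_C_mul_X_pow' (Nat.lt_succ_of_le (hdegFG _))).symm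
    · simp only [g, Polynomial.map_sum, Polynomial.map_mul, map_C, Polynomial.map_pow, map_X, hb]
      exact ((G i).as_sum_range_C_mul_X_pow' (Nat.lt_succ_of_le (hdegFG _))).symm
  refine ⟨f, g, fun i j => map_injective _ hinj ?_, hinj ?_⟩
  · rw [Polynomial.map_mul, (hfm i).1, (hfm j).2]; exact hFG.eq i j
  · rw [← coeff_map, (hfm i₀).1, hFG.base, map_one]

omit [Fintype ι] in
theorem free_of_invertible [IsLocalRing R] (hsn : HTop.IsSeminormalRing R) (M : Type u) [AddCommGroup M]
    [Module R[X] M] [Module.Invertible R[X] M] : Module.Free R[X] M := by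
  classical
  set J : Ideal R[X] := Ideal.span {X}
  have e : (R[X] ⧸ J) ≃+* R := by
    have := (Polynomial.quotientSpanXSubCAlgEquiv (0 : R)).toRingEquiv
    rwa [map_zero, sub_zero] at this
  have : IsLocalRing (R[X] ⧸ J) := e.symm.isLocalRing
  have : Module.Free (R[X] ⧸ J) ((R[X] ⧸ J) ⊗[R[X]] M) := Module.free_of_flat_of_isLocalRing
  obtain ⟨φ, hφ⟩ := InvIdeal.exists_functional (M := M) J
  obtain ⟨_, ⟨m₀, rfl⟩, c, hc, hmc⟩ := Submodule.mem_sup.mp ((Ideal.eq_top_iff_one _).mp hφ)
  have hm₀ : (φ m₀).coeff 0 = 1 := by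
    obtain ⟨d, rfl⟩ := Ideal.mem_span_singleton'.mp hc
    have := congrArg (fun q => q.coeff 0) hmc
    simpa [mul_coeff_zero] using this
  obtain ⟨n, π, j, -, -, hπj⟩ := Module.Finite.exists_comp_eq_id_of_projective R[X] M
  let m : Option (Fin n) → M := fun o => o.elim m₀ fun i => π (Pi.single i 1)
  let ψ : Option (Fin n) → Module.Dual R[X] M := fun o => o.elim φ fun i =>
    (LinearMap.proj i ∘ₗ j) ∘ₗ (LinearMap.id - φ.smulRight m₀)
  have hsum : ∀ x, x = ∑ o, ψ o x • m o := fun x => by
    rw [Fintype.sum_option]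
    have h1 : ∀ y, y = ∑ i : Fin n, j y i • π (Pi.single i 1) := fun y => by
      calc y = π (j y) := (LinearMap.congr_fun hπj y).symm
        _ = _ := by
          conv_lhs => rw [pi_eq_sum_univ' (j y), map_sum]
          exact Finset.sum_congr rfl fun i _ => by rw [map_smul]
    calc x = φ x • m₀ + (x - φ x • m₀) := by abel
      _ = _ := by
        conv_lhs => rw [h1 (x - φ x • m₀)]
        rfl
  let E : Option (Fin n) → Option (Fin n) → R[X] := fun o o' => ψ o (m o')
  have hE : Mat none E := by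
    refine ⟨fun i j k l => ?_, ?_, hm₀⟩
    · have h1 := congrArg (ψ i) (InvIdeal.smul_dual_comm (ψ k) (m j) (m l))
      simp only [map_smul, smul_eq_mul] at h1
      show ψ i (m j) * ψ k (m l) = ψ i (m l) * ψ k (m j)
      linear_combination -h1
    · have hfix : ∀ x : M, (∑ o, ψ o (m o)) • x = x := fun x => by
        rw [Finset.sum_smul]
        conv_rhs => rw [hsum x]
        exact Finset.sum_congr rfl fun o _ => by rw [InvIdeal.smul_dual_comm (ψ o) x (m o)]
      have h2 := congrArg φ (hfix m₀)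
      rw [map_smul, smul_eq_mul] at h2
      have hreg : IsSMulRegular R[X] (φ m₀) := by
        intro x y hxy
        have hu : IsUnit ((φ m₀ : R[X]) : PowerSeries R) := by
          rw [PowerSeries.isUnit_iff_constantCoeff, ← PowerSeries.coeff_zero_eq_constantCoeff_apply,
            Polynomial.coeff_coe, hm₀]
          exact isUnit_one
        refine Polynomial.coe_inj.mp (hu.mul_left_cancel ?_)
        rw [← Polynomial.coe_mul, ← Polynomial.coe_mul]
        exact congrArg _ hxy
      refine hreg ?_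
      show φ m₀ • _ = φ m₀ • _
      rw [smul_eq_mul, smul_eq_mul, mul_one]
      linear_combination h2
  obtain ⟨f, g, hfg⟩ := exists_fac hsn hE
  have htr : ∑ o, f o * g o = 1 := by
    rw [← hE.trace]; exact Finset.sum_congr rfl fun o _ => (hfg.eq o o).symm
  let l : M →ₗ[R[X]] R[X] := ∑ o, g o • ψ o
  let w : M := ∑ o, f o • m o
  have hψw : ∀ o, ψ o w = f o := fun o => by
    simp only [w, map_sum, map_smul, smul_eq_mul]
    calc ∑ p, f p * ψ o (m p) = f o * ∑ p, f p * g p := by
          rw [Finset.mul_sum]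
          exact Finset.sum_congr rfl fun p _ => by
            rw [show ψ o (m p) = f o * g p from hfg.eq o p]; ring
      _ = f o := by rw [htr, mul_one]
  refine Module.Free.of_equiv (LinearEquiv.ofLinearMap l (LinearMap.toSpanSingleton R[X] M w) ?_ ?_).symm
  · refine LinearMap.ext_ring ?_
    simp only [LinearMap.comp_apply, LinearMap.toSpanSingleton_apply, one_smul, LinearMap.id_apply, l,
      LinearMap.sum_apply, LinearMap.smul_apply, hψw, smul_eq_mul]
    rw [← htr]; exact Finset.sum_congr rfl fun o _ => mul_comm _ _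
  · refine LinearMap.ext fun x => ?_
    show l x • w = x
    conv_rhs => rw [hsum x]
    simp only [w, Finset.smul_sum, smul_smul]
    have hk : ∀ p, ψ p x = f p * l x := fun p => by
      conv_lhs => rw [hsum x]
      simp only [map_sum, map_smul, smul_eq_mul, l, LinearMap.sum_apply, LinearMap.smul_apply, Finset.mul_sum]
      exact Finset.sum_congr rfl fun o _ => by
        rw [show ψ p (m o) = f p * g o from hfg.eq p o]; ring
    exact Finset.sum_congr rfl fun o _ => by rw [hk o, mul_comm]

end Groth.Agent.CAlg8.Swan
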