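import Mathlib


/-! `A → A' × A[1/t]` is an equalizer when `A/t^m → A'/t^m` and the torsion comparison are bijective. -/

set_option autoImplicit false

universe u

namespace Groth.Agent.CAlg8.TorsionGlue

variable {A A' : Type u} [CommRing A] [CommRing A'] {φ : A →+* A'} {t : A}
  (hq : ∀ m : ℕ, Function.Bijective (Ideal.quotientMap (Ideal.map φ (Ideal.span {t} ^ m)) φ Ideal.le_comap_map))
  (htor : ∀ a' : A', (∃ m : ℕ, φ t ^ m * a' = 0) → ∃! a : A, (∃ m : ℕ, t ^ m * a = 0) ∧ φ a = a')

include htor in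
theorem ext {a b : A} (h1 : φ a = φ b) (h2 : algebraMap A (Localization.Away t) a = algebraMap A (Localization.Away t) b) :
    a = b := by
  obtain ⟨⟨_, m, rfl⟩, hm⟩ := (IsLocalization.eq_iff_exists (Submonoid.powers t) _).mp h2
  dsimp only at hm
  obtain ⟨x, -, hu⟩ := htor 0 ⟨0, mul_zero _⟩
  refine sub_eq_zero.mp ((hu (a - b) ⟨⟨m, by rw [mul_sub, hm, sub_self]⟩, by rw [map_sub, h1, sub_self]⟩).trans
    (hu 0 ⟨⟨0, mul_zero _⟩, map_zero φ⟩).symm)

include hq htor in
theorem exists_eq (a' : A') (b : Localization.Away t)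
    (h : algebraMap A' (Localization.Away (φ t)) a' = Localization.awayMap φ t b) :
    ∃ a, φ a = a' ∧ algebraMap A (Localization.Away t) a = b := by
  obtain ⟨a₀, ⟨_, n, rfl⟩, rfl⟩ := IsLocalization.exists_mk'_eq (Submonoid.powers t) b
  have h1 : algebraMap A' (Localization.Away (φ t)) (φ t ^ n * a') = algebraMap A' (Localization.Away (φ t)) (φ a₀) := by
    rw [map_mul, h, ← map_pow φ]
    have h2 : ∀ x, algebraMap A' (Localization.Away (φ t)) (φ x) = Localization.awayMap φ t (algebraMap A _ x) :=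
      fun x => (IsLocalization.map_eq _ x).symm
    rw [h2, h2, ← map_mul]
    exact congrArg _ (IsLocalization.mk'_spec' (Localization.Away t) a₀ (⟨t ^ n, n, rfl⟩ : Submonoid.powers t))
  obtain ⟨⟨_, k, rfl⟩, hk⟩ := (IsLocalization.eq_iff_exists (Submonoid.powers (φ t)) _).mp h1
  dsimp only at hk
  have h3 : φ (t ^ k * a₀) = φ t ^ (k + n) * a' := by
    rw [map_mul, map_pow, ← hk, pow_add, mul_assoc]
  obtain ⟨d, hd⟩ : ∃ d, t ^ (k + n) * d = t ^ k * a₀ := by
    have hzero : Ideal.Quotient.mk (Ideal.span {t} ^ (k + n)) (t ^ k * a₀) = 0 := by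
      refine (hq (k + n)).injective ?_
      rw [Ideal.quotientMap_mk, map_zero, Ideal.Quotient.eq_zero_iff_mem, h3, ← map_pow]
      exact Ideal.mul_mem_right _ _ (Ideal.mem_map_of_mem φ (Ideal.pow_mem_pow (Ideal.mem_span_singleton_self t) _))
    rw [Ideal.Quotient.eq_zero_iff_mem, Ideal.span_singleton_pow, Ideal.mem_span_singleton] at hzero
    exact ⟨_, hzero.choose_spec.symm⟩
  obtain ⟨e, ⟨⟨m, hm⟩, he⟩, -⟩ := htor (φ d - a') ⟨k + n, by
    rw [mul_sub, ← map_pow φ, ← map_mul, hd, h3, map_pow, sub_self]⟩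
  refine ⟨d - e, by rw [map_sub, he, sub_sub_cancel], ?_⟩
  have he0 : algebraMap A (Localization.Away t) e = 0 :=
    (IsLocalization.map_eq_zero_iff (Submonoid.powers t) _ e).mpr ⟨⟨_, m, rfl⟩, hm⟩
  rw [map_sub, he0, sub_zero, eq_comm, IsLocalization.mk'_eq_iff_eq_mul, ← map_mul]
  refine ((IsLocalization.map_units (Localization.Away t) (⟨_, k, rfl⟩ : Submonoid.powers t)).mul_right_inj).mp ?_
  dsimp only
  rw [← map_mul, ← map_mul, ← hd]
  ring_nf

include hq htor in
theorem exists_ringHom {C : Type u} [CommRing C] (α : C →+* A') (β : C →+* Localization.Away t)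
    (h : (algebraMap A' (Localization.Away (φ t))).comp α = (Localization.awayMap φ t).comp β) :
    ∃ γ : C →+* A, φ.comp γ = α ∧ (algebraMap A (Localization.Away t)).comp γ = β := by
  choose g hg₁ hg₂ using fun c => exists_eq hq htor (α c) (β c) (RingHom.congr_fun h c)
  refine ⟨{ toFun := g
            map_one' := ext htor (by simp [hg₁]) (by simp [hg₂])
            map_mul' := fun x y => ext htor (by simp [hg₁]) (by simp [hg₂])
            map_zero' := ext htor (by simp [hg₁]) (by simp [hg₂])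
            map_add' := fun x y => ext htor (by simp [hg₁]) (by simp [hg₂]) },
    RingHom.ext hg₁, RingHom.ext hg₂⟩

include hq in
theorem exists_preimage (P : Ideal A) [P.IsPrime] (ht : t ∈ P) :
    ∃ P' : Ideal A', P'.IsPrime ∧ P'.comap φ = P := by
  let e := RingEquiv.ofBijective _ (hq 1)
  have hle : Ideal.span {t} ^ 1 ≤ P := by
    rw [pow_one, Ideal.span_le, Set.singleton_subset_iff]; exact ht
  let f : A' →+* A ⧸ P := (Ideal.Quotient.factor hle).comp (e.symm.toRingHom.comp (Ideal.Quotient.mk _))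
  refine ⟨RingHom.ker f, RingHom.ker_isPrime f, Ideal.ext fun a => ?_⟩
  have h0 : e.symm (Ideal.Quotient.mk _ (φ a)) = Ideal.Quotient.mk _ a := by
    rw [RingEquiv.symm_apply_eq]; rfl
  have : f (φ a) = Ideal.Quotient.mk P a := by
    change Ideal.Quotient.factor hle (e.symm (Ideal.Quotient.mk _ (φ a))) = _
    rw [h0, Ideal.Quotient.factor_mk]
  rw [Ideal.mem_comap, RingHom.mem_ker, this, Ideal.Quotient.eq_zero_iff_mem]

end Groth.Agent.CAlg8.TorsionGlue
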