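import Mathlib
import Groth.Agent.Prufer29.Saturated
import Groth.Agent.Prufer29.Basic

/-! Extensions of valuation rings composed from two étale extensions. -/

set_option autoImplicit false

universe u

open IsLocalRing

namespace Groth.Agent.CAlg8.ValComposite

variable {A B : Type u} [CommRing A] [IsDomain A] [ValuationRing A] [CommRing B] [IsDomain B] [ValuationRing B]
  [Algebra A B]

theorem finitePresentation_of_flat (hft : Algebra.FiniteType A B) [Module.Flat A B] :
    Algebra.FinitePresentation A B := by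
  classical
  obtain ⟨n, f, hf⟩ := Algebra.FiniteType.iff_quotient_mvPolynomial''.mp hft
  have hA : ∀ (p : Ideal A) [p.IsPrime], ValuationRing (Localization.AtPrime p) := fun p _ =>
    (Prufer29.valuationRing_atPrime_iff p).mpr fun a b => by
      rcases ValuationRing.dvd_total b a with ⟨c, hc⟩ | ⟨c, hc⟩
      · exact ⟨c, 1, Ideal.IsPrime.one_notMem ‹_›, .inl (by rw [hc, one_mul, mul_comm])⟩
      · exact ⟨c, 1, Ideal.IsPrime.one_notMem ‹_›, .inr (by rw [hc, one_mul, mul_comm])⟩
  let M : Submodule (MvPolynomial (Fin n) A) (Fin 1 → MvPolynomial (Fin n) A) :=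
    Submodule.comap (LinearMap.proj (0 : Fin 1)) (RingHom.ker f.toRingHom)
  have hM : M.FG := Prufer29.Saturated.fg_of_saturated (fun c hc v hv => by
    have hv' : f (c • v 0) = 0 := hv
    rw [map_smul] at hv'
    exact (smul_eq_zero.mp hv').resolve_left hc) hA
  have hker : (RingHom.ker f.toRingHom).FG := by
    have h : M.map (LinearMap.proj (0 : Fin 1)) = RingHom.ker f.toRingHom :=
      Submodule.map_comap_eq_of_surjective (fun x => ⟨fun _ => x, rfl⟩) _
    rw [← h]
    exact hM.map _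
  exact Algebra.FinitePresentation.of_surjective hf hker

variable [IsLocalHom (algebraMap A B)] [Finite (PrimeSpectrum B)] (P : Ideal B) [P.IsPrime]

/-- An element of `A` off `p` dividing powers of which reach every element of `B` off `P`. -/
theorem exists_sigma
    (halg : ∀ t : B, t ≠ 0 → ∃ m : ℕ, 0 < m ∧ ∃ a : A, Associated (t ^ m) (algebraMap A B a)) :
    ∃ σ : A, σ ∉ P.comap (algebraMap A B) ∧ ∀ t ∉ P, ∃ k : ℕ, t ∣ algebraMap A B σ ^ k := by
  classical
  let S := {Q : PrimeSpectrum B // P < Q.asIdeal}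
  have : Fintype S := Fintype.ofFinite S
  have h : ∀ Q : S, ∃ a : A, algebraMap A B a ∈ Q.1.asIdeal ∧ algebraMap A B a ∉ P := fun Q => by
    obtain ⟨t, htQ, htP⟩ := SetLike.exists_of_lt Q.2
    obtain ⟨m, hm, a, e⟩ := halg t fun h0 => htP (h0 ▸ P.zero_mem)
    exact ⟨a, Ideal.mem_of_dvd _ e.dvd (Ideal.pow_mem_of_mem _ htQ m hm),
      fun h => htP (‹P.IsPrime›.mem_of_pow_mem m (Ideal.mem_of_dvd _ e.symm.dvd h))⟩
  choose a haQ haP using h
  refine ⟨∏ Q, a Q, fun h => ?_, fun t ht => ?_⟩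
  · rw [Ideal.mem_comap, map_prod] at h
    obtain ⟨Q, -, hQ⟩ := Ideal.IsPrime.prod_mem_iff.mp h
    exact haP Q hQ
  · have hrad : algebraMap A B (∏ Q, a Q) ∈ (Ideal.span {t}).radical := by
      rw [Ideal.radical_eq_sInf, Ideal.mem_sInf]
      rintro Q ⟨htQ, hQ⟩
      have htQ' : t ∈ Q := (Ideal.span_singleton_le_iff_mem _).mp htQ
      have hlt : P < Q := by
        refine lt_of_le_not_ge ((le_total P Q).resolve_right fun hle => ht (hle htQ')) fun hle => ht (hle htQ')
      rw [map_prod]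
      exact Ideal.prod_mem (I := Q) (Finset.mem_univ (⟨⟨Q, hQ⟩, hlt⟩ : S)) (haQ ⟨⟨Q, hQ⟩, hlt⟩)
    obtain ⟨k, hk⟩ := hrad
    exact ⟨k, Ideal.mem_span_singleton.mp hk⟩

attribute [local instance] Localization.AtPrime.algebraOfLiesOver

/-- An extension of valuation rings composed from two étale extensions is étale. -/
theorem etale_of_composed (hinj : Function.Injective (algebraMap A B))
    (halg : ∀ t : B, t ≠ 0 → ∃ m : ℕ, 0 < m ∧ ∃ a : A, Associated (t ^ m) (algebraMap A B a))
    (hA : (Localization.localRingHom (P.comap (algebraMap A B)) P (algebraMap A B) rfl).Etale)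
    (hB : (Ideal.quotientMap P (algebraMap A B) (le_refl (P.comap (algebraMap A B)))).Etale) :
    Algebra.Etale A B := by
  classical
  set p := P.comap (algebraMap A B) with hp
  have hpp : p.IsPrime := Ideal.IsPrime.comap (algebraMap A B)
  let Ap := Localization.AtPrime p
  let BP := Localization.AtPrime P
  let _ : Algebra Ap BP := (Localization.localRingHom p P (algebraMap A B) rfl).toAlgebra
  have : IsScalarTower A Ap BP := IsScalarTower.of_algebraMap_eq fun a => by
    rw [RingHom.algebraMap_toAlgebra, Localization.localRingHom_to_map, ← IsScalarTower.algebraMap_apply]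
  have : Algebra.Etale Ap BP := hA
  have : IsLocalHom (algebraMap Ap BP) := Localization.isLocalHom_localRingHom p P (algebraMap A B) rfl
  let _ : Algebra (A ⧸ p) (B ⧸ P) := (Ideal.quotientMap P (algebraMap A B) le_rfl).toAlgebra
  have : IsScalarTower A (A ⧸ p) (B ⧸ P) := IsScalarTower.of_algebraMap_eq fun a => rfl
  have : Algebra.Etale (A ⧸ p) (B ⧸ P) := hB
  obtain ⟨σ, hσp, hσ⟩ := exists_sigma P halg
  have hσB : algebraMap A B σ ∉ P := hσp
  -- `s ∣ σ ^ k` in `A` for `s ∉ p`
  have hdvdA : ∀ s : A, s ∉ p → ∃ k, s ∣ σ ^ k := fun s hs => by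
    obtain ⟨k, hk⟩ := hσ _ hs
    refine ⟨k, (ValuationRing.dvd_total s (σ ^ k)).elim id fun ⟨r, hr⟩ => ?_⟩
    obtain ⟨c, hc⟩ := hk
    have h0 : algebraMap A B σ ^ k ≠ 0 := pow_ne_zero k fun h => hσB (h ▸ P.zero_mem)
    rw [hr, map_mul, map_pow, mul_assoc] at hc
    have hu : IsUnit (algebraMap A B r) := IsUnit.of_mul_eq_one _ ((mul_eq_left₀ h0).mp hc.symm)
    have hr' : IsUnit r := IsUnit.of_map (algebraMap A B) r hu
    rw [hr]
    exact (hr'.mul_right_dvd).mpr dvd_rfl
  -- `P` is generated by `p`, and divisible by powers of `σ`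
  have hspan : ∀ y ∈ p.map (algebraMap A B), ∃ π ∈ p, algebraMap A B π ∣ y := fun y hy => by
    refine Submodule.span_induction (p := fun y _ => ∃ π ∈ p, algebraMap A B π ∣ y) ?_ ?_ ?_ ?_ hy
    · rintro _ ⟨π, hπ, rfl⟩; exact ⟨π, hπ, dvd_rfl⟩
    · exact ⟨0, p.zero_mem, by simp⟩
    · rintro x z - - ⟨π, hπ, hx⟩ ⟨π', hπ', hz⟩
      rcases ValuationRing.dvd_total π π' with h | h
      · exact ⟨π, hπ, dvd_add hx ((map_dvd _ h).trans hz)⟩
      · exact ⟨π', hπ', dvd_add ((map_dvd _ h).trans hx) hz⟩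
    · rintro c x - ⟨π, hπ, hx⟩; exact ⟨π, hπ, hx.mul_left c⟩
  have hdiv : ∀ π ∈ p, ∀ k : ℕ, ∃ π' ∈ p, π = σ ^ k * π' := fun π hπ k => by
    rcases ValuationRing.dvd_total (σ ^ k) π with ⟨π', h⟩ | h
    · exact ⟨π', (hpp.mem_or_mem (h ▸ hπ)).resolve_left fun h' => hσp (hpp.mem_of_pow_mem k h'), h⟩
    · exact absurd (hpp.mem_of_pow_mem k (Ideal.mem_of_dvd _ h hπ)) hσp
  have hPdiv : ∀ x ∈ P, ∀ k : ℕ, ∃ π ∈ p, ∃ c, x = algebraMap A B σ ^ k * (algebraMap A B π * c) := by
    intro x hx k
    have hmem : algebraMap B BP x ∈ (p.map (algebraMap A B)).map (algebraMap B BP) := by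
      rw [Ideal.map_map, ← IsScalarTower.algebraMap_eq, IsScalarTower.algebraMap_eq A Ap BP, ← Ideal.map_map,
        Localization.AtPrime.map_eq_maximalIdeal, Algebra.FormallyUnramified.map_maximalIdeal,
        ← Localization.AtPrime.map_eq_maximalIdeal]
      exact Ideal.mem_map_of_mem _ hx
    obtain ⟨⟨⟨y, hy⟩, ⟨t, ht⟩⟩, e⟩ := (IsLocalization.mem_map_algebraMap_iff P.primeCompl BP).mp hmem
    rw [← map_mul] at e
    have e' : x * t = y := IsLocalization.injective BP P.primeCompl_le_nonZeroDivisors e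
    obtain ⟨π, hπ, c, hc⟩ := hspan y hy
    obtain ⟨l, d, hl⟩ := hσ t ht
    obtain ⟨π', hπ', rfl⟩ := hdiv π hπ (l + k)
    refine ⟨π', hπ', c * d, mul_left_cancel₀ (fun h => ht (h ▸ P.zero_mem) : t ≠ 0) ?_⟩
    rw [mul_comm t x, e', hc, map_mul, map_pow, pow_add, hl]
    ring
  -- finite type
  have hft : Algebra.FiniteType A B := by
    obtain ⟨gA, hgA⟩ := (inferInstance : Algebra.FiniteType Ap BP).out
    obtain ⟨gB, hgB⟩ := (inferInstance : Algebra.FiniteType (A ⧸ p) (B ⧸ P)).out
    have hex : ∀ z : BP, ∃ (k : ℕ) (c : B), algebraMap B BP (algebraMap A B σ ^ k) * z = algebraMap B BP c := fun z => by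
      obtain ⟨b, s, rfl⟩ := IsLocalization.exists_mk'_eq P.primeCompl z
      obtain ⟨k, d, hd⟩ := hσ _ s.2
      exact ⟨k, b * d, by rw [hd, map_mul, map_mul, mul_right_comm, IsLocalization.mk'_spec']⟩
    choose kcl cl hcl using hex
    choose lift hlift using fun z : B ⧸ P => Ideal.Quotient.mk_surjective z
    let C := Algebra.adjoin A ((gA.image cl ∪ gB.image lift : Finset B) : Set B)
    -- elements cleared by powers of `σ`
    have hclear : ∀ z : BP, ∃ (k : ℕ) (c : B), c ∈ C ∧ algebraMap B BP (algebraMap A B σ ^ k) * z = algebraMap B BP c := by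
      intro z
      have hz : z ∈ Algebra.adjoin Ap (gA : Set BP) := hgA ▸ trivial
      refine Algebra.adjoin_induction (p := fun z _ => ∃ (k : ℕ) (c : B), c ∈ C ∧
        algebraMap B BP (algebraMap A B σ ^ k) * z = algebraMap B BP c) ?_ ?_ ?_ ?_ hz
      · intro z hz
        exact ⟨kcl z, cl z, Algebra.subset_adjoin (by
          simp only [Finset.coe_union, Finset.coe_image]; exact .inl ⟨z, hz, rfl⟩), hcl z⟩
      · intro a
        obtain ⟨r, s, rfl⟩ := IsLocalization.exists_mk'_eq p.primeCompl a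
        obtain ⟨k, d, hd⟩ := hdvdA s s.2
        refine ⟨k, algebraMap A B (r * d), C.algebraMap_mem _, ?_⟩
        rw [← IsScalarTower.algebraMap_apply A B BP, ← map_pow, hd, ← IsScalarTower.algebraMap_apply A B BP,
          IsScalarTower.algebraMap_apply A Ap BP, IsScalarTower.algebraMap_apply A Ap BP, ← map_mul]
        congr 1
        rw [map_mul, map_mul, mul_right_comm, mul_comm (algebraMap A Ap s), IsLocalization.mk'_spec]
      · rintro x y - - ⟨k, c, hc, e⟩ ⟨k', c', hc', e'⟩
        refine ⟨k + k', algebraMap A B σ ^ k' * c + algebraMap A B σ ^ k * c', ?_, ?_⟩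
        · exact add_mem (mul_mem (pow_mem (C.algebraMap_mem _) _) hc) (mul_mem (pow_mem (C.algebraMap_mem _) _) hc')
        · simp only [pow_add, map_mul, map_add, mul_add]
          linear_combination algebraMap B BP (algebraMap A B σ ^ k') * e + algebraMap B BP (algebraMap A B σ ^ k) * e'
      · rintro x y - - ⟨k, c, hc, e⟩ ⟨k', c', hc', e'⟩
        refine ⟨k + k', c * c', mul_mem hc hc', ?_⟩
        rw [pow_add, map_mul, map_mul, ← e, ← e']
        ring
    have hsub : ∀ x ∈ P, x ∈ C := fun x hx => by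
      obtain ⟨π, hπ, c, rfl⟩ := hPdiv x hx 0
      obtain ⟨k, c', hc', e⟩ := hclear (algebraMap B BP c)
      rw [← map_mul] at e
      have e'' : algebraMap A B σ ^ k * c = c' := IsLocalization.injective BP P.primeCompl_le_nonZeroDivisors e
      obtain ⟨π', -, rfl⟩ := hdiv π hπ k
      rw [pow_zero, one_mul, map_mul, map_pow, mul_right_comm, e'']
      exact mul_mem hc' (C.algebraMap_mem _)
    refine ⟨⟨gA.image cl ∪ gB.image lift, eq_top_iff.mpr fun x _ => ?_⟩⟩
    obtain ⟨c, hc, hcx⟩ : ∃ c ∈ C, Ideal.Quotient.mk P c = Ideal.Quotient.mk P x := by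
      have hz : Ideal.Quotient.mk P x ∈ Algebra.adjoin (A ⧸ p) (gB : Set (B ⧸ P)) := hgB ▸ trivial
      refine Algebra.adjoin_induction (p := fun z _ => ∃ c ∈ C, Ideal.Quotient.mk P c = z) ?_ ?_ ?_ ?_ hz
      · intro z hz
        exact ⟨lift z, Algebra.subset_adjoin (by simp only [Finset.coe_union, Finset.coe_image]; exact .inr ⟨z, hz, rfl⟩), hlift z⟩
      · intro r
        obtain ⟨r', rfl⟩ := Ideal.Quotient.mk_surjective r
        exact ⟨algebraMap A B r', C.algebraMap_mem _, rfl⟩
      · rintro a b - - ⟨c, hc, rfl⟩ ⟨d, hd, rfl⟩; exact ⟨c + d, add_mem hc hd, map_add _ _ _⟩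
      · rintro a b - - ⟨c, hc, rfl⟩ ⟨d, hd, rfl⟩; exact ⟨c * d, mul_mem hc hd, map_mul _ _ _⟩
    rw [← sub_add_cancel x c]
    exact add_mem (hsub _ (Ideal.Quotient.eq.mp hcx.symm)) hc
  have : Module.Flat A B := by
    rw [Module.Flat.flat_iff_torsion_eq_bot_of_isBezout, eq_bot_iff]
    rintro x ⟨⟨a, ha⟩, hax⟩
    rw [Submonoid.mk_smul, Algebra.smul_def] at hax
    exact (mul_eq_zero.mp hax).resolve_left ((map_ne_zero_iff _ hinj).mpr (nonZeroDivisors.ne_zero ha))
  have := finitePresentation_of_flat (A := A) (B := B) hft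
  -- the differentials vanish
  have : Algebra.FormallyUnramified A B := by
    rw [Algebra.formallyUnramified_iff]
    have : Algebra.FormallyUnramified A Ap := Algebra.FormallyUnramified.of_isLocalization p.primeCompl
    have : Algebra.FormallyUnramified A BP := Algebra.FormallyUnramified.comp A Ap BP
    have : Algebra.FormallyUnramified A (A ⧸ p) :=
      Algebra.FormallyUnramified.of_surjective (Algebra.ofId A (A ⧸ p)) Ideal.Quotient.mk_surjective
    have : Algebra.FormallyUnramified A (B ⧸ P) := Algebra.FormallyUnramified.comp A (A ⧸ p) (B ⧸ P)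
    -- every differential is killed by a power of `σ`
    have hkill : ∀ ω : Ω[B⁄A], ∃ k : ℕ, algebraMap A B σ ^ k • ω = 0 := fun ω => by
      have h1 : KaehlerDifferential.map A A B BP ω = 0 := Subsingleton.elim _ _
      obtain ⟨⟨t, ht⟩, e⟩ := (IsLocalizedModule.eq_zero_iff P.primeCompl (KaehlerDifferential.map A A B BP)).mp h1
      obtain ⟨k, d, hd⟩ := hσ t ht
      exact ⟨k, by rw [hd, mul_comm t d, mul_smul, ← Submonoid.mk_smul (S := P.primeCompl) t ht, e, smul_zero]⟩
    -- modulo `P`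
    let N : Submodule B Ω[B⁄A] := P • ⊤
    have hdP : ∀ x ∈ P, KaehlerDifferential.D A B x ∈ N := fun x hx => by
      obtain ⟨π, hπ, c, rfl⟩ := hPdiv x hx 0
      rw [pow_zero, one_mul, Derivation.leibniz, Derivation.map_algebraMap, smul_zero, add_zero]
      exact Submodule.smul_mem_smul hπ trivial
    have hN : N = ⊤ := by
      have hloc : P ≤ Module.annihilator B (Ω[B⁄A] ⧸ N) := fun x hx =>
        Module.mem_annihilator.mpr fun q => by
          obtain ⟨ω, rfl⟩ := N.mkQ_surjective q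
          rw [← map_smul, Submodule.mkQ_apply, Submodule.Quotient.mk_eq_zero]
          exact Submodule.smul_mem_smul hx trivial
      let _ : Module (B ⧸ P) (Ω[B⁄A] ⧸ N) := (Module.IsTorsionBySet.module fun q x =>
        Module.mem_annihilator.mp (hloc x.2) q)
      have : IsScalarTower A (B ⧸ P) (Ω[B⁄A] ⧸ N) := ⟨fun a b q => by
        obtain ⟨b, rfl⟩ := Ideal.Quotient.mk_surjective b
        obtain ⟨ω, rfl⟩ := N.mkQ_surjective q
        change (a • b) • N.mkQ ω = a • (b • N.mkQ ω)
        exact smul_assoc _ _ _⟩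
      let D' : B →ₗ[A] Ω[B⁄A] ⧸ N := (N.mkQ.restrictScalars A) ∘ₗ (KaehlerDifferential.D A B).toLinearMap
      let Dbar : B ⧸ P →ₗ[A] Ω[B⁄A] ⧸ N :=
        (P.restrictScalars A).liftQ D' fun x hx => by
          change N.mkQ _ = 0
          rw [Submodule.mkQ_apply, Submodule.Quotient.mk_eq_zero]
          exact hdP x hx
      let der : Derivation A (B ⧸ P) (Ω[B⁄A] ⧸ N) := Derivation.mk' Dbar fun a b => by
        obtain ⟨a, rfl⟩ := Ideal.Quotient.mk_surjective a
        obtain ⟨b, rfl⟩ := Ideal.Quotient.mk_surjective b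
        change N.mkQ (KaehlerDifferential.D A B (a * b)) =
          a • N.mkQ (KaehlerDifferential.D A B b) + b • N.mkQ (KaehlerDifferential.D A B a)
        rw [Derivation.leibniz, map_add, map_smul, map_smul]
      have hder : der = 0 := by
        rw [← Derivation.liftKaehlerDifferential_comp der,
          show der.liftKaehlerDifferential = 0 from LinearMap.ext fun z => by rw [Subsingleton.elim z 0, map_zero]; rfl]
        ext; simp
      rw [eq_top_iff, ← KaehlerDifferential.span_range_derivation, Submodule.span_le]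
      rintro _ ⟨b, rfl⟩
      have := DFunLike.congr_fun hder (Ideal.Quotient.mk P b)
      exact (Submodule.Quotient.mk_eq_zero N).mp this
    have hz : ∀ ω : Ω[B⁄A], ∀ x ∈ P, x • ω = 0 := fun ω x hx => by
      obtain ⟨k, hk⟩ := hkill ω
      obtain ⟨π, -, c, rfl⟩ := hPdiv x hx k
      rw [mul_comm, mul_smul, hk, smul_zero]
    refine subsingleton_of_forall_eq 0 fun ω => ?_
    have : ω ∈ N := hN ▸ trivial
    induction this using Submodule.smul_induction_on' with
    | smul x hx ω _ => exact hz ω x hx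
    | add x _ y _ hx hy => rw [hx, hy, add_zero]
  exact Algebra.Etale.of_formallyUnramified_of_flat

theorem exists_pow_associated {K L Γ₀ Γ₁ : Type u} [Field K] [Field L] [Algebra K L] [FiniteDimensional K L]
    [LinearOrderedCommGroupWithZero Γ₀] [LinearOrderedCommGroupWithZero Γ₁]
    (vK : Valuation K Γ₀) (vL : Valuation L Γ₁) [vK.HasExtension vL] (t : vL.valuationSubring) (ht : t ≠ 0) :
    ∃ m : ℕ, 0 < m ∧ ∃ a : vK.valuationSubring, Associated (t ^ m) (algebraMap vK.valuationSubring vL.valuationSubring a) := by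
  classical
  set x : L := (t : L)
  have hx : x ≠ 0 := fun h => ht (Subtype.ext h)
  have hint : IsIntegral K x := Algebra.IsIntegral.isIntegral x
  let q := minpoly K x
  let w : ℕ → L := fun i => algebraMap K L (q.coeff i) * x ^ i
  have hsum : ∑ i ∈ q.support, w i = 0 := by
    rw [← (minpoly.aeval K x), Polynomial.aeval_def, Polynomial.eval₂_eq_sum, Polynomial.sum]
  have hw : ∀ i ∈ q.support, w i ≠ 0 := fun i hi =>
    mul_ne_zero ((map_ne_zero _).mpr (Polynomial.mem_support_iff.mp hi)) (pow_ne_zero i hx)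
  obtain ⟨i, hi, hmax⟩ := q.support.exists_max_image (fun i => vL (w i))
    (Polynomial.support_nonempty.mpr (minpoly.ne_zero hint))
  obtain ⟨j, hj, hij, hev⟩ : ∃ j ∈ q.support, j ≠ i ∧ vL (w j) = vL (w i) := by
    by_contra! hne
    have := Valuation.map_sum_eq_of_lt vL hi (f := w) fun j hj => by
      rw [Finset.mem_sdiff, Finset.mem_singleton] at hj
      exact lt_of_le_of_ne (hmax j hj.1) (hne j hj.1 hj.2)
    rw [hsum, map_zero] at this
    exact hw i hi ((Valuation.zero_iff vL).mp this.symm)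
  have key : ∀ i j : ℕ, i < j → q.coeff j ≠ 0 → vL (w i) = vL (w j) →
      ∃ m : ℕ, 0 < m ∧ ∃ c : K, vL (x ^ m) = vL (algebraMap K L c) := by
    intro i j hlt hj e
    obtain ⟨m, rfl⟩ := Nat.exists_eq_add_of_lt hlt
    refine ⟨m + 1, Nat.succ_pos m, q.coeff i / q.coeff (i + m + 1), ?_⟩
    simp only [w, map_mul, add_assoc, pow_add x i] at e
    rw [map_div₀, map_div₀, eq_div_iff ((Valuation.ne_zero_iff vL).mpr ((map_ne_zero _).mpr hj))]
    refine mul_right_cancel₀ ((Valuation.ne_zero_iff vL).mpr (pow_ne_zero i hx)) ?_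
    rw [e, ← add_assoc]
    exact (mul_right_comm _ _ _).trans (by rw [mul_comm (vL (x ^ (m + 1))), mul_assoc, mul_comm (vL (x ^ (m + 1)))]; ac_rfl)
  obtain ⟨m, hm, c, hc⟩ : ∃ m : ℕ, 0 < m ∧ ∃ c : K, vL (x ^ m) = vL (algebraMap K L c) := by
    rcases lt_or_gt_of_ne hij with h | h
    · exact key j i h (Polynomial.mem_support_iff.mp hi) hev
    · exact key i j h (Polynomial.mem_support_iff.mp hj) hev.symm
  have hle : vL (x ^ m) ≤ 1 := (map_pow vL x m).le.trans (pow_le_one₀ zero_le' t.2)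
  have hc1 : vK c ≤ 1 := (Valuation.HasExtension.val_map_le_one_iff vK vL c).mp (hc ▸ hle)
  refine ⟨m, hm, ⟨c, hc1⟩, ?_⟩
  have hc0 : algebraMap K L c ≠ 0 := fun h => pow_ne_zero m hx ((Valuation.zero_iff vL).mp (by rw [hc, h, map_zero]))
  refine associated_of_dvd_dvd ?_ ?_
  · refine ⟨⟨algebraMap K L c / x ^ m, ?_⟩, Subtype.ext ?_⟩
    · change vL _ ≤ 1
      rw [map_div₀, ← hc, div_self ((Valuation.ne_zero_iff vL).mpr (pow_ne_zero m hx))]
    · change algebraMap K L c = x ^ m * _
      rw [mul_div_cancel₀ _ (pow_ne_zero m hx)]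
  · refine ⟨⟨x ^ m / algebraMap K L c, ?_⟩, Subtype.ext ?_⟩
    · change vL _ ≤ 1
      rw [map_div₀, hc, div_self ((Valuation.ne_zero_iff vL).mpr hc0)]
    · change x ^ m = algebraMap K L c * _
      rw [mul_div_cancel₀ _ hc0]

end Groth.Agent.CAlg8.ValComposite
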