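import Mathlib
import Groth.Prelude.Def_Hens2
import Groth.Agent.Hens22.PairOps
import Groth.Agent.Hens22.Integral
import Groth.Agent.Hensel20.Criteria

/-! Weierstrass preparation in the henselization `B` of `R[t]` along `(t)`, `R` henselian local. -/

set_option autoImplicit false

universe u

open Polynomial IsLocalRing

namespace Groth.Agent.CAlg8.Weier

variable {R : Type u} [CommRing R]

theorem exists_factor [HenselianLocalRing R] (p : R[X]) (hp : p.Monic) :
    ∃ (e : ℕ) (p₁ p₂ : R[X]), p = p₁ * p₂ ∧ p₁.Monic ∧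
      p₁.map (Ideal.Quotient.mk (maximalIdeal R)) = X ^ e ∧ IsUnit (p₂.coeff 0) := by
  set k := R ⧸ maximalIdeal R
  set q := p.map (Ideal.Quotient.mk (maximalIdeal R))
  obtain ⟨g, hg, hgX⟩ := exists_eq_pow_rootMultiplicity_mul_and_not_dvd q
    (hp.map _).ne_zero (0 : k)
  rw [C_0, sub_zero] at hg hgX
  have hg0 : g.coeff 0 ≠ 0 := fun h => hgX (X_dvd_iff.mpr h)
  have hcop : IsCoprime ((X : k[X]) ^ rootMultiplicity 0 q) g := by
    obtain ⟨r, hr⟩ := Ideal.Quotient.mk_surjective (g.coeff 0)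
    obtain ⟨v, hv⟩ := ((notMem_maximalIdeal.mp fun h => hg0 (hr.symm.trans
      (Ideal.Quotient.eq_zero_iff_mem.mpr h))).map (Ideal.Quotient.mk (maximalIdeal R))).exists_left_inv
    rw [hr] at hv
    refine IsCoprime.pow_left ⟨-(C v * g.divX), C v, ?_⟩
    calc -(C v * g.divX) * X + C v * g
        = C v * (g - g.divX * X) := by ring
      _ = C v * C (g.coeff 0) := by rw [sub_eq_of_eq_add' (divX_mul_X_add g).symm]
      _ = 1 := by rw [← C_mul, hv, C_1]
  obtain ⟨p₁, p₂, h, hm, h₁, h₂⟩ :=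
    Hensel20.exists_factor_lift p _ g (monic_X_pow _) hcop hg
  refine ⟨_, p₁, p₂, h, hm, h₁, notMem_maximalIdeal.mp fun hmem => hg0 ?_⟩
  rw [← h₂, coeff_map, Ideal.Quotient.eq_zero_iff_mem.mpr hmem]

/-- A monic polynomial congruent to a power of `X`. -/
structure Dist [IsLocalRing R] (P : R[X]) : Prop where
  monic : P.Monic
  low : ∀ i, i < P.natDegree → P.coeff i ∈ maximalIdeal R

section Dist

variable [IsLocalRing R] {P : R[X]}

theorem Dist.sub_mem (h : Dist P) : P - X ^ P.natDegree ∈ (maximalIdeal R).map C := by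
  rw [Ideal.mem_map_C_iff]
  intro i
  rw [coeff_sub, coeff_X_pow]
  rcases lt_trichotomy i P.natDegree with hi | hi | hi
  · rw [if_neg hi.ne, sub_zero]; exact h.low i hi
  · subst hi; rw [if_pos rfl, h.monic.coeff_natDegree, sub_self]; exact zero_mem _
  · rw [if_neg hi.ne', coeff_eq_zero_of_natDegree_lt hi, sub_zero]; exact zero_mem _

theorem dist_X_pow (n : ℕ) : Dist ((X : R[X]) ^ n) :=
  ⟨monic_X_pow n, fun i hi => by
    rw [natDegree_X_pow] at hi; rw [coeff_X_pow, if_neg hi.ne]; exact zero_mem _⟩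

theorem dist_of_map (hP : P.Monic) {e : ℕ}
    (h : P.map (Ideal.Quotient.mk (maximalIdeal R)) = X ^ e) : Dist P :=
  ⟨hP, fun i hi => by
    have hd := hP.natDegree_map (Ideal.Quotient.mk (maximalIdeal R))
    rw [h, natDegree_X_pow] at hd
    rw [← Ideal.Quotient.eq_zero_iff_mem, ← coeff_map, h, coeff_X_pow, if_neg]
    omega⟩

end Dist

theorem henselianRing_adjoinRoot [HenselianLocalRing R] {P : R[X]} (h : Dist P) :
    HenselianRing (AdjoinRoot P) (Ideal.span {AdjoinRoot.root P}) := by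
  have : Module.Finite R (AdjoinRoot P) := h.monic.finite_adjoinRoot
  have : Algebra.IsIntegral R (AdjoinRoot P) := Algebra.IsIntegral.of_finite R _
  have := Hens22.henselianRing_of_isIntegral (maximalIdeal R) (AdjoinRoot P)
  have := Hens22.henselianRing_radical ((maximalIdeal R).map (algebraMap R (AdjoinRoot P)))
  refine Hens22.henselianRing_of_le
    (J := ((maximalIdeal R).map (algebraMap R (AdjoinRoot P))).radical) ?_
  rw [Ideal.span_singleton_le_iff_mem]
  refine ⟨P.natDegree, ?_⟩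
  have h1 := Ideal.mem_map_of_mem (AdjoinRoot.mk P) h.sub_mem
  rw [map_sub, AdjoinRoot.mk_self, zero_sub, neg_mem_iff, map_pow, AdjoinRoot.mk_X,
    Ideal.map_map] at h1
  exact h1

variable {B : Type u} [CommRing B] [Algebra R[X] B]

/-- `B/PB = R[t]/P` for distinguished `P`. -/
theorem quotient_dist [HenselianLocalRing R]
    (hB : Hens2.IsPairHenselization R[X] (Ideal.span {(X : R[X])}) B) {P : R[X]} (h : Dist P) :
    (∃ g : B →+* AdjoinRoot P, g.comp (algebraMap R[X] B) = AdjoinRoot.mk P) ∧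
    (∀ q, algebraMap R[X] B q ∈ Ideal.span {algebraMap R[X] B P} → P ∣ q) ∧
    ∀ b : B, ∃ q : R[X], algebraMap R[X] B q - b ∈ Ideal.span {algebraMap R[X] B P} := by
  have hH := henselianRing_adjoinRoot h
  obtain ⟨g, hg, -⟩ := hB.2 (AdjoinRoot P) _ (AdjoinRoot.mk P) hH
    (by rw [Ideal.map_span, Set.image_singleton, AdjoinRoot.mk_X])
  refine ⟨⟨g, hg⟩, fun q hq => ?_, fun b => ?_⟩
  · obtain ⟨c, hc⟩ := Ideal.mem_span_singleton'.mp hq
    rw [← AdjoinRoot.mk_eq_zero, ← hg, RingHom.comp_apply, ← hc, map_mul,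
      ← RingHom.comp_apply, hg, AdjoinRoot.mk_self, mul_zero]
  · set K := Ideal.span {algebraMap R[X] B P}
    have := hB.1
    have hH' := Hens22.henselianRing_quotient
      ((Ideal.span {(X : R[X])}).map (algebraMap R[X] B)) K
    let j : AdjoinRoot P →+* B ⧸ K := Ideal.Quotient.lift _
      ((Ideal.Quotient.mk K).comp (algebraMap R[X] B)) (fun a ha => by
        obtain ⟨c, rfl⟩ := Ideal.mem_span_singleton'.mp ha
        simp only [RingHom.comp_apply, map_mul]
        rw [Ideal.Quotient.eq_zero_iff_mem.mpr (Ideal.mem_span_singleton_self _), mul_zero])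
    have hj : j.comp (AdjoinRoot.mk P) = (Ideal.Quotient.mk K).comp (algebraMap R[X] B) :=
      Ideal.Quotient.lift_comp_mk ..
    have he : j.comp g = Ideal.Quotient.mk K :=
      (hB.2 _ _ ((Ideal.Quotient.mk K).comp (algebraMap R[X] B)) hH'
        (by rw [Ideal.map_map])).unique (by rw [RingHom.comp_assoc, hg, hj]) rfl
    obtain ⟨q, hq⟩ := AdjoinRoot.mk_surjective (g b)
    refine ⟨q, ?_⟩
    have e1 := RingHom.congr_fun hj q
    have e2 := RingHom.congr_fun he b
    simp only [RingHom.comp_apply] at e1 e2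
    rw [← Ideal.Quotient.eq, ← e1, hq, e2]

variable (B) in
/-- `mB`. -/
noncomputable abbrev mB [IsLocalRing R] : Ideal B :=
  ((maximalIdeal R).map (C : R →+* R[X])).map (algebraMap R[X] B)

section

variable [HenselianLocalRing R] (hB : Hens2.IsPairHenselization R[X] (Ideal.span {(X : R[X])}) B)
include hB

theorem exists_sub_mem_pow (n : ℕ) (b : B) :
    ∃ q : R[X], algebraMap R[X] B q - b ∈ Ideal.span {(algebraMap R[X] B X) ^ n} := by
  rw [← map_pow]; exact (quotient_dist hB (dist_X_pow n)).2.2 b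

theorem coeff_mem_of_mem {n : ℕ} {q : R[X]}
    (hq : algebraMap R[X] B q ∈ mB (R := R) B ⊔ Ideal.span {(algebraMap R[X] B X) ^ n}) {i : ℕ}
    (hi : i < n) : q.coeff i ∈ maximalIdeal R := by
  obtain ⟨g, hg⟩ := (quotient_dist hB (dist_X_pow (R := R) n)).1
  have h1 := Ideal.mem_map_of_mem g hq
  rw [Ideal.map_sup, Ideal.map_map, hg, ← RingHom.comp_apply, hg, Ideal.map_span,
    Set.image_singleton, ← map_pow, ← RingHom.comp_apply, hg, AdjoinRoot.mk_self,
    Ideal.span_singleton_zero, sup_bot_eq,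
    Ideal.mem_map_iff_of_surjective _ AdjoinRoot.mk_surjective] at h1
  obtain ⟨a, ha, hae⟩ := h1
  obtain ⟨c, hc⟩ := AdjoinRoot.mk_eq_mk.mp hae
  rw [Ideal.mem_map_C_iff] at ha
  rw [show q = a - X ^ n * c by linear_combination -hc, coeff_sub, mul_comm,
    coeff_mul_X_pow', if_neg (not_le.mpr hi), sub_zero]
  exact ha i

theorem exists_const (b : B) :
    ∃ r : R, algebraMap R[X] B (C r) - b ∈ Ideal.span {algebraMap R[X] B X} := by
  obtain ⟨q, hq⟩ := exists_sub_mem_pow hB 1 b
  rw [pow_one] at hq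
  refine ⟨q.coeff 0, ?_⟩
  have e : algebraMap R[X] B (C (q.coeff 0)) - b =
      (algebraMap R[X] B q - b) - algebraMap R[X] B q.divX * algebraMap R[X] B X := by
    conv_rhs => rw [← map_mul, sub_right_comm, ← map_sub]; enter [1, 2, 1]; rw [← divX_mul_X_add q]
    rw [add_sub_cancel_left]
  rw [e]
  exact sub_mem hq (Ideal.mul_mem_left _ _ (Ideal.mem_span_singleton_self _))

omit [HenselianLocalRing R] in
theorem isUnit_of_const {b : B} {r : R} (hr : IsUnit r)
    (h : algebraMap R[X] B (C r) - b ∈ Ideal.span {algebraMap R[X] B X}) : IsUnit b := by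
  have := hB.1
  refine Hens22.isUnit_of_map_isUnit
    (I := (Ideal.span {(X : R[X])}).map (algebraMap R[X] B)) HenselianRing.jac ?_
  rw [Ideal.map_span, Set.image_singleton] at *
  rw [← Ideal.Quotient.eq.mpr h]
  exact ((hr.map C).map (algebraMap R[X] B)).map _

theorem mem_or_isUnit (b : B) :
    IsUnit b ∨ b ∈ mB (R := R) B ⊔ Ideal.span {algebraMap R[X] B X} := by
  obtain ⟨r, hr⟩ := exists_const hB b
  rcases em (r ∈ maximalIdeal R) with h | h
  · right
    rw [show b = algebraMap R[X] B (C r) - (algebraMap R[X] B (C r) - b) by ring]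
    exact sub_mem (Submodule.mem_sup_left (Ideal.mem_map_of_mem _ (Ideal.mem_map_of_mem _ h)))
      (Submodule.mem_sup_right hr)
  · exact Or.inl (isUnit_of_const hB (notMem_maximalIdeal.mp h) hr)

theorem ne_top : mB (R := R) B ⊔ Ideal.span {algebraMap R[X] B X} ≠ ⊤ := fun h => by
  have := coeff_mem_of_mem hB (n := 1) (q := 1) (by rw [map_one, pow_one, h]; trivial) one_pos
  rw [coeff_one_zero] at this
  exact (maximalIdeal.isMaximal R).ne_top ((Ideal.eq_top_iff_one _).mpr this)

theorem isUnit_iff (b : B) :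
    IsUnit b ↔ b ∉ mB (R := R) B ⊔ Ideal.span {algebraMap R[X] B X} :=
  ⟨fun hu hb => ne_top hB (Ideal.eq_top_of_isUnit_mem _ hb hu),
    fun h => (mem_or_isUnit hB b).resolve_right h⟩

theorem isUnit_aeval_of_unit {p : R[X]} (hp : IsUnit (p.coeff 0)) :
    IsUnit (algebraMap R[X] B p) := by
  refine isUnit_of_const hB hp ?_
  rw [← map_sub, show C (p.coeff 0) - p = -p.divX * X by
    linear_combination divX_mul_X_add p, map_mul]
  exact Ideal.mul_mem_left _ _ (Ideal.mem_span_singleton_self _)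

end

end Groth.Agent.CAlg8.Weier
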