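import Groth.Agent.CAlg8.Weierstrass
import Groth.Agent.S19568

/-! Weierstrass preparation: existence. -/

set_option autoImplicit false

universe u

open Polynomial IsLocalRing

namespace Groth.Agent.CAlg8.Weier

/-- Quasi-finiteness at `P` from finiteness of the fibre modulo `s`, where `c • s` dies outside `P`. -/
theorem weaklyQuasiFiniteAt_of_finite {A : Type u} [CommRing A] (I : Ideal A) {E : Type u}
    [CommRing E] [Algebra A E] (P : Ideal E) [P.IsPrime] (hP : I.map (algebraMap A E) ≤ P)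
    {c s : E} (hc : c ∉ P) (hcs : c * s ∈ I.map (algebraMap A E))
    [Module.Finite A (E ⧸ (I.map (algebraMap A E) ⊔ Ideal.span {s}))] :
    Algebra.WeaklyQuasiFiniteAt A P := by
  rw [Algebra.weaklyQuasiFiniteAt_iff]
  set N := I.map (algebraMap A E) ⊔ Ideal.span {s}
  let S₀ := E ⧸ N
  let T := Localization.AtPrime P ⧸ (P.under A).map (algebraMap A (Localization.AtPrime P))
  have : Algebra.QuasiFinite E T :=
    have : Algebra.QuasiFinite E (Localization.AtPrime P) :=
      Algebra.QuasiFinite.of_isLocalization P.primeCompl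
    inferInstance
  have hI : I.map (algebraMap A E) ≤ RingHom.ker (algebraMap E T) := by
    rw [Ideal.map_le_iff_le_comap]
    intro a ha
    show algebraMap E T (algebraMap A E a) = 0
    rw [← IsScalarTower.algebraMap_apply A E T,
      IsScalarTower.algebraMap_apply A (Localization.AtPrime P) T, Ideal.Quotient.algebraMap_eq,
      Ideal.Quotient.eq_zero_iff_mem]
    exact Ideal.mem_map_of_mem _ (hP (Ideal.mem_map_of_mem _ ha))
  have hu : IsUnit (algebraMap E T c) := by
    rw [IsScalarTower.algebraMap_apply E (Localization.AtPrime P) T]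
    exact (IsLocalization.map_units (Localization.AtPrime P) (⟨c, hc⟩ : P.primeCompl)).map _
  have hle : N ≤ RingHom.ker (algebraMap E T) := by
    refine sup_le hI ((Ideal.span_singleton_le_iff_mem _).mpr ?_)
    have := hI hcs
    rw [RingHom.mem_ker, map_mul] at this
    exact (hu.mul_right_eq_zero).mp this
  let _ : Algebra S₀ T := (Ideal.Quotient.lift _ (algebraMap E T) hle).toAlgebra
  have : IsScalarTower E S₀ T := IsScalarTower.of_algebraMap_eq fun _ => rfl
  have : IsScalarTower A S₀ T := IsScalarTower.of_algebraMap_eq fun a => by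
    rw [IsScalarTower.algebraMap_apply A E T a, IsScalarTower.algebraMap_apply A E S₀ a,
      ← IsScalarTower.algebraMap_apply E S₀ T]
  have : Algebra.QuasiFinite S₀ T := Algebra.QuasiFinite.of_restrictScalars E S₀ T
  exact Algebra.QuasiFinite.trans A S₀ T

variable {R : Type u} [CommRing R] {B : Type u} [CommRing B] [Algebra R[X] B]

section Stage

variable {C : Type u} [CommRing C] [Algebra R[X] C] [Algebra R C] [IsScalarTower R R[X] C]

theorem exists_poly_sub_mem
    (hC : ∀ c : C, ∃ r : R, c - algebraMap R[X] C (Polynomial.C r) ∈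
      Ideal.span {algebraMap R[X] C X}) (d : ℕ) (c : C) :
    ∃ q : R[X], c - algebraMap R[X] C q ∈ Ideal.span {(algebraMap R[X] C X) ^ d} := by
  induction d with
  | zero => exact ⟨0, by simp⟩
  | succ d ih =>
    obtain ⟨q, hq⟩ := ih
    obtain ⟨z, hz⟩ := Ideal.mem_span_singleton'.mp hq
    obtain ⟨r, hr⟩ := hC z
    obtain ⟨y, hy⟩ := Ideal.mem_span_singleton'.mp hr
    refine ⟨q + Polynomial.C r * X ^ d, Ideal.mem_span_singleton'.mpr ⟨y, ?_⟩⟩
    rw [map_add, map_mul, map_pow]
    linear_combination hz + (algebraMap R[X] C X) ^ d * hy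

theorem finite_quotient
    (hC : ∀ c : C, ∃ r : R, c - algebraMap R[X] C (Polynomial.C r) ∈
      Ideal.span {algebraMap R[X] C X}) (d : ℕ) (N : Ideal C)
    (hN : (algebraMap R[X] C X) ^ d ∈ N) : Module.Finite R (C ⧸ N) := by
  have : Module.Finite R (AdjoinRoot ((X : R[X]) ^ d)) := (monic_X_pow d).finite_adjoinRoot
  have h0 : eval₂ (Algebra.ofId R (C ⧸ N)).toRingHom
      (Ideal.Quotient.mk N (algebraMap R[X] C X)) ((X : R[X]) ^ d) = 0 := by
    rw [eval₂_pow, eval₂_X, ← map_pow, Ideal.Quotient.eq_zero_iff_mem]; exact hN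
  let j : AdjoinRoot ((X : R[X]) ^ d) →ₐ[R] C ⧸ N :=
    AdjoinRoot.liftAlgHom _ (Algebra.ofId R (C ⧸ N)) _ h0
  refine Module.Finite.of_surjective j.toLinearMap fun z => ?_
  obtain ⟨c, rfl⟩ := Ideal.Quotient.mk_surjective z
  obtain ⟨q, hq⟩ := exists_poly_sub_mem hC d c
  refine ⟨aeval (AdjoinRoot.root ((X : R[X]) ^ d)) q, ?_⟩
  show j (aeval (AdjoinRoot.root ((X : R[X]) ^ d)) q) = _
  rw [← aeval_algHom_apply, show j (AdjoinRoot.root ((X : R[X]) ^ d)) =
    Ideal.Quotient.mkₐ R N (IsScalarTower.toAlgHom R R[X] C X) from AdjoinRoot.lift_root h0,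
    aeval_algHom_apply, aeval_algHom_apply, aeval_X_left_apply]
  exact (Ideal.Quotient.eq.mpr ((Ideal.span_singleton_le_iff_mem _).mpr hN hq)).symm

end Stage

variable [HenselianLocalRing R] (hB : Hens2.IsPairHenselization R[X] (Ideal.span {(X : R[X])}) B)
include hB

/-- `f ≡ t^d w` mod `mB`, and the image of `t` is integral modulo `f`. -/
theorem order_and_integral (f : B) (hf : f ∉ mB (R := R) B) :
    ∃ (d : ℕ) (w : B), IsUnit w ∧ f - (algebraMap R[X] B X) ^ d * w ∈ mB (R := R) B ∧
      ∃ p : R[X], p.Monic ∧ algebraMap R[X] B p ∈ Ideal.span {f} := by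
  set m := maximalIdeal R
  obtain ⟨C, _, _, _, hbij, φ, s, rfl⟩ := (S19568.result R[X] _ B hB).2.1 f
  let : Algebra R C := ((algebraMap R[X] C).comp Polynomial.C).toAlgebra
  have hT : IsScalarTower R R[X] C := IsScalarTower.of_algebraMap_eq' rfl
  have : Algebra.FiniteType R C := Algebra.FiniteType.trans (R := R) (S := R[X]) (A := C) inferInstance inferInstance
  set t := algebraMap R[X] C X
  have hC : ∀ c : C, ∃ r : R, c - algebraMap R[X] C (Polynomial.C r) ∈ Ideal.span {t} := by
    intro c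
    obtain ⟨z, hz⟩ := hbij.2 (Ideal.Quotient.mk _ c)
    obtain ⟨q, rfl⟩ := Ideal.Quotient.mk_surjective z
    refine ⟨q.coeff 0, ?_⟩
    rw [Ideal.quotientMap_mk, eq_comm, Ideal.Quotient.eq, Ideal.map_span, Set.image_singleton] at hz
    rw [show Polynomial.C (q.coeff 0) = q - q.divX * X by
      linear_combination (divX_mul_X_add q), map_sub, map_mul, sub_sub_eq_add_sub, add_sub_right_comm]
    exact add_mem hz (Ideal.mul_mem_left _ _ (Ideal.mem_span_singleton_self _))
  set mC := m.map (algebraMap R C)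
  have hmB : mC.map φ = mB (R := R) B := by
    show Ideal.map φ.toRingHom (m.map (algebraMap R C)) = _
    rw [Ideal.map_map, mB, Ideal.map_map]
    congr 1
    exact RingHom.ext fun r => φ.commutes (Polynomial.C r)
  set 𝔐 : Ideal B := mB (R := R) B ⊔ Ideal.span {algebraMap R[X] B X}
  have hq : 𝔐.IsPrime := by
    refine ⟨ne_top hB, fun {a b} hab => ?_⟩
    by_contra h
    push Not at h
    exact (isUnit_iff hB _).mp (((isUnit_iff hB a).mpr h.1).mul ((isUnit_iff hB b).mpr h.2)) hab
  have hunit : ∀ c : C, c ∉ 𝔐.comap φ → IsUnit (φ c) := fun c hc => (isUnit_iff hB _).mpr hc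
  -- Krull intersection in `C/mC`
  let C₀ := C ⧸ mC
  have : Algebra.FiniteType R C₀ :=
    Algebra.FiniteType.of_surjective (Ideal.Quotient.mkₐ R mC) Ideal.Quotient.mk_surjective
  have hnoeth : IsNoetherianRing C₀ := by
    let _ : Algebra (R ⧸ m) C₀ := (Ideal.quotientMap mC (algebraMap R C) Ideal.le_comap_map).toAlgebra
    have : IsScalarTower R (R ⧸ m) C₀ := IsScalarTower.of_algebraMap_eq fun _ => rfl
    have : Algebra.FiniteType (R ⧸ m) C₀ :=
      Algebra.FiniteType.of_restrictScalars_finiteType R (R ⧸ m) C₀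
    let _ := Ideal.Quotient.field m
    exact Algebra.FiniteType.isNoetherianRing (R ⧸ m) C₀
  let x₀ : C₀ := Ideal.Quotient.mk mC s
  let t₀ : C₀ := Ideal.Quotient.mk mC t
  have hex : ∃ n, ¬ t₀ ^ n ∣ x₀ := by
    by_contra hne
    push Not at hne
    have : x₀ ∈ (⨅ n : ℕ, (Ideal.span {t₀}) ^ n • (⊤ : Submodule C₀ C₀)) := by
      rw [Submodule.mem_iInf]
      intro n
      rw [Ideal.span_singleton_pow, smul_eq_mul, Ideal.mul_top]
      exact Ideal.mem_span_singleton.mpr (hne n)
    obtain ⟨⟨r, hr⟩, hrx⟩ := (Ideal.mem_iInf_smul_pow_eq_bot_iff _ x₀).mp this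
    obtain ⟨y, hy⟩ := Ideal.mem_span_singleton'.mp hr
    obtain ⟨z, rfl⟩ := Ideal.Quotient.mk_surjective y
    subst hy
    have h1 : (1 - z * t) * s ∈ mC := by
      rw [← Ideal.Quotient.eq_zero_iff_mem, map_mul, map_sub, map_one, map_mul]
      have : Ideal.Quotient.mk mC z * t₀ * x₀ = x₀ := hrx
      linear_combination -this
    have h2 := Ideal.mem_map_of_mem φ h1
    rw [hmB, map_mul] at h2
    refine hf ((Ideal.unit_mul_mem_iff_mem _ (hunit _ fun h => ne_top hB ((Ideal.eq_top_iff_one _).mpr ?_))).mp h2)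
    rw [Ideal.mem_comap, map_sub, map_one, map_mul, AlgHom.commutes] at h
    have := add_mem h (Submodule.mem_sup_right (S := mB (R := R) B)
      (Ideal.mul_mem_left _ (φ z) (Ideal.mem_span_singleton_self (algebraMap R[X] B X))))
    rwa [sub_add_cancel] at this
  classical
  obtain ⟨d, hd⟩ : ∃ d, Nat.find hex = d + 1 := by
    refine ⟨Nat.find hex - 1, (Nat.succ_pred_eq_of_pos ?_).symm⟩
    rw [Nat.find_pos]; simp
  obtain ⟨c₀, hc₀⟩ : t₀ ^ d ∣ x₀ := not_not.mp (Nat.find_min hex (show d < Nat.find hex by omega))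
  obtain ⟨c, rfl⟩ := Ideal.Quotient.mk_surjective c₀
  have hsc : s - t ^ d * c ∈ mC := by
    rw [← Ideal.Quotient.eq, map_mul, map_pow]; exact hc₀
  have hc : c ∉ 𝔐.comap φ := by
    intro hc
    obtain ⟨r, hr⟩ := hC c
    obtain ⟨z, hz⟩ := Ideal.mem_span_singleton'.mp hr
    by_cases hrm : r ∈ m
    · refine Nat.find_spec hex ⟨Ideal.Quotient.mk mC z, ?_⟩
      have : Ideal.Quotient.mk mC (algebraMap R[X] C (Polynomial.C r)) = 0 :=
        Ideal.Quotient.eq_zero_iff_mem.mpr (Ideal.mem_map_of_mem (algebraMap R C) hrm)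
      have e : Ideal.Quotient.mk mC c = Ideal.Quotient.mk mC z * t₀ := by
        rw [show c = z * t + algebraMap R[X] C (Polynomial.C r) by linear_combination -hz,
          map_add, this, add_zero, map_mul]
      rw [hd, hc₀, e, pow_succ]
      ring
    · refine (isUnit_iff hB _).mp (isUnit_of_const hB (notMem_maximalIdeal.mp hrm) ?_) hc
      rw [Ideal.mem_span_singleton']
      refine ⟨-φ z, ?_⟩
      rw [← φ.commutes X, ← φ.commutes (Polynomial.C r), neg_mul, ← map_mul, hz, map_sub]
      ring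
  refine ⟨d, φ c, hunit _ hc, ?_, ?_⟩
  · rw [← φ.commutes X, ← map_pow, ← map_mul, ← map_sub, ← hmB]
    exact Ideal.mem_map_of_mem φ hsc
  -- Zariski's main theorem
  by_cases hfu : IsUnit (φ s)
  · exact ⟨1, monic_one, by rw [Ideal.span_singleton_eq_top.mpr hfu]; trivial⟩
  set q := 𝔐.comap φ
  have hsq : s ∈ q := by
    by_contra h; exact hfu (hunit s h)
  let E := C ⧸ Ideal.span {s}
  let π := Ideal.Quotient.mk (Ideal.span {s})
  have hker : RingHom.ker π ≤ q := by
    rw [Ideal.mk_ker]; exact (Ideal.span_singleton_le_iff_mem _).mpr hsq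
  set P := q.map π
  have : P.IsPrime := Ideal.map_isPrime_of_surjective Ideal.Quotient.mk_surjective hker
  have hPq : ∀ x, π x ∈ P → x ∈ q := fun x hx => by
    rwa [← Ideal.mem_comap, Ideal.comap_map_of_surjective _ Ideal.Quotient.mk_surjective,
      ← RingHom.ker_eq_comap_bot, sup_eq_left.mpr hker] at hx
  have hmE : m.map (algebraMap R E) = mC.map π := by rw [Ideal.map_map]; rfl
  have hmCq : mC ≤ q := Ideal.map_le_iff_le_comap.mp (hmB.le.trans le_sup_left)
  have hfin : Module.Finite R (E ⧸ (m.map (algebraMap R E) ⊔ Ideal.span {π t ^ d})) := by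
    have := finite_quotient hC d (mC ⊔ Ideal.span {t ^ d})
      (Submodule.mem_sup_right (Ideal.mem_span_singleton_self _))
    let g : C →ₐ[R] E ⧸ (m.map (algebraMap R E) ⊔ Ideal.span {π t ^ d}) :=
      (Ideal.Quotient.mkₐ R _).comp (Ideal.Quotient.mkₐ R _)
    have hg : ∀ x ∈ mC ⊔ Ideal.span {t ^ d}, g x = 0 := fun x hx => by
      refine Ideal.Quotient.eq_zero_iff_mem.mpr ?_
      have := Ideal.mem_map_of_mem π hx
      rwa [Ideal.map_sup, ← hmE, Ideal.map_span, Set.image_singleton, map_pow] at this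
    exact Module.Finite.of_surjective (Ideal.Quotient.liftₐ _ g hg).toLinearMap fun z => by
      obtain ⟨y, rfl⟩ := Ideal.Quotient.mk_surjective z
      obtain ⟨x, rfl⟩ := Ideal.Quotient.mk_surjective y
      exact ⟨Ideal.Quotient.mk _ x, rfl⟩
  have hcs : π c * π t ^ d ∈ m.map (algebraMap R E) := by
    rw [hmE, ← map_pow, ← map_mul]
    have := Ideal.mem_map_of_mem π hsc
    rw [map_sub, show π s = 0 from Ideal.Quotient.eq_zero_iff_mem.mpr
      (Ideal.mem_span_singleton_self s), zero_sub, neg_mem_iff, mul_comm] at this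
    exact this
  have : Algebra.WeaklyQuasiFiniteAt R P := weaklyQuasiFiniteAt_of_finite m P
    (hmE.le.trans (Ideal.map_mono hmCq)) (fun h => hc (hPq c h)) hcs
  obtain ⟨r', hr', hri, hall⟩ := Algebra.zariskisMainProperty_iff.mp
    (Algebra.ZariskisMainProperty.of_finiteType_of_weaklyQuasiFiniteAt (R := R) (S := E) P)
  obtain ⟨r, rfl⟩ := Ideal.Quotient.mk_surjective r'
  let : Algebra R B := ((algebraMap R[X] B).comp Polynomial.C).toAlgebra
  have : IsScalarTower R R[X] B := IsScalarTower.of_algebraMap_eq' rfl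
  let F := B ⧸ Ideal.span {φ s}
  let ρ : E →ₐ[R] F := Ideal.Quotient.liftₐ _ ((Ideal.Quotient.mkₐ R _).comp (φ.restrictScalars R))
    fun x hx => by
      obtain ⟨y, rfl⟩ := Ideal.mem_span_singleton'.mp hx
      refine Ideal.Quotient.eq_zero_iff_mem.mpr ?_
      show φ (y * s) ∈ _
      rw [map_mul]; exact Ideal.mul_mem_left _ _ (Ideal.mem_span_singleton_self _)
  have hru : IsUnit (φ r) := hunit r fun h => hr' (Ideal.mem_map_of_mem π h)
  set x : F := ρ (π r)
  have hx : IsUnit x := hru.map (Ideal.Quotient.mk _)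
  have hxi : IsIntegral R x := hri.map ρ
  obtain ⟨p, hp, hpx⟩ := hxi
  obtain ⟨e, p₁, p₂, hpp, hp₁, hp₁e, hp₂⟩ := exists_factor p hp
  have hp₁x : IsUnit (aeval x p₁) := by
    have h1 : aeval x p₁ = Ideal.Quotient.mk _ (aeval (φ r) p₁) := by
      exact aeval_algHom_apply (Ideal.Quotient.mkₐ R (Ideal.span {φ s})) (φ r) p₁
    rw [h1]
    refine IsUnit.map _ ((isUnit_iff hB _).mpr fun h => (isUnit_iff hB _).mp (hru.pow e) ?_)
    have h2 : p₁ - X ^ e ∈ m.map Polynomial.C := by
      rw [Ideal.mem_map_C_iff]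
      intro i
      rw [← Ideal.Quotient.eq_zero_iff_mem, coeff_sub, map_sub, ← coeff_map, ← coeff_map,
        hp₁e, Polynomial.map_pow, map_X, sub_self]
    have h3 : aeval (φ r) p₁ - φ r ^ e ∈ mB (R := R) B := by
      have := Ideal.mem_map_of_mem (aeval (R := R) (φ r)).toRingHom h2
      rw [Ideal.map_map] at this
      rw [mB, Ideal.map_map]
      simpa using (show (Ideal.map ((aeval (R := R) (φ r)).toRingHom.comp Polynomial.C) m) ≤
        Ideal.map ((algebraMap R[X] B).comp Polynomial.C) m by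
          rw [show (aeval (R := R) (φ r)).toRingHom.comp Polynomial.C = algebraMap R B from
            (aeval (R := R) (φ r)).comp_algebraMap]
          exact le_rfl) this
    rw [show φ r ^ e = aeval (φ r) p₁ - (aeval (φ r) p₁ - φ r ^ e) by ring]
    exact sub_mem h (Submodule.mem_sup_left h3)
  have hp₂x : aeval x p₂ = 0 := by
    have : aeval x p = 0 := hpx
    rw [hpp, map_mul] at this
    exact hp₁x.mul_right_eq_zero.mp this
  obtain ⟨v, hv⟩ := hp₂.exists_left_inv
  set xi : F := -(algebraMap R F v * aeval x p₂.divX)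
  have hxi1 : xi * x = 1 := by
    have h1 := congrArg (aeval x) (divX_mul_X_add p₂)
    rw [map_add, map_mul, aeval_X, aeval_C, hp₂x] at h1
    have h2 : algebraMap R F v * algebraMap R F (p₂.coeff 0) = 1 := by rw [← map_mul, hv, map_one]
    linear_combination (-(algebraMap R F v)) * h1 + h2
  have hxxi : IsIntegral R xi := by
    have hmem : xi ∈ Algebra.adjoin R {x} :=
      neg_mem (mul_mem (algebraMap_mem _ _) (aeval_mem_adjoin_singleton R x))
    exact (adjoin_le_integralClosure ⟨p, hp, hpx⟩) hmem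
  obtain ⟨n, hn⟩ := hall (π t)
  have hti : IsIntegral R (Ideal.Quotient.mk (Ideal.span {φ s}) (algebraMap R[X] B X)) := by
    have := (hxxi.pow n).mul (hn.map ρ)
    rw [map_mul, map_pow, ← mul_assoc, ← mul_pow, hxi1, one_pow, one_mul] at this
    rwa [← φ.commutes X]
  obtain ⟨Q, hQ, hQ0⟩ := hti
  refine ⟨Q, hQ, ?_⟩
  rw [← Ideal.Quotient.eq_zero_iff_mem, ← hQ0]
  change _ = aeval (Ideal.Quotient.mkₐ R _ (IsScalarTower.toAlgHom R R[X] B X)) Q
  rw [aeval_algHom_apply, aeval_algHom_apply, aeval_X_left_apply]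
  rfl

end Groth.Agent.CAlg8.Weier
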