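import Groth.Agent.CAlg8.WeierstrassFinite

/-! Weierstrass preparation: the theorem. -/

set_option autoImplicit false

universe u

open Polynomial IsLocalRing

namespace Groth.Agent.CAlg8.Weier

variable {R : Type u} [CommRing R] [HenselianLocalRing R] {B : Type u} [CommRing B] [Algebra R[X] B]
  (hB : Hens2.IsPairHenselization R[X] (Ideal.span {(X : R[X])}) B)
include hB

omit hB in
theorem sub_pow_mem {P : R[X]} (h : Dist P) :
    algebraMap R[X] B P - (algebraMap R[X] B X) ^ P.natDegree ∈ mB (R := R) B := by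
  rw [← map_pow, ← map_sub]; exact Ideal.mem_map_of_mem _ h.sub_mem

theorem not_pow_mem (n : ℕ) : (algebraMap R[X] B X) ^ n ∉ mB (R := R) B := fun h => by
  have := coeff_mem_of_mem hB (n := n + 1) (q := X ^ n)
    (Submodule.mem_sup_left (by rwa [map_pow])) n.lt_succ_self
  rw [coeff_X_pow_self] at this
  exact (maximalIdeal.isMaximal R).ne_top ((Ideal.eq_top_iff_one _).mpr this)

/-- Existence. -/
theorem exists_dist (f : B) (hf : f ∉ mB (R := R) B) :
    ∃ P : R[X], Dist P ∧ ∃ u : Bˣ, f = algebraMap R[X] B P * u := by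
  set m := maximalIdeal R
  set t := algebraMap R[X] B X
  obtain ⟨d, w, hw, hfw, Q, hQ, hQf⟩ := order_and_integral hB f hf
  -- a distinguished multiple of `f`
  obtain ⟨e, Q₁, Q₂, rfl, hQ₁, hQ₁e, hQ₂⟩ := exists_factor Q hQ
  have hD := dist_of_map hQ₁ hQ₁e
  rw [map_mul] at hQf
  replace hQf := (Ideal.mul_unit_mem_iff_mem _ (isUnit_aeval_of_unit hB hQ₂)).mp hQf
  let : Algebra R B := ((algebraMap R[X] B).comp Polynomial.C).toAlgebra
  have : IsScalarTower R R[X] B := IsScalarTower.of_algebraMap_eq' rfl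
  set K : Ideal B := Ideal.span {f}
  let π : B →ₐ[R] B ⧸ K := Ideal.Quotient.mkₐ R K
  have hπsurj : Function.Surjective π := Ideal.Quotient.mk_surjective
  have hrep : ∀ b : B, ∃ q : R[X], π b = π (algebraMap R[X] B q) := fun b => by
    obtain ⟨q, hq⟩ := (quotient_dist hB hD).2.2 b
    refine ⟨q, (Ideal.Quotient.eq.mpr ?_).symm⟩
    exact (Ideal.span_singleton_le_iff_mem _).mpr hQf hq
  have : Module.Finite R (AdjoinRoot Q₁) := hQ₁.finite_adjoinRoot
  have h0 : eval₂ (Algebra.ofId R (B ⧸ K)).toRingHom (π t) Q₁ = 0 := by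
    change aeval (π (IsScalarTower.toAlgHom R R[X] B X)) Q₁ = 0
    rw [aeval_algHom_apply, aeval_algHom_apply, aeval_X_left_apply]
    exact Ideal.Quotient.eq_zero_iff_mem.mpr hQf
  let j : AdjoinRoot Q₁ →ₐ[R] B ⧸ K := AdjoinRoot.liftAlgHom Q₁ (Algebra.ofId R _) (π t) h0
  have haev : ∀ q : R[X], π (algebraMap R[X] B q) = aeval (π t) q := fun q => by
    show _ = aeval (π (IsScalarTower.toAlgHom R R[X] B X)) q
    rw [aeval_algHom_apply, aeval_algHom_apply, aeval_X_left_apply]; rfl
  have hfin : Module.Finite R (B ⧸ K) := Module.Finite.of_surjective j.toLinearMap fun z => by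
    obtain ⟨b, rfl⟩ := hπsurj z
    obtain ⟨q, hq⟩ := hrep b
    refine ⟨aeval (AdjoinRoot.root Q₁) q, ?_⟩
    show j (aeval (AdjoinRoot.root Q₁) q) = _
    rw [← aeval_algHom_apply, show j (AdjoinRoot.root Q₁) = π t from AdjoinRoot.lift_root h0, hq]
    exact (haev q).symm
  -- Nakayama
  let N : Submodule R (B ⧸ K) := (Polynomial.degreeLT R d).map (aeval (π t)).toLinearMap
  have htd : π t ^ d ∈ m • (⊤ : Submodule R (B ⧸ K)) := by
    rw [Ideal.smul_top_eq_map, Submodule.restrictScalars_mem]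
    have h1 := Ideal.mem_map_of_mem π hfw
    rw [show (mB (R := R) B).map π = m.map (algebraMap R (B ⧸ K)) by
      rw [show mB (R := R) B = m.map (algebraMap R B) from Ideal.map_map _ _]
      show (m.map (algebraMap R B)).map π.toRingHom = _
      rw [Ideal.map_map]; rfl] at h1
    rw [map_sub, show π f = 0 from Ideal.Quotient.eq_zero_iff_mem.mpr (Ideal.mem_span_singleton_self f),
      zero_sub, neg_mem_iff, map_mul, map_pow] at h1
    exact (Ideal.mul_unit_mem_iff_mem _ (hw.map π)).mp h1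
  have htop : (⊤ : Submodule R (B ⧸ K)) ≤ N ⊔ m • ⊤ := by
    rintro z -
    obtain ⟨b, rfl⟩ := hπsurj z
    obtain ⟨q, hq⟩ := (quotient_dist hB (dist_X_pow d)).2.2 b
    obtain ⟨c, hc⟩ := Ideal.mem_span_singleton'.mp hq
    have hqd : q %ₘ X ^ d ∈ Polynomial.degreeLT R d := by
      rw [Polynomial.mem_degreeLT]
      calc (q %ₘ X ^ d).degree < (X ^ d : R[X]).degree := degree_modByMonic_lt _ (monic_X_pow d)
        _ = d := degree_X_pow d
    refine Submodule.mem_sup.mpr ⟨_, ⟨_, hqd, rfl⟩, π b - aeval (π t) (q %ₘ X ^ d), ?_,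
      add_sub_cancel _ _⟩
    rw [map_pow] at hc
    have e : π b - aeval (π t) (q %ₘ X ^ d) = π t ^ d * (aeval (π t) (q /ₘ X ^ d) - π c) := by
      have h1 := congrArg (aeval (π t)) (modByMonic_add_div q (X ^ d : R[X]))
      have h2 := congrArg π hc
      rw [map_add, map_mul, map_pow, aeval_X] at h1
      rw [map_mul, map_pow, map_sub] at h2
      linear_combination -h1 + h2 + haev q
    rw [e, Ideal.smul_top_eq_map, Submodule.restrictScalars_mem] at *
    exact Ideal.mul_mem_right _ _ htd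
  have hN : ∀ z, z ∈ N := fun z => Submodule.le_of_le_smul_of_le_jacobson_bot Module.Finite.fg_top
    (IsLocalRing.maximalIdeal_le_jacobson _) htop (Submodule.mem_top (x := z))
  obtain ⟨c, hc, hct⟩ := hN (π t ^ d)
  rw [SetLike.mem_coe, Polynomial.mem_degreeLT] at hc
  set P : R[X] := X ^ d - c
  have hPm : P.Monic := monic_X_pow_sub hc
  have hPd : P.natDegree = d := natDegree_eq_of_degree_eq_some (by
    rw [degree_sub_eq_left_of_degree_lt (by rwa [degree_X_pow]), degree_X_pow])
  have hPK : algebraMap R[X] B P ∈ K := by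
    refine Ideal.Quotient.eq_zero_iff_mem.mp ?_
    show π (algebraMap R[X] B P) = 0
    rw [haev, map_sub, map_pow, aeval_X]
    exact sub_eq_zero.mpr hct.symm
  obtain ⟨v, hv⟩ := Ideal.mem_span_singleton'.mp hPK
  -- `P ≡ t ^ d * w * v` modulo `mB`
  have hcong : algebraMap R[X] B P - t ^ d * (w * v) ∈ mB (R := R) B := by
    rw [show algebraMap R[X] B P - t ^ d * (w * v) = v * (f - t ^ d * w) by rw [← hv]; ring]
    exact Ideal.mul_mem_left _ _ hfw
  have hlow : ∀ i, i < P.natDegree → P.coeff i ∈ m := fun i hi => by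
    refine coeff_mem_of_mem hB (n := d) ?_ (hPd ▸ hi)
    rw [show algebraMap R[X] B P = (algebraMap R[X] B P - t ^ d * (w * v)) + w * v * t ^ d by ring]
    exact Submodule.add_mem_sup hcong (Ideal.mul_mem_left _ _ (Ideal.mem_span_singleton_self _))
  have hP : Dist P := ⟨hPm, hlow⟩
  have hvu : IsUnit v := by
    by_contra h
    have h1 : IsUnit (1 - w * v) := by
      refine (isUnit_iff hB _).mpr fun h2 => ne_top hB ((Ideal.eq_top_iff_one _).mpr ?_)
      rw [← sub_add_cancel 1 (w * v)]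
      exact add_mem h2 (Ideal.mul_mem_left _ _ (not_not.mp (mt (isUnit_iff hB v).mpr h)))
    refine not_pow_mem hB d ((Ideal.mul_unit_mem_iff_mem _ h1).mp ?_)
    have h3 := sub_pow_mem (B := B) hP
    rw [hPd] at h3
    rw [show t ^ d * (1 - w * v) = (algebraMap R[X] B P - t ^ d * (w * v)) -
      (algebraMap R[X] B P - t ^ d) by ring]
    exact sub_mem hcong h3
  refine ⟨P, hP, hvu.unit⁻¹, ?_⟩
  rw [← hv, mul_comm v f, mul_assoc, IsUnit.mul_val_inv, mul_one]

/-- Uniqueness. -/
theorem dist_unique {P P' : R[X]} (hP : Dist P) (hP' : Dist P') {u u' : Bˣ}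
    (h : algebraMap R[X] B P * u = algebraMap R[X] B P' * u') : P = P' ∧ u = u' := by
  have h1 : P' ∣ P := (quotient_dist hB hP').2.1 P
    ((Ideal.mul_unit_mem_iff_mem _ u.isUnit).mp
      (h ▸ Ideal.mul_mem_right _ _ (Ideal.mem_span_singleton_self _)))
  have h2 : P ∣ P' := (quotient_dist hB hP).2.1 P'
    ((Ideal.mul_unit_mem_iff_mem _ u'.isUnit).mp
      (h ▸ Ideal.mul_mem_right _ _ (Ideal.mem_span_singleton_self _)))
  obtain rfl : P = P' := by
    obtain ⟨a, ha⟩ := h1
    obtain ⟨b, hb⟩ := h2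
    have hda : a.Monic := hP'.monic.of_mul_monic_left (ha ▸ hP.monic)
    have hdb : b.Monic := hP.monic.of_mul_monic_left (hb ▸ hP'.monic)
    have e1 := congrArg natDegree ha
    have e2 := congrArg natDegree hb
    rw [hP'.monic.natDegree_mul hda] at e1
    rw [hP.monic.natDegree_mul hdb] at e2
    rw [ha, (Polynomial.Monic.natDegree_eq_zero hda).mp (by omega), mul_one]
  refine ⟨rfl, Units.ext ?_⟩
  have := Hens22.pairHens_flat hB
  exact (IsSMulRegular.of_flat (S := B) (hP.monic.isRegular.left : IsSMulRegular R[X] P)) h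

end Groth.Agent.CAlg8.Weier
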