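import Mathlib.RingTheory.WittVector.Identities
import Mathlib.RingTheory.WittVector.InitTail
import Mathlib.RingTheory.WittVector.Truncated
import Mathlib.RingTheory.WittVector.Teichmuller
import Mathlib.RingTheory.AdicCompletion.Basic
import Mathlib.RingTheory.Ideal.Quotient.Operations
import Mathlib.RingTheory.Ideal.Span

set_option autoImplicit false

namespace Groth.Agent.CAlg8.Witt

universe u

open WittVector

variable {p : ℕ} [hp : Fact p.Prime] {R : Type u} [CommRing R]

theorem ghostComponent_eq_sum (x : WittVector p R) (n : ℕ) :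
    ghostComponent n x = ∑ i ∈ Finset.range (n + 1), (p : R) ^ i * x.coeff i ^ p ^ (n - i) := by
  simp [ghostComponent_apply, aeval_wittPolynomial]

theorem eq_iterate_verschiebung {x : WittVector p R} {n : ℕ} (h : ∀ i < n, x.coeff i = 0) :
    x = (verschiebung)^[n] (mk p fun i => x.coeff (i + n)) := by
  ext i
  by_cases hi : i < n
  · rw [h i hi, iterate_verschiebung_coeff_eq_zero _ hi]
  · obtain ⟨k, rfl⟩ := Nat.exists_eq_add_of_le' (not_lt.1 hi)
    rw [iterate_verschiebung_coeff, coeff_mk]

theorem exists_verschiebung {x : WittVector p R} (h : constantCoeff x = 0) :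
    ∃ y, x = verschiebung y := by
  refine ⟨_, eq_iterate_verschiebung (n := 1) fun i hi => ?_⟩
  rw [Nat.lt_one_iff.mp hi]; exact h

theorem verschiebung_mem (y : WittVector p R) :
    verschiebung y ∈ RingHom.ker (constantCoeff : WittVector p R →+* R) := by
  rw [RingHom.mem_ker]; exact verschiebung_coeff_zero y

/-- `V x * V y = p * V (x * y)`. -/
theorem verschiebung_mul_verschiebung (x y : WittVector p R) :
    verschiebung x * verschiebung y = (p : WittVector p R) * verschiebung (x * y) := by
  rw [← verschiebung_mul_frobenius, frobenius_verschiebung, ← mul_assoc, mul_comm _ (p : WittVector p R),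
    ← nsmul_eq_mul, map_nsmul, nsmul_eq_mul]

theorem natCast_pow_mul_verschiebung (a k : ℕ) (x : WittVector p R) :
    ((a : WittVector p R) ^ k) * verschiebung x = verschiebung ((a : WittVector p R) ^ k * x) := by
  rw [← Nat.cast_pow, ← nsmul_eq_mul, ← nsmul_eq_mul, map_nsmul]

theorem natCast_pow_mul_iterate_verschiebung (a k n : ℕ) (x : WittVector p R) :
    ((a : WittVector p R) ^ k) * (verschiebung)^[n] x = (verschiebung)^[n] ((a : WittVector p R) ^ k * x) := by
  induction n with
  | zero => rfl
  | succ n ih => rw [Function.iterate_succ_apply', natCast_pow_mul_verschiebung, ih, Function.iterate_succ_apply']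

theorem ker_constantCoeff_pow_succ (m : ℕ) :
    (RingHom.ker (constantCoeff : WittVector p R →+* R)) ^ (m + 1) =
      Ideal.span {(p : WittVector p R) ^ m} * RingHom.ker (constantCoeff : WittVector p R →+* R) := by
  set I := RingHom.ker (constantCoeff : WittVector p R →+* R)
  have h2 : I * I = Ideal.span {(p : WittVector p R)} * I := by
    refine le_antisymm (Ideal.mul_le.mpr fun a ha b hb => ?_) (Ideal.span_singleton_mul_le_iff.mpr fun z hz => ?_)
    · obtain ⟨x, rfl⟩ := exists_verschiebung ha
      obtain ⟨y, rfl⟩ := exists_verschiebung hb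
      rw [verschiebung_mul_verschiebung]
      exact Ideal.mul_mem_mul (Ideal.mem_span_singleton_self _) (verschiebung_mem _)
    · obtain ⟨x, rfl⟩ := exists_verschiebung hz
      rw [← mul_one x, ← verschiebung_mul_verschiebung]
      exact Ideal.mul_mem_mul (verschiebung_mem _) (verschiebung_mem _)
  induction m with
  | zero => simp
  | succ m ih =>
    rw [pow_succ _ (m + 1), ih, mul_assoc, h2, ← mul_assoc, Ideal.span_singleton_mul_span_singleton,
      ← pow_succ]

theorem natCast_pow_mem_ker_truncate {N : ℕ} (hN : (p : R) ^ N = 0) (n : ℕ) :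
    (p : WittVector p R) ^ (N * n) ∈ RingHom.ker (truncate (p := p) (R := R) n) := by
  induction n with
  | zero => rw [mem_ker_truncate]; omega
  | succ n ih =>
    rw [mem_ker_truncate] at ih ⊢
    intro i hi
    rw [show N * (n + 1) = N + N * n by ring, pow_add, eq_iterate_verschiebung ih,
      natCast_pow_mul_iterate_verschiebung]
    rcases Nat.lt_succ_iff_lt_or_eq.mp hi with h | rfl
    · exact iterate_verschiebung_coeff_eq_zero _ h
    · have h0 := iterate_verschiebung_coeff ((p : WittVector p R) ^ N * mk p fun j => ((p : WittVector p R) ^ (N * i)).coeff (j + i)) i 0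
      rw [zero_add] at h0
      rw [h0, mul_coeff_zero]
      have : ((p : WittVector p R) ^ N).coeff 0 = 0 := by
        show constantCoeff ((p : WittVector p R) ^ N) = 0
        rw [map_pow, map_natCast, hN]
      rw [this, zero_mul]

section TorsionFree

variable (hR : ∀ y : R, (p : R) * y = 0 → y = 0)
include hR

omit hp in
theorem pow_cancel (k : ℕ) {y : R} (h : (p : R) ^ k * y = 0) : y = 0 := by
  induction k with
  | zero => simpa using h
  | succ k ih => exact ih (hR _ (by rw [← h]; ring))

theorem coeff_eq_of_ghostComponent_eq {x y : WittVector p R} {m : ℕ}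
    (h : ∀ n < m, ghostComponent n x = ghostComponent n y) : ∀ n < m, x.coeff n = y.coeff n := by
  intro n
  induction n using Nat.strong_induction_on with
  | _ n ih =>
    intro hn
    have := h n hn
    rw [ghostComponent_eq_sum, ghostComponent_eq_sum, Finset.sum_range_succ, Finset.sum_range_succ,
      Finset.sum_congr rfl (fun i hi => by rw [ih i (Finset.mem_range.mp hi) ((Finset.mem_range.mp hi).trans hn)]),
      add_right_inj, Nat.sub_self, pow_zero, pow_one, pow_one] at this
    exact sub_eq_zero.mp (pow_cancel hR n (by rw [mul_sub, this, sub_self]))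

theorem eq_of_ghostComponent_eq {x y : WittVector p R}
    (h : ∀ n, ghostComponent n x = ghostComponent n y) : x = y :=
  WittVector.ext fun n => coeff_eq_of_ghostComponent_eq hR (m := n + 1) (fun k _ => h k) n n.lt_succ_self

omit hR in
theorem pow_dvd_term {s : ℕ} (hs : 1 ≤ s) (i n : ℕ) (hi : i ≤ n) {a : R} (ha : (p : R) ^ s ∣ a) :
    (p : R) ^ (n + s) ∣ (p : R) ^ i * a ^ p ^ (n - i) := by
  have h1 : n - i < p ^ (n - i) := Nat.lt_pow_self hp.out.one_lt
  have h2 : n + s ≤ i + s * p ^ (n - i) := by nlinarith [Nat.sub_add_cancel hi]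
  refine (pow_dvd_pow _ h2).trans ?_
  rw [pow_add, pow_mul]
  exact mul_dvd_mul_left _ (pow_dvd_pow_of_dvd ha _)

theorem forall_dvd_coeff_iff (x : WittVector p R) (m : ℕ) {s : ℕ} (hs : 1 ≤ s) :
    (∀ i ≤ m, (p : R) ^ s ∣ x.coeff i) ↔ (∀ n ≤ m, (p : R) ^ (n + s) ∣ ghostComponent n x) := by
  constructor
  · intro h n hn
    rw [ghostComponent_eq_sum]
    refine Finset.dvd_sum fun i hi => ?_
    have hi' := Nat.lt_succ_iff.mp (Finset.mem_range.mp hi)
    exact pow_dvd_term hs i n hi' (h i (hi'.trans hn))
  · intro h n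
    induction n using Nat.strong_induction_on with
    | _ n ih =>
      intro hn
      have := h n hn
      rw [ghostComponent_eq_sum, Finset.sum_range_succ, Nat.sub_self, pow_zero, pow_one] at this
      rw [dvd_add_right (Finset.dvd_sum fun i hi => pow_dvd_term hs i n (Finset.mem_range.mp hi).le
        (ih i (Finset.mem_range.mp hi) ((Finset.mem_range.mp hi).le.trans hn)))] at this
      obtain ⟨c, hc⟩ := this
      refine ⟨c, sub_eq_zero.mp (pow_cancel hR n ?_)⟩
      rw [mul_sub, hc, pow_add]; ring

omit hR in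
/-- Witt vectors with prescribed, sufficiently divisible, ghost components exist. -/
theorem exists_of_ghostComponent (g : ℕ → R) (hg : ∀ n, (p : R) ^ (n + 1) ∣ g n) :
    ∃ x : WittVector p R, ∀ n, ghostComponent n x = g n := by
  classical
  have key : ∀ n, ∀ prev : (i : ℕ) → i < n → {a : R // (p : R) ∣ a},
      ∃ a : R, (p : R) ∣ a ∧
        (∑ i : Fin n, (p : R) ^ (i : ℕ) * (prev i i.2).1 ^ p ^ (n - i)) + (p : R) ^ n * a = g n := by
    intro n prev
    have h : (p : R) ^ (n + 1) ∣ g n - ∑ i : Fin n, (p : R) ^ (i : ℕ) * (prev i i.2).1 ^ p ^ (n - i) :=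
      dvd_sub (hg n) (Finset.dvd_sum fun i _ =>
        pow_dvd_term le_rfl (i : ℕ) n i.2.le ((pow_one (p : R)).symm ▸ (prev i i.2).2))
    obtain ⟨c, hc⟩ := h
    exact ⟨p * c, dvd_mul_right _ _, by rw [← mul_assoc, ← pow_succ, ← hc]; abel⟩
  let c : (n : ℕ) → {a : R // (p : R) ∣ a} := fun n =>
    Nat.strongRecOn n fun n prev => ⟨(key n prev).choose, (key n prev).choose_spec.1⟩
  refine ⟨WittVector.mk p fun n => (c n).1, fun n => ?_⟩
  rw [ghostComponent_eq_sum, Finset.sum_range_succ, ← Fin.sum_univ_eq_sum_range]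
  have hc : c n = ⟨(key n fun i _ => c i).choose, (key n fun i _ => c i).choose_spec.1⟩ := by
    show Nat.strongRecOn (motive := fun _ => {a : R // (p : R) ∣ a}) n _ = _
    rw [Nat.strongRecOn_eq]
  simp only [coeff_mk, Nat.sub_self, pow_zero, pow_one]
  conv_lhs => arg 2; rw [hc]
  exact (key n fun i _ => c i).choose_spec.2

/-- Witt vectors all of whose components are divisible by a high power of `p` are divisible by
a power of `p`. -/
theorem exists_pow_mul_eq_of_dvd_coeff (x : WittVector p R) {u : ℕ}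
    (h : ∀ i, (p : R) ^ (u + 1) ∣ x.coeff i) : ∃ y : WittVector p R, (p : WittVector p R) ^ u * y = x := by
  have hg : ∀ n, ∃ c, ghostComponent n x = (p : R) ^ (n + (u + 1)) * c := fun n =>
    (forall_dvd_coeff_iff hR x n (Nat.le_add_left 1 u)).mp (fun i _ => h i) n le_rfl
  choose c hc using hg
  obtain ⟨y, hy⟩ := exists_of_ghostComponent (p := p) (fun n => (p : R) ^ (n + 1) * c n) (fun n => dvd_mul_right _ _)
  refine ⟨y, eq_of_ghostComponent_eq hR fun n => ?_⟩
  rw [map_mul, map_pow, map_natCast, hy, hc]; ring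

theorem mem_ker_truncate_of_pow_mul {y : WittVector p R} {u r : ℕ}
    (h : (p : WittVector p R) ^ u * y ∈ RingHom.ker (truncate (p := p) (R := R) r)) :
    y ∈ RingHom.ker (truncate (p := p) (R := R) r) := by
  rw [mem_ker_truncate] at h ⊢
  have h0 : ∀ n < r, ghostComponent n y = ghostComponent n (0 : WittVector p R) := by
    intro n hn
    rw [map_zero]
    apply pow_cancel hR u
    have : ghostComponent n ((p : WittVector p R) ^ u * y) = 0 := by
      rw [ghostComponent_eq_sum]
      refine Finset.sum_eq_zero fun i hi => ?_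
      rw [h i (lt_of_le_of_lt (Nat.lt_succ_iff.mp (Finset.mem_range.mp hi)) hn),
        zero_pow (pow_ne_zero _ hp.out.ne_zero), mul_zero]
    rwa [map_mul, map_pow, map_natCast] at this
  intro i hi
  rw [coeff_eq_of_ghostComponent_eq hR h0 i hi, zero_coeff]

theorem exists_truncate_solution (a : WittVector p R) (m u : ℕ)
    (h : ∃ z : WittVector p R, ∀ i < m, (p : R) ^ (u + 1) ∣ ((p : WittVector p R) ^ u * z - a).coeff i) :
    ∃ x : WittVector p R, (p : WittVector p R) ^ u * x - a ∈ RingHom.ker (truncate (p := p) (R := R) m) := by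
  obtain ⟨z, hz⟩ := h
  set d := (p : WittVector p R) ^ u * z - a
  obtain ⟨y, hy⟩ := exists_pow_mul_eq_of_dvd_coeff hR (init m d) (u := u) fun i => by
    simp only [init, select, coeff_mk]
    split_ifs with hi
    · exact hz i hi
    · exact dvd_zero _
  refine ⟨z - y, ?_⟩
  rw [mul_sub, hy, show (p : WittVector p R) ^ u * z - init m d - a = d - init m d by simp only [d]; abel,
    mem_ker_truncate]
  intro i hi
  have hd : d - init m d = tail m d := sub_eq_of_eq_add' (init_add_tail d m).symm
  rw [hd]
  simp only [tail, select, coeff_mk]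
  exact if_neg (not_le.mpr hi)

theorem mem_span_pow_of_forall (u : ℕ) (x : WittVector p R)
    (h : ∀ r, ∃ z, x - (p : WittVector p R) ^ u * z ∈ RingHom.ker (truncate (p := p) (R := R) r)) :
    x ∈ Ideal.span {(p : WittVector p R) ^ u} := by
  choose z hz using h
  have hcomp : ∀ r, ∀ i < r, (z r).coeff i = (z (i + 1)).coeff i := by
    intro r i hi
    have h1 : x - (p : WittVector p R) ^ u * z r ∈ RingHom.ker (truncate (p := p) (R := R) (i + 1)) := by
      have := hz r
      rw [mem_ker_truncate] at this ⊢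
      exact fun j hj => this j (by omega)
    have h2 := mem_ker_truncate_of_pow_mul hR (u := u) (r := i + 1) (y := z (i + 1) - z r)
      (by rw [mul_sub]; simpa using sub_mem h1 (hz (i + 1)))
    have h3 : truncate (i + 1) (z (i + 1)) = truncate (i + 1) (z r) := by
      rw [← sub_eq_zero, ← map_sub]; exact h2
    simpa [coeff_truncate] using (congrArg (fun v => TruncatedWittVector.coeff ⟨i, i.lt_succ_self⟩ v) h3).symm
  refine Ideal.mem_span_singleton.mpr ⟨mk p fun i => (z (i + 1)).coeff i, ?_⟩
  rw [← sub_eq_zero]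
  ext i
  rw [zero_coeff]
  have h1 : (mk p fun i => (z (i + 1)).coeff i) - z (i + 1) ∈ RingHom.ker (truncate (p := p) (R := R) (i + 1)) := by
    rw [RingHom.mem_ker, map_sub, sub_eq_zero]
    ext j
    rw [coeff_truncate, coeff_truncate, coeff_mk, hcomp (i + 1) j j.2]
  have h2 := sub_mem (hz (i + 1)) (Ideal.mul_mem_left _ ((p : WittVector p R) ^ u) h1)
  rw [mem_ker_truncate] at h2
  convert h2 i i.lt_succ_self using 2
  ring

end TorsionFree

section Complete

variable (p R)

/-- The kernel of `W(R) → W_n(R/p^s)`. -/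
noncomputable def nbhd (n s : ℕ) : Ideal (WittVector p R) :=
  RingHom.ker ((truncate (p := p) n).comp (WittVector.map (Ideal.Quotient.mk (Ideal.span {(p : R)} ^ s))))

variable {p R}

theorem mem_nbhd_iff {n s : ℕ} {x : WittVector p R} :
    x ∈ nbhd p R n s ↔ ∀ i < n, x.coeff i ∈ Ideal.span {(p : R)} ^ s := by
  rw [nbhd, RingHom.mem_ker, RingHom.comp_apply, ← RingHom.mem_ker, mem_ker_truncate]
  simp only [map_coeff, Ideal.Quotient.eq_zero_iff_mem]

theorem sub_mem_nbhd_iff {n s : ℕ} {x y : WittVector p R} :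
    x - y ∈ nbhd p R n s ↔ ∀ i < n, x.coeff i - y.coeff i ∈ Ideal.span {(p : R)} ^ s := by
  rw [nbhd, RingHom.sub_mem_ker_iff, RingHom.comp_apply, RingHom.comp_apply]
  constructor
  · intro h i hi
    have := congrArg (fun v => TruncatedWittVector.coeff ⟨i, hi⟩ v) h
    rw [coeff_truncate, coeff_truncate, map_coeff, map_coeff] at this
    exact Ideal.Quotient.eq.mp this
  · intro h
    ext i
    rw [coeff_truncate, coeff_truncate, map_coeff, map_coeff]
    exact Ideal.Quotient.eq.mpr (h i i.2)

theorem natCast_pow_mem_nbhd {n s j : ℕ} (h : s * n ≤ j) :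
    (p : WittVector p R) ^ j ∈ nbhd p R n s := by
  obtain ⟨k, rfl⟩ := Nat.exists_eq_add_of_le h
  rw [pow_add]
  refine Ideal.mul_mem_right _ _ ?_
  rw [nbhd, RingHom.mem_ker, RingHom.comp_apply, map_pow, map_natCast, ← RingHom.mem_ker]
  refine natCast_pow_mem_ker_truncate ?_ n
  rw [← map_natCast (Ideal.Quotient.mk (Ideal.span {(p : R)} ^ s)), ← map_pow, Ideal.Quotient.eq_zero_iff_mem]
  exact Ideal.pow_mem_pow (Ideal.mem_span_singleton_self _) s

theorem eq_zero_of_forall_mem_nbhd [IsHausdorff (Ideal.span {(p : R)}) R] {x : WittVector p R}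
    (h : ∀ n s, x ∈ nbhd p R n s) : x = 0 := by
  ext i
  rw [zero_coeff]
  refine IsHausdorff.haus' (I := Ideal.span {(p : R)}) _ fun s => ?_
  rw [SModEq.zero, smul_eq_mul, Ideal.mul_top]
  exact mem_nbhd_iff.mp (h (i + 1) s) i i.lt_succ_self

theorem exists_limit [IsPrecomplete (Ideal.span {(p : R)}) R] (x : ℕ → WittVector p R)
    (hx : ∀ j, x (j + 1) - x j ∈ Ideal.span {(p : WittVector p R) ^ j}) :
    ∃ l, ∀ n s j, s * n ≤ j → l - x j ∈ nbhd p R n s := by
  have hmono : ∀ n s j k, s * n ≤ j → j ≤ k → x k - x j ∈ nbhd p R n s := by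
    intro n s j k hj hjk
    induction k, hjk using Nat.le_induction with
    | base => simp
    | succ k hk ih =>
      obtain ⟨c, hc⟩ := Ideal.mem_span_singleton.mp (hx k)
      rw [← sub_add_sub_cancel (x (k + 1)) (x k) (x j), hc]
      exact add_mem (Ideal.mul_mem_right _ _ (natCast_pow_mem_nbhd (hj.trans hk))) ih
  have hlim : ∀ i, ∃ l : R, ∀ s, (x (s * (i + 1))).coeff i - l ∈ Ideal.span {(p : R)} ^ s := by
    intro i
    obtain ⟨l, hl⟩ := IsPrecomplete.prec' (I := Ideal.span {(p : R)}) (fun s => (x (s * (i + 1))).coeff i)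
      (fun {m k} hmk => by
        rw [SModEq.sub_mem, smul_eq_mul, Ideal.mul_top, ← neg_sub, neg_mem_iff]
        exact sub_mem_nbhd_iff.mp (hmono (i + 1) m _ _ le_rfl (Nat.mul_le_mul_right _ hmk)) i i.lt_succ_self)
    exact ⟨l, fun s => by simpa [SModEq.sub_mem, Ideal.mul_top] using hl s⟩
  choose l hl using hlim
  refine ⟨mk p l, fun n s j hj => sub_mem_nbhd_iff.mpr fun i hi => ?_⟩
  have h1 := sub_mem_nbhd_iff.mp (hmono (i + 1) s (s * (i + 1)) j le_rfl
    ((Nat.mul_le_mul_left s hi).trans hj)) i i.lt_succ_self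
  rw [coeff_mk, show l i - (x j).coeff i = -((x (s * (i + 1))).coeff i - l i) - ((x j).coeff i - (x (s * (i + 1))).coeff i) by ring]
  exact sub_mem (neg_mem (hl i s)) h1

theorem isAdicComplete_of_pow_eq {I : Ideal (WittVector p R)} (J : Ideal (WittVector p R)) (c : ℕ)
    (hI : ∀ m, I ^ (m + c) = Ideal.span {(p : WittVector p R) ^ m} * J)
    (hJ : ∀ x : WittVector p R, (∀ s, ∃ y ∈ J, x - y ∈ nbhd p R 1 s) → x ∈ J)
    [IsAdicComplete (Ideal.span {(p : R)}) R] : IsAdicComplete I (WittVector p R) := by
  have hIle : ∀ m, I ^ (m + c) ≤ Ideal.span {(p : WittVector p R) ^ m} := fun m =>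
    (hI m).le.trans Ideal.mul_le_left
  refine { haus' := fun x hx => ?_, prec' := fun f hf => ?_ }
  · refine eq_zero_of_forall_mem_nbhd fun n s => ?_
    have := hx (s * n + c)
    rw [SModEq.zero, smul_eq_mul, Ideal.mul_top] at this
    obtain ⟨y, rfl⟩ := Ideal.mem_span_singleton.mp (hIle _ this)
    exact Ideal.mul_mem_right _ _ (natCast_pow_mem_nbhd le_rfl)
  · have hz : ∀ m, ∃ z ∈ J, f (m + c + 1) - f (m + c) = (p : WittVector p R) ^ m * z := by
      intro m
      have := (hf (Nat.le_succ (m + c))).symm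
      rw [SModEq.sub_mem, smul_eq_mul, Ideal.mul_top, hI] at this
      exact Ideal.mem_span_singleton_mul.mp this |>.imp fun z hz => ⟨hz.1, hz.2.symm⟩
    choose z hzJ hz using hz
    obtain ⟨l, hl⟩ := exists_limit (fun m => f (m + c)) fun m =>
      Ideal.mem_span_singleton.mpr ⟨z m, by rw [← hz, Nat.add_right_comm]⟩
    refine ⟨l, fun n => ?_⟩
    rw [SModEq.sub_mem, smul_eq_mul, Ideal.mul_top]
    suffices ∀ m, l - f (m + c) ∈ I ^ (m + c) by
      rcases le_or_gt c n with h | h
      · obtain ⟨m, rfl⟩ := Nat.exists_eq_add_of_le' h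
        exact neg_sub l (f (m + c)) ▸ neg_mem (this m)
      · have h1 := hf (show n ≤ 0 + c by omega)
        rw [SModEq.sub_mem, smul_eq_mul, Ideal.mul_top] at h1
        have h2 := Ideal.pow_le_pow_right (show n ≤ 0 + c by omega) (this 0)
        simpa using sub_mem h1 h2
    intro m
    obtain ⟨y, hy⟩ := exists_limit (fun k => ∑ i ∈ Finset.range k, (p : WittVector p R) ^ i * z (m + i)) fun k => by
      simp only [Finset.sum_range_succ, add_sub_cancel_left]
      exact Ideal.mem_span_singleton.mpr (dvd_mul_right _ _)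
    have hyJ : y ∈ J := hJ y fun s => ⟨_, J.sum_mem fun i _ => J.mul_mem_left _ (hzJ _), hy 1 s (s * 1) le_rfl⟩
    rw [hI]
    refine Ideal.mem_span_singleton_mul.mpr ⟨y, hyJ, (sub_eq_zero.mp <| eq_zero_of_forall_mem_nbhd fun n s => ?_).symm⟩
    have htel : ∀ k, (p : WittVector p R) ^ m * ∑ i ∈ Finset.range k, (p : WittVector p R) ^ i * z (m + i) =
        f (m + k + c) - f (m + c) := by
      intro k
      induction k with
      | zero => simp
      | succ k ih =>
        rw [Finset.sum_range_succ, mul_add, ih, ← mul_assoc, ← pow_add, ← hz,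
          show m + (k + 1) + c = m + k + c + 1 by ring]
        abel
    have h1 := hl n s (m + s * n) (Nat.le_add_left _ _)
    have h2 := Ideal.mul_mem_left _ ((p : WittVector p R) ^ m) (hy n s (s * n) le_rfl)
    rw [mul_sub, htel] at h2
    have := sub_mem h1 h2
    convert this using 1
    ring

end Complete

end Groth.Agent.CAlg8.Witt
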