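import Mathlib
import Groth.Agent.CAlg8.Witt
import Groth.Agent.CAlg8.FiltLift

/-! The filtration of `W(R)` by the kernels of the truncations, as input to `FiltLift`. -/

set_option autoImplicit false

open WittVector Groth.Agent.CAlg8
open Groth.Agent.CAlg8.FiltLift (Hyp)
universe u v

namespace Groth.Agent.CAlg8.WittFilt

variable {p : ℕ} [hp : Fact p.Prime]

theorem antitone_ker_truncate (R : Type u) [CommRing R] :
    Antitone fun n => RingHom.ker (truncate (p := p) (R := R) n) := by
  intro m n h x hx
  rw [mem_ker_truncate] at hx ⊢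
  exact fun i hi => hx i (lt_of_lt_of_le hi h)

theorem ker_truncate_one (R : Type u) [CommRing R] :
    RingHom.ker (truncate (p := p) (R := R) 1) = RingHom.ker (constantCoeff : WittVector p R →+* R) := by
  ext x
  rw [mem_ker_truncate, RingHom.mem_ker]
  exact ⟨fun h => h 0 one_pos, fun h i hi => by rwa [Nat.lt_one_iff.mp hi]⟩

theorem iInf_ker_truncate (R : Type u) [CommRing R] :
    ⨅ n, RingHom.ker (truncate (p := p) (R := R) n) = ⊥ := by
  refine eq_bot_iff.mpr fun x hx => ?_
  rw [Submodule.mem_iInf] at hx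
  exact WittVector.ext fun i => (mem_ker_truncate _ _).mp (hx (i + 1)) i (Nat.lt_succ_self i) |>.trans (zero_coeff p R i).symm

theorem sub_mem_iff {R : Type u} [CommRing R] {x y : WittVector p R} {n : ℕ} :
    x - y ∈ RingHom.ker (truncate (p := p) n) ↔ ∀ i < n, x.coeff i = y.coeff i := by
  rw [RingHom.mem_ker, map_sub, sub_eq_zero, TruncatedWittVector.ext_iff]
  simp only [coeff_truncate]
  exact ⟨fun h i hi => h ⟨i, hi⟩, fun h i => h i i.2⟩

theorem complete {R : Type u} [CommRing R] (x : ℕ → WittVector p R)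
    (h : ∀ n, x (n + 1) - x n ∈ RingHom.ker (truncate (p := p) n)) :
    ∃ y, ∀ n, y - x n ∈ RingHom.ker (truncate (p := p) n) := by
  refine ⟨WittVector.mk p fun i => (x (i + 1)).coeff i, fun n => sub_mem_iff.mpr fun i hi => ?_⟩
  rw [coeff_mk]
  induction n, (Nat.succ_le_of_lt hi : i + 1 ≤ n) using Nat.le_induction with
  | base => rfl
  | succ n hn ih => rw [ih (by omega), sub_mem_iff.mp (h n) i (by omega)]

theorem exists_pow_le {R : Type u} [CommRing R] (hR : IsNilpotent (p : R)) (n : ℕ) :
    ∃ m, RingHom.ker (truncate (p := p) (R := R) 1) ^ m ≤ RingHom.ker (truncate (p := p) n) := by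
  obtain ⟨N, hN⟩ := hR
  refine ⟨N * n + 1, ?_⟩
  rw [ker_truncate_one, Witt.ker_constantCoeff_pow_succ]
  refine (Ideal.mul_le_left).trans ?_
  rw [Ideal.span_singleton_le_iff_mem]
  exact Witt.natCast_pow_mem_ker_truncate hN n

theorem map_ker_truncate {R S : Type u} [CommRing R] [CommRing S] {φ : S →+* R} (hφ : Function.Surjective φ) (n : ℕ) :
    (RingHom.ker (truncate (p := p) (R := S) n)).map (WittVector.map φ) =
      RingHom.ker (truncate (p := p) (R := R) n) := by
  refine le_antisymm (Ideal.map_le_iff_le_comap.mpr fun x hx => ?_) fun y hy => ?_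
  · rw [Ideal.mem_comap, mem_ker_truncate]
    rw [mem_ker_truncate] at hx
    intro i hi
    rw [map_coeff, hx i hi, map_zero]
  · choose g hg using hφ
    rw [mem_ker_truncate] at hy
    have : y = WittVector.map φ (WittVector.mk p fun i => if i < n then 0 else g (y.coeff i)) := by
      refine WittVector.ext fun i => ?_
      rw [map_coeff, coeff_mk]
      split
      · rw [map_zero]; exact hy i ‹_›
      · rw [hg]
    rw [this]
    refine Ideal.mem_map_of_mem _ ?_
    rw [mem_ker_truncate]
    intro i hi
    rw [coeff_mk, if_pos hi]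

theorem exists_pow_mem_of_isNilpotent_coeff {R : Type u} [CommRing R] (hR : IsNilpotent (p : R))
    {x : WittVector p R} (hx : IsNilpotent (x.coeff 0)) (n : ℕ) :
    ∃ k, x ^ k ∈ RingHom.ker (truncate (p := p) n) := by
  obtain ⟨k, hk⟩ := hx
  obtain ⟨m, hm⟩ := exists_pow_le hR n
  refine ⟨k * m, ?_⟩
  rw [pow_mul]
  refine hm (Ideal.pow_mem_pow ?_ m)
  rw [ker_truncate_one, RingHom.mem_ker, map_pow]
  exact hk

theorem hyp_map {R S : Type u} [CommRing R] [CommRing S] {φ : S →+* R} (hφ : Function.Surjective φ)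
    (hnil : ∀ a, φ a = 0 → IsNilpotent a) (hS : IsNilpotent (p : S)) :
    Hyp (WittVector.map φ : WittVector p S →+* WittVector p R) fun n => RingHom.ker (truncate (p := p) (R := S) n) where
  surj := WittVector.map_surjective φ hφ
  zero := eq_top_iff.mpr fun x _ => by rw [mem_ker_truncate]; omega
  anti := antitone_ker_truncate S
  sepA := iInf_ker_truncate S
  sepB := by simp only [map_ker_truncate hφ]; exact iInf_ker_truncate R
  complete := complete
  nil := by
    intro n x hx hx'
    refine exists_pow_mem_of_isNilpotent_coeff hS ?_ _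
    rcases Nat.eq_zero_or_pos n with rfl | hn
    · rw [map_ker_truncate hφ, mem_ker_truncate] at hx'
      exact hnil _ (by rw [← map_coeff]; exact hx' 0 one_pos)
    · rw [mem_ker_truncate] at hx
      rw [hx 0 hn]
      exact IsNilpotent.zero

theorem hyp_mk {R : Type u} [CommRing R] (hR : IsNilpotent (p : R)) :
    Hyp (Ideal.Quotient.mk (RingHom.ker (truncate (p := p) (R := R) 1)))
      fun n => RingHom.ker (truncate (p := p) (R := R) n) where
  surj := Ideal.Quotient.mk_surjective
  zero := eq_top_iff.mpr fun x _ => by rw [mem_ker_truncate]; omega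
  anti := antitone_ker_truncate R
  sepA := iInf_ker_truncate R
  sepB := eq_bot_iff.mpr ((iInf_le _ 1).trans (le_of_eq (Ideal.map_quotient_self _)))
  complete := complete
  nil := by
    intro n x hx hx'
    refine exists_pow_mem_of_isNilpotent_coeff hR ?_ _
    rcases Nat.eq_zero_or_pos n with rfl | hn
    · rw [Ideal.map_quotient_self, Ideal.mem_bot, Ideal.Quotient.eq_zero_iff_mem, mem_ker_truncate] at hx'
      rw [hx' 0 one_pos]
      exact IsNilpotent.zero
    · rw [mem_ker_truncate] at hx
      rw [hx 0 hn]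
      exact IsNilpotent.zero

theorem ker_map_le_jacobson {R S : Type u} [CommRing R] [CommRing S] {φ : S →+* R} (hφ : Function.Surjective φ)
    (hnil : ∀ a, φ a = 0 → IsNilpotent a) (hS : IsNilpotent (p : S)) :
    RingHom.ker (WittVector.map φ : WittVector p S →+* WittVector p R) ≤ Ideal.jacobson ⊥ := by
  intro x hx
  rw [Ideal.mem_jacobson_bot]
  intro y
  have h := (hyp_map hφ hnil hS).isUnit_one_sub (x := -(x * y)) fun n =>
    exists_pow_mem_of_isNilpotent_coeff hS (hnil _ ?_) n
  · rwa [sub_neg_eq_add, add_comm] at h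
  · have : WittVector.map φ (-(x * y)) = 0 := by rw [map_neg, map_mul, RingHom.mem_ker.mp hx, zero_mul, neg_zero]
    rw [← map_coeff, this, zero_coeff]

end Groth.Agent.CAlg8.WittFilt
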